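import Mathlib
import Cfsg.Agent.H144.Decomp

/-!
# Products of two isometries of order prime to `N` (symplectic spaces)

* `PrB B N g` : `g = X Y` with isometries `X`, `Y`, `X ^ k = Y ^ k = 1`, `k` prime to `N`.
* `Rad B P` : the unipotent radical of the stabilizer of the isotropic subspace `P`.
* `prB_levi` : `u L u'` with `L = X Y` in a Levi subgroup, `X`, `Y` without fixed points in the radicals.
* `prB_corner` : `u u'`.
* `PrB.glue` : orthogonal sums.
-/

set_option autoImplicit false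
open Polynomial

noncomputable section

namespace Cfsg.Agent.H649.PwSp

open Cfsg.Agent.H144

/-- If `Z` normalizes the finite subgroup `R` and has no fixed points in `R`, then `u Z` is conjugate to `Z`. -/
theorem conj_of_fpf {G : Type*} [Group G] (R : Subgroup G) [Finite R] (Z : G)
    (hZ : ∀ r ∈ R, Z * r * Z⁻¹ ∈ R) (hC : ∀ r ∈ R, Z * r = r * Z → r = 1) :
    ∀ u ∈ R, ∃ r ∈ R, u * Z = r * Z * r⁻¹ := by
  let φ : R → R := fun r => ⟨r * (Z * (r : G)⁻¹ * Z⁻¹), R.mul_mem r.2 (hZ _ (R.inv_mem r.2))⟩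
  have hφ : Function.Injective φ := by
    intro a b hab
    have h1 : (a : G) * (Z * (a : G)⁻¹ * Z⁻¹) = b * (Z * (b : G)⁻¹ * Z⁻¹) := congrArg Subtype.val hab
    have h2 := hC ((b : G)⁻¹ * a) (R.mul_mem (R.inv_mem b.2) a.2) (by
      have h3 : (b : G)⁻¹ * a * Z = Z * ((b : G)⁻¹ * a) := by
        calc (b : G)⁻¹ * a * Z = (b : G)⁻¹ * (a * (Z * (a : G)⁻¹ * Z⁻¹)) * Z * a := by group
          _ = (b : G)⁻¹ * (b * (Z * (b : G)⁻¹ * Z⁻¹)) * Z * a := by rw [h1]
          _ = _ := by group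
      exact h3.symm)
    exact Subtype.ext (inv_mul_eq_one.1 h2).symm
  intro u hu
  obtain ⟨r, hr⟩ := (Finite.injective_iff_surjective.1 hφ) ⟨u, hu⟩
  refine ⟨r, r.2, ?_⟩
  have h1 : (r : G) * (Z * (r : G)⁻¹ * Z⁻¹) = u := congrArg Subtype.val hr
  rw [← h1]
  group

variable {F V : Type*} [Field F] [AddCommGroup V] [Module F V]

/-- `g` is a product of two isometries whose orders are prime to `N` -/
def PrB (B : LinearMap.BilinForm F V) (N : ℕ) (g : V ≃ₗ[F] V) : Prop :=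
  ∃ (X Y : V ≃ₗ[F] V) (k : ℕ), Iso B X ∧ Iso B Y ∧ g = X * Y ∧ k.Coprime N ∧ X ^ k = 1 ∧ Y ^ k = 1

/-- the unipotent radical -/
def Rad (B : LinearMap.BilinForm F V) (P : Submodule F V) : Subgroup (V ≃ₗ[F] V) where
  carrier := {h | Iso B h ∧ (∀ v ∈ P, h v = v) ∧ ∀ v ∈ perp B P, h v - v ∈ P}
  one_mem' := ⟨Iso.one B, fun _ _ => rfl, fun v _ => by
    have : (1 : V ≃ₗ[F] V) v - v = 0 := sub_self v
    rw [this]; exact P.zero_mem⟩
  mul_mem' := by
    rintro a b ⟨h1, h2, h3⟩ ⟨k1, k2, k3⟩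
    refine ⟨h1.mul k1, fun v hv => ?_, fun v hv => ?_⟩
    · rw [LinearEquiv.mul_apply, k2 v hv, h2 v hv]
    · have e : (a * b) v - v = (b v - v) + (a v - v) := by
        have e2 : a (b v - v) = b v - v := h2 _ (k3 v hv)
        rw [map_sub] at e2
        rw [LinearEquiv.mul_apply, ← e2]; abel
      rw [e]
      exact P.add_mem (k3 v hv) (h3 v hv)
  inv_mem' := by
    rintro a ⟨h1, h2, h3⟩
    have hi : ∀ v ∈ P, a⁻¹ v = v := fun v hv => by
      nth_rewrite 1 [← h2 v hv]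
      rw [inv_app]
    refine ⟨h1.inv, hi, fun v hv => ?_⟩
    have hv' : a⁻¹ v ∈ perp B P := by
      intro w hw
      rw [h1.inv.adj', inv_inv, h2 w hw]
      exact hv w hw
    have h4 := h3 _ hv'
    rw [app_inv] at h4
    have := P.neg_mem h4
    rwa [neg_sub] at this

theorem mem_Rad {B : LinearMap.BilinForm F V} {P : Submodule F V} {h : V ≃ₗ[F] V} :
    h ∈ Rad B P ↔ Iso B h ∧ (∀ v ∈ P, h v = v) ∧ ∀ v ∈ perp B P, h v - v ∈ P := Iff.rfl

theorem uni_mem_Rad {B : LinearMap.BilinForm F V} {Q : Submodule F V} (hQ : Orth B Q Q)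
    {n : Module.End F V} (hn : n ∈ Skew B Q) : uni n (skew_sq hn) ∈ Rad B Q := by
  refine ⟨skew_iso hQ hn, fun v hv => ?_, fun v _ => ?_⟩
  · rw [uni_apply, hn.2.1 v hv, add_zero]
  · rw [uni_apply, add_sub_cancel_left]
    exact hn.1 v

section FD

variable [FiniteDimensional F V]

theorem Rad.conj {B : LinearMap.BilinForm F V} {P : Submodule F V} {Z : V ≃ₗ[F] V} (hZ : Iso B Z)
    (hZP : ∀ v ∈ P, Z v ∈ P) {r : V ≃ₗ[F] V} (hr : r ∈ Rad B P) : Z * r * Z⁻¹ ∈ Rad B P := by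
  obtain ⟨h1, h2, h3⟩ := hr
  have hZi := inv_mem_of_mem hZP
  refine ⟨(hZ.mul h1).mul hZ.inv, fun v hv => ?_, fun v hv => ?_⟩
  · rw [LinearEquiv.mul_apply, LinearEquiv.mul_apply, h2 _ (hZi v hv), app_inv]
  · have hv' : Z⁻¹ v ∈ perp B P := by
      intro w hw
      rw [hZ.inv.adj', inv_inv]
      exact hv _ (hZP w hw)
    have e : (Z * r * Z⁻¹) v - v = Z (r (Z⁻¹ v) - Z⁻¹ v) := by
      rw [map_sub, app_inv]; rfl
    rw [e]
    exact hZP _ (h3 _ hv')

/-- no fixed points in the radical -/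
theorem fpf_Rad {B : LinearMap.BilinForm F V} (hB : Alt B) (hN : Nond B) {P H Q : Submodule F V}
    (hQ : Orth B Q Q) (hPP : Orth B P P) (hPH : Orth B P H) (hHQ : Orth B H Q) (htop : P ⊔ (H ⊔ Q) = ⊤)
    {Z : V ≃ₗ[F] V} (f : F[X]) (hf0 : ∀ v ∈ H ⊔ Q, aeval (Z : Module.End F V) f v = 0)
    (hfi : ∀ v ∈ P, aeval (Z : Module.End F V) f v = 0 → v = 0)
    {h : V ≃ₗ[F] V} (hh : h ∈ Rad B P) (hc : Z * h = h * Z) : h = 1 := by
  obtain ⟨h1, h2, h3⟩ := hh
  have hc' : ∀ v, h (Z v) = Z (h v) := fun v => (LinearEquiv.congr_fun hc v).symm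
  have hcf : ∀ p : F[X], ∀ v, h (aeval (Z : Module.End F V) p v) = aeval (Z : Module.End F V) p (h v) := by
    intro p v
    exact comm_aeval (c := (Z : Module.End F V)) (g := (h : V →ₗ[F] V)) hc' p v
  -- on `H`
  have hH : ∀ v ∈ H, h v = v := by
    intro v hv
    have h4 : h v - v ∈ P := h3 v (fun w hw => hPH w hw v hv)
    have h5 := hfi _ h4 (by
      rw [map_sub, ← hcf, hf0 v (Submodule.mem_sup_left hv), map_zero, sub_zero])
    exact sub_eq_zero.1 h5
  have hQQ : ∀ v ∈ Q, h v = v := by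
    intro v hv
    have h4 : h v - v ∈ P := by
      have hfix : ∀ w ∈ P ⊔ H, h w = w := by
        intro w hw
        obtain ⟨a, ha, b, hb, rfl⟩ := Submodule.mem_sup.1 hw
        rw [map_add, h2 a ha, hH b hb]
      have hperp : ∀ w ∈ P ⊔ H, B w (h v - v) = 0 := by
        intro w hw
        rw [map_sub, ← h1 w v, hfix w hw, sub_self]
      obtain ⟨p, hp, y, hy, e⟩ := Submodule.mem_sup.1 (show h v - v ∈ P ⊔ (H ⊔ Q) by rw [htop]; trivial)
      obtain ⟨a, ha, q, hq, rfl⟩ := Submodule.mem_sup.1 hy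
      rw [← e] at hperp
      have hq0 : q = 0 := by
        apply hN
        intro w
        apply hB.zero
        obtain ⟨p', hp', y', hy', rfl⟩ := Submodule.mem_sup.1 (show w ∈ P ⊔ (H ⊔ Q) by rw [htop]; trivial)
        obtain ⟨a', ha', q', hq', rfl⟩ := Submodule.mem_sup.1 hy'
        have h6 := hperp p' (Submodule.mem_sup_left hp')
        rw [map_add, map_add, hPP p' hp' p hp, hPH p' hp' a ha, zero_add, zero_add] at h6
        simp only [map_add, LinearMap.add_apply]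
        rw [h6, hHQ a' ha' q hq, hQ q' hq' q hq]
        simp
      have ha0 : a = 0 := by
        apply hN
        intro w
        apply hB.zero
        obtain ⟨p', hp', y', hy', rfl⟩ := Submodule.mem_sup.1 (show w ∈ P ⊔ (H ⊔ Q) by rw [htop]; trivial)
        obtain ⟨a', ha', q', hq', rfl⟩ := Submodule.mem_sup.1 hy'
        have h6 := hperp a' (Submodule.mem_sup_right ha')
        rw [hq0, add_zero, map_add, hB.zero (hPH p hp a' ha'), zero_add] at h6
        simp only [map_add, LinearMap.add_apply]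
        rw [h6, hPH p' hp' a ha, hB.zero (hHQ a ha q' hq')]
        simp
      rw [← e, ha0, hq0]
      simpa using hp
    have h5 := hfi _ h4 (by
      rw [map_sub, ← hcf, hf0 v (Submodule.mem_sup_right hv), map_zero, sub_zero])
    exact sub_eq_zero.1 h5
  ext v
  obtain ⟨p', hp', y', hy', rfl⟩ := Submodule.mem_sup.1 (show v ∈ P ⊔ (H ⊔ Q) by rw [htop]; trivial)
  obtain ⟨a', ha', q', hq', rfl⟩ := Submodule.mem_sup.1 hy'
  rw [map_add, map_add, h2 p' hp', hH a' ha', hQQ q' hq']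
  rfl

theorem pow_conj (a r : V ≃ₗ[F] V) (k : ℕ) (h : a ^ k = 1) : (r * a * r⁻¹) ^ k = 1 := by
  rw [conj_pow, h, mul_one, mul_inv_cancel]

variable [Finite F]

theorem finite_lequiv (F V : Type*) [Field F] [AddCommGroup V] [Module F V] [FiniteDimensional F V]
    [Finite F] : Finite (V ≃ₗ[F] V) := by
  have : Finite V := Module.finite_of_finite F
  exact Finite.of_injective (fun g : V ≃ₗ[F] V => (g : V → V)) DFunLike.coe_injective

/-- **The engine.** -/
theorem prB_levi {B : LinearMap.BilinForm F V} (hB : Alt B) (hN : Nond B) {P H Q : Submodule F V}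
    (hP : Orth B P P) (hQ : Orth B Q Q) (hPH : Orth B P H) (hHQ : Orth B H Q) (htop : P ⊔ (H ⊔ Q) = ⊤)
    {X Y : V ≃ₗ[F] V} (hX : Iso B X) (hY : Iso B Y) (hXQ : ∀ v ∈ Q, X v ∈ Q) (hYP : ∀ v ∈ P, Y v ∈ P)
    (fX fY : F[X]) (hX0 : ∀ v ∈ P ⊔ H, aeval (X : Module.End F V) fX v = 0)
    (hXi : ∀ v ∈ Q, aeval (X : Module.End F V) fX v = 0 → v = 0)
    (hY0 : ∀ v ∈ H ⊔ Q, aeval (Y : Module.End F V) fY v = 0)
    (hYi : ∀ v ∈ P, aeval (Y : Module.End F V) fY v = 0 → v = 0)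
    {k N : ℕ} (hkN : k.Coprime N) (hXk : X ^ k = 1) (hYk : Y ^ k = 1)
    {u u' : V ≃ₗ[F] V} (hu : u ∈ Rad B Q) (hu' : u' ∈ Rad B P) : PrB B N (u * (X * Y) * u') := by
  have := finite_lequiv F V
  obtain ⟨r, hr, er⟩ := conj_of_fpf (Rad B Q) X (fun r hr => Rad.conj hX hXQ hr)
    (fun r hr hc => fpf_Rad hB hN (P := Q) (H := H) (Q := P) hP hQ (hHQ.symm hB) (hPH.symm hB)
      (by rw [← htop]; ac_rfl) fX (fun v hv => hX0 v (by rwa [sup_comm] at hv)) hXi hr hc) u hu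
  obtain ⟨s, hs, es⟩ := conj_of_fpf (Rad B P) Y⁻¹
    (fun r hr => Rad.conj hY.inv (inv_mem_of_mem hYP) hr)
    (fun r hr hc => fpf_Rad hB hN hQ hP hPH hHQ htop fY hY0 hYi hr (by
      have h1 : r * Y = Y * r := by
        calc r * Y = Y * (Y⁻¹ * r) * Y := by group
          _ = Y * (r * Y⁻¹) * Y := by rw [hc]
          _ = _ := by group
      exact h1.symm)) u'⁻¹ (Subgroup.inv_mem _ hu')
  have es' : Y * u' = s * Y * s⁻¹ := by
    have := congrArg (fun t => t⁻¹) es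
    simp only [mul_inv_rev, inv_inv] at this
    rw [this]
    group
  refine ⟨r * X * r⁻¹, s * Y * s⁻¹, k, ((mem_Rad.1 hr).1.mul hX).mul (mem_Rad.1 hr).1.inv,
    ((mem_Rad.1 hs).1.mul hY).mul (mem_Rad.1 hs).1.inv, ?_, hkN, pow_conj X r k hXk, pow_conj Y s k hYk⟩
  rw [← er, ← es']
  group

end FD

end Cfsg.Agent.H649.PwSp
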