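import Mathlib
import Cfsg.Agent.H649.PwSp.Eng

/-!
# Corners

* `levi_ext` : extend `x ∈ GL(P)` by its contragredient on `Q` and the identity on `(P ⊔ Q)^⊥`.
* `prB_corner`, `prB_c1` : `u u'` is a product of conjugates of `X` and `X⁻¹`.
* `PrB.glue`.
-/

set_option autoImplicit false
open Polynomial

noncomputable section

namespace Cfsg.Agent.H649.PwSp

open Cfsg.Agent.H144

variable {F V : Type*} [Field F] [AddCommGroup V] [Module F V] [FiniteDimensional F V]

theorem levi_ext {B : LinearMap.BilinForm F V} (hB : Alt B) {P Q : Submodule F V}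
    (hP : Orth B P P) (hQ : Orth B Q Q) (hNd : Nd B (P ⊔ Q)) (x : P ≃ₗ[F] P) :
    ∃ X : V ≃ₗ[F] V, Iso B X ∧ (∀ v : P, X v = x v) ∧ (∀ v ∈ Q, X v ∈ Q) ∧
      ∀ v ∈ perp B (P ⊔ Q), X v = v := by
  set W := P ⊔ Q with hW
  have hPW : P ≤ W := le_sup_left
  have hQW : Q ≤ W := le_sup_right
  let P' := P.comap W.subtype
  let Q' := Q.comap W.subtype
  let e : P' ≃ₗ[F] P := Submodule.comapSubtypeEquivOfLe hPW
  have he : ∀ v : P', ((e v : P) : V) = ((v : W) : V) := fun v => rfl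
  have hes : ∀ v : P, (((e.symm v : P') : W) : V) = v := fun v => rfl
  have htop : P' ⊔ Q' = ⊤ := by
    rw [eq_top_iff]
    rintro ⟨v, hv⟩ _
    obtain ⟨a, ha, b, hb, rfl⟩ := Submodule.mem_sup.1 (by rw [hW] at hv; exact hv)
    exact Submodule.mem_sup.2 ⟨⟨a, hPW ha⟩, ha, ⟨b, hQW hb⟩, hb, rfl⟩
  obtain ⟨X₁, hX₁, hXx, hXQ⟩ := levi (restrict_alt hB W) (restrict_nond hNd) (P := P') (Q := Q')
    (fun a ha b hb => hP a ha b hb) (fun a ha b hb => hQ a ha b hb) htop (e.trans (x.trans e.symm))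
  obtain ⟨X, hX, hXX, hXp⟩ := ext_iso hB hNd hX₁
  refine ⟨X, hX, fun v => ?_, fun v hv => ?_, hXp⟩
  · have h1 := hXX ⟨v, hPW v.2⟩
    have h2 := hXx ⟨⟨v, hPW v.2⟩, v.2⟩
    rw [h1]
    have h3 := congrArg (fun w : W => (w : V)) h2
    exact h3
  · have h1 := hXX ⟨v, hQW hv⟩
    rw [h1]
    exact hXQ ⟨v, hQW hv⟩ hv

theorem levi_inv_apply {P : Submodule F V} {x : P ≃ₗ[F] P} {X : V ≃ₗ[F] V} (hXx : ∀ v : P, X v = x v)
    (v : P) : X⁻¹ v = (x⁻¹ v : P) := by
  have h1 := hXx (x⁻¹ v)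
  rw [app_inv] at h1
  rw [← h1, inv_app]

/-- an isometry which fixes `P`, preserves `Q` and fixes `(P ⊔ Q)^⊥` is the identity -/
theorem levi_ext_unique {B : LinearMap.BilinForm F V} (hB : Alt B) {P Q : Submodule F V}
    (hQ : Orth B Q Q) (hNd : Nd B (P ⊔ Q)) {D : V ≃ₗ[F] V} (hD : Iso B D)
    (hDQ : ∀ v ∈ Q, D v ∈ Q) (hDP : ∀ v ∈ P, D v = v) (hDp : ∀ v ∈ perp B (P ⊔ Q), D v = v) : D = 1 := by
  ext v
  obtain ⟨y, hy, h, hh, rfl⟩ := Submodule.mem_sup.1 (show v ∈ (P ⊔ Q) ⊔ perp B (P ⊔ Q) by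
    rw [sup_perp hB hNd]; trivial)
  obtain ⟨p, hp, q, hq, rfl⟩ := Submodule.mem_sup.1 hy
  have : D q - q = 0 := by
    have hqq : D q - q ∈ Q := Q.sub_mem (hDQ q hq) hq
    apply hNd _ (Submodule.mem_sup_right hqq)
    intro w hw
    obtain ⟨a, ha, b, hb, rfl⟩ := Submodule.mem_sup.1 hw
    rw [map_add, hQ _ hqq b hb, add_zero, map_sub, LinearMap.sub_apply, sub_eq_zero]
    nth_rewrite 1 [← hDP a ha]
    exact hD q a
  rw [map_add, map_add, hDp h hh, hDP p hp, sub_eq_zero.1 this]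
  rfl

theorem aeval_fix {X : V ≃ₗ[F] V} {v : V} (h : X v = v) (f : F[X]) :
    aeval (X : Module.End F V) f v = f.eval 1 • v := by
  induction f using Polynomial.induction_on' with
  | add p q hp hq => simp only [map_add, LinearMap.add_apply, hp, hq, eval_add, add_smul]
  | monomial k a =>
    have hk : ∀ k : ℕ, ((X : Module.End F V) ^ k) v = v := by
      intro k
      induction k with
      | zero => simp
      | succ k ih =>
        rw [pow_succ', Module.End.mul_apply, ih]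
        exact h
    simp only [aeval_monomial, Module.algebraMap_end_eq_smul_id, Module.End.mul_apply, LinearMap.smul_apply,
      LinearMap.id_apply, hk, eval_monomial, one_pow, mul_one]

variable [Finite F]

/-- **The corner.** -/
theorem prB_corner {B : LinearMap.BilinForm F V} (hB : Alt B) (hN : Nond B) {P Q : Submodule F V}
    (hP : Orth B P P) (hQ : Orth B Q Q) (hNd : Nd B (P ⊔ Q)) {x : P ≃ₗ[F] P} (f : F[X])
    (hf : ∀ v, aeval (x : Module.End F P) f v = 0)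
    (hfi : ∀ v, aeval ((x⁻¹ : P ≃ₗ[F] P) : Module.End F P) f v = 0 → v = 0)
    (h1 : P ⊔ Q = ⊤ ∨ ∀ v, x v = v → v = 0) {k N : ℕ} (hkN : k.Coprime N) (hxk : x ^ k = 1)
    {u u' : V ≃ₗ[F] V} (hu : u ∈ Rad B Q) (hu' : u' ∈ Rad B P) : PrB B N (u * u') := by
  obtain ⟨X, hX, hXx, hXQ, hXp⟩ := levi_ext hB hP hQ hNd x
  have hXi := levi_inv_apply hXx
  have hXP : ∀ v ∈ P, X v ∈ P := fun v hv => by rw [hXx ⟨v, hv⟩]; exact (x ⟨v, hv⟩).2
  have hXp' : ∀ v ∈ perp B (P ⊔ Q), X⁻¹ v = v := fun v hv => by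
    nth_rewrite 1 [← hXp v hv]
    rw [inv_app]
  have hXQi := inv_mem_of_mem hXQ
  have hXPi := inv_mem_of_mem hXP
  have hzero : ∀ v ∈ Q, (∀ w ∈ P, B w v = 0) → v = 0 := by
    intro v hv h0
    apply hNd v (Submodule.mem_sup_right hv)
    intro w hw
    obtain ⟨a, ha, b, hb, rfl⟩ := Submodule.mem_sup.1 hw
    rw [map_add, hQ v hv b hb, hB.zero (h0 a ha), add_zero]
  -- powers
  have hpow : ∀ j : ℕ, ∀ v : P, (X ^ j) v = ((x ^ j) v : P) := by
    intro j
    induction j with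
    | zero => intro v; rfl
    | succ j ih =>
      intro v
      rw [pow_succ', LinearEquiv.mul_apply, ih, hXx, pow_succ', LinearEquiv.mul_apply]
  have hpowQ : ∀ j : ℕ, ∀ v ∈ Q, (X ^ j) v ∈ Q := by
    intro j
    induction j with
    | zero => intro v hv; exact hv
    | succ j ih =>
      intro v hv
      rw [pow_succ', LinearEquiv.mul_apply]
      exact hXQ _ (ih v hv)
  have hpowp : ∀ j : ℕ, ∀ v ∈ perp B (P ⊔ Q), (X ^ j) v = v := by
    intro j
    induction j with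
    | zero => intro v hv; rfl
    | succ j ih =>
      intro v hv
      rw [pow_succ', LinearEquiv.mul_apply, ih v hv, hXp v hv]
  have hpowI : ∀ j : ℕ, Iso B (X ^ j) := by
    intro j
    induction j with
    | zero => exact Iso.one B
    | succ j ih => rw [pow_succ']; exact hX.mul ih
  have hXk : X ^ k = 1 := levi_ext_unique hB hQ hNd (hpowI k) (hpowQ k)
    (fun v hv => by rw [hpow k ⟨v, hv⟩, hxk]; rfl) (hpowp k)
  have hYk : (X⁻¹) ^ k = 1 := by rw [inv_pow, hXk, inv_one]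
  -- polynomials on `P`
  have hfP : ∀ v ∈ P, aeval (X : Module.End F V) f v = 0 := by
    intro v hv
    rw [aeval_restrict (X := (X : Module.End F V)) (x := (x : Module.End F P)) hXx f ⟨v, hv⟩, hf]
    rfl
  have hfQ : ∀ v ∈ Q, aeval (X : Module.End F V) f v = 0 → v = 0 := by
    intro v hv h0
    apply hzero v hv
    intro w hw
    have hinj : Function.Injective (aeval ((x⁻¹ : P ≃ₗ[F] P) : Module.End F P) f) := by
      rw [← LinearMap.ker_eq_bot, LinearMap.ker_eq_bot']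
      exact hfi
    obtain ⟨w', hw'⟩ := (LinearMap.injective_iff_surjective.1 hinj) ⟨w, hw⟩
    have h2 := aeval_adj hX f (w' : V) v
    have h3 := aeval_restrict (X := ((X⁻¹ : V ≃ₗ[F] V) : Module.End F V))
      (x := ((x⁻¹ : P ≃ₗ[F] P) : Module.End F P)) hXi f w'
    rw [h0, map_zero, h3, hw'] at h2
    exact h2.symm
  have hYQ : ∀ v ∈ Q, aeval ((X⁻¹ : V ≃ₗ[F] V) : Module.End F V) f v = 0 := by
    intro v hv
    apply hzero _ (aeval_mem (X := ((X⁻¹ : V ≃ₗ[F] V) : Module.End F V)) hXQi f v hv)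
    intro w hw
    have h2 := aeval_adj hX.inv f w v
    rw [inv_inv, hfP w hw, map_zero, LinearMap.zero_apply] at h2
    exact h2
  have hYP : ∀ v ∈ P, aeval ((X⁻¹ : V ≃ₗ[F] V) : Module.End F V) f v = 0 → v = 0 := by
    intro v hv h0
    have h3 := aeval_restrict (X := ((X⁻¹ : V ≃ₗ[F] V) : Module.End F V))
      (x := ((x⁻¹ : P ≃ₗ[F] P) : Module.End F P)) hXi f ⟨v, hv⟩
    rw [h3] at h0
    exact congrArg Subtype.val (hfi ⟨v, hv⟩ (Subtype.ext h0))
  have hPH : Orth B P (perp B (P ⊔ Q)) := fun a ha b hb => hb a (Submodule.mem_sup_left ha)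
  have hHQ : Orth B (perp B (P ⊔ Q)) Q := fun a ha b hb => hB.zero (ha b (Submodule.mem_sup_right hb))
  have htop : P ⊔ (perp B (P ⊔ Q) ⊔ Q) = ⊤ := by
    rw [← sup_perp hB hNd]; ac_rfl
  have hmul : ∀ (Z : V ≃ₗ[F] V) (p q : F[X]) (v : V), aeval (Z : Module.End F V) (p * q) v =
      aeval (Z : Module.End F V) p (aeval (Z : Module.End F V) q v) := by
    intro Z p q v
    rw [map_mul, Module.End.mul_apply]
  have hval : ∀ (Z : V ≃ₗ[F] V) (v : V), aeval (Z : Module.End F V) (Polynomial.X - 1 : F[X]) v = Z v - v := by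
    intro Z v
    rw [map_sub, aeval_X, map_one]
    rfl
  have hmain : u * u' = u * (X * X⁻¹) * u' := by group
  rw [hmain]
  rcases h1 with h1 | h1
  · have hH0 : ∀ v ∈ perp B (P ⊔ Q), v = 0 := by
      intro v hv
      apply hN v
      intro w
      exact hB.zero (hv w (by rw [h1]; trivial))
    refine prB_levi hB hN hP hQ hPH hHQ htop hX hX.inv hXQ hXPi f f ?_ hfQ ?_ hYP hkN hXk hYk hu hu'
    · intro v hv
      obtain ⟨a, ha, b, hb, rfl⟩ := Submodule.mem_sup.1 hv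
      rw [hH0 b hb, add_zero, hfP a ha]
    · intro v hv
      obtain ⟨a, ha, b, hb, rfl⟩ := Submodule.mem_sup.1 hv
      rw [hH0 a ha, zero_add, hYQ b hb]
  · have hx1 : ∀ w : P, ∃ w' : P, x w' - w' = w := by
      have hinj : Function.Injective ((x : P →ₗ[F] P) - LinearMap.id : P →ₗ[F] P) := by
        rw [← LinearMap.ker_eq_bot, LinearMap.ker_eq_bot']
        intro v hv
        exact h1 v (sub_eq_zero.1 hv)
      intro w
      obtain ⟨w', hw'⟩ := (LinearMap.injective_iff_surjective.1 hinj) w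
      exact ⟨w', hw'⟩
    have hfixQ : ∀ v ∈ Q, X v = v → v = 0 := by
      intro v hv h0
      apply hzero v hv
      intro w hw
      obtain ⟨w', hw'⟩ := hx1 ⟨w, hw⟩
      have h2 : X (w' : V) - (w' : V) = w := by rw [hXx]; exact congrArg Subtype.val hw'
      rw [← h2, map_sub, LinearMap.sub_apply, sub_eq_zero]
      nth_rewrite 1 [← h0]
      exact hX _ _
    have hfixP : ∀ v ∈ P, X v = v → v = 0 := by
      intro v hv h0
      exact congrArg Subtype.val (h1 ⟨v, hv⟩ (Subtype.ext (by rw [← hXx]; exact h0)))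
    refine prB_levi hB hN hP hQ hPH hHQ htop hX hX.inv hXQ hXPi (f * (Polynomial.X - 1)) (f * (Polynomial.X - 1))
      ?_ ?_ ?_ ?_ hkN hXk hYk hu hu'
    · intro v hv
      obtain ⟨a, ha, b, hb, rfl⟩ := Submodule.mem_sup.1 hv
      have h2 : aeval (X : Module.End F V) (f * (Polynomial.X - 1)) b = 0 := by
        rw [hmul, hval, hXp b hb, sub_self, map_zero]
      have h3 : aeval (X : Module.End F V) (f * (Polynomial.X - 1)) a = 0 := by
        rw [hmul, hval]
        exact hfP _ (P.sub_mem (hXP a ha) ha)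
      rw [map_add, h2, h3, add_zero]
    · intro v hv h0
      rw [hmul, hval] at h0
      have h2 := hfQ _ (Q.sub_mem (hXQ v hv) hv) h0
      exact hfixQ v hv (sub_eq_zero.1 h2)
    · intro v hv
      obtain ⟨a, ha, b, hb, rfl⟩ := Submodule.mem_sup.1 hv
      have h2 : aeval ((X⁻¹ : V ≃ₗ[F] V) : Module.End F V) (f * (Polynomial.X - 1)) a = 0 := by
        rw [hmul, hval, hXp' a ha, sub_self, map_zero]
      have h3 : aeval ((X⁻¹ : V ≃ₗ[F] V) : Module.End F V) (f * (Polynomial.X - 1)) b = 0 := by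
        rw [hmul, hval]
        exact hYQ _ (Q.sub_mem (hXQi b hb) hb)
      rw [map_add, h2, h3, add_zero]
    · intro v hv h0
      rw [hmul, hval] at h0
      have h2 := hYP _ (P.sub_mem (hXPi v hv) hv) h0
      have h3 : X⁻¹ v = v := sub_eq_zero.1 h2
      apply hfixP v hv
      nth_rewrite 1 [← h3]
      exact app_inv X v

/-- the case `P ⊔ Q = ⊤`, from `C1` data -/
theorem prB_c1 {B : LinearMap.BilinForm F V} (hB : Alt B) (hN : Nond B) {N : ℕ} {g : V ≃ₗ[F] V} (hg : Iso B g)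
    {P Q : Submodule F V} (hP : Orth B P P) (hQ : Orth B Q Q) (hPQ : P ⊔ Q = ⊤) (h : ∀ v ∈ P, g v - v ∈ Q)
    {x : P ≃ₗ[F] P} (f : F[X]) (hf : ∀ v, aeval (x : Module.End F P) f v = 0)
    (hfi : ∀ v, aeval ((x⁻¹ : P ≃ₗ[F] P) : Module.End F P) f v = 0 → v = 0)
    {k : ℕ} (hkN : k.Coprime N) (hxk : x ^ k = 1) : PrB B N g := by
  obtain ⟨n, m, hn, hm, e⟩ := c1_factor hB hN hP hQ hPQ hg h
  rw [e]
  exact prB_corner hB hN hP hQ (fun v _ h => hN v (fun w => h w (by rw [hPQ]; trivial))) f hf hfi (Or.inl hPQ)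
    hkN hxk (uni_mem_Rad hQ hn) (uni_mem_Rad hP hm)

theorem nd_perp {B : LinearMap.BilinForm F V} (hB : Alt B) (hN : Nond B) {P : Submodule F V} (hP : Nd B P) :
    Nd B (perp B P) := by
  intro v hv h0
  apply hN
  intro w
  obtain ⟨a, ha, b, hb, rfl⟩ := Submodule.mem_sup.1 (show w ∈ P ⊔ perp B P by rw [sup_perp hB hP]; trivial)
  rw [map_add, h0 b hb, hB.zero (hv a ha), add_zero]

theorem inv_perp {B : LinearMap.BilinForm F V} {g : V ≃ₗ[F] V} (hg : Iso B g) {P : Submodule F V}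
    (hI : Inv g P) : Inv g (perp B P) := by
  intro v hv w hw
  rw [hg.adj']
  exact hv _ (inv_mem_of_mem hI w hw)

/-- **Orthogonal sums.** -/
theorem PrB.glue {B : LinearMap.BilinForm F V} (hB : Alt B) (hN : Nond B) {N : ℕ} {g : V ≃ₗ[F] V}
    {P : Submodule F V} (hP : Nd B P) (hI : Inv g P) (hI' : Inv g (perp B P))
    (h1 : PrB (B.restrict P) N (gr g P hI)) (h2 : PrB (B.restrict (perp B P)) N (gr g (perp B P) hI')) :
    PrB B N g := by
  obtain ⟨x, y, k, hx, hy, exy, hk, hxk, hyk⟩ := h1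
  obtain ⟨x', y', k', hx', hy', exy', hk', hxk', hyk'⟩ := h2
  have hP' := nd_perp hB hN hP
  have hpp : ∀ v ∈ P, v ∈ perp B (perp B P) := fun v hv w hw => hB.zero (hw v hv)
  obtain ⟨X, hX, hXx, hXp⟩ := ext_iso hB hP hx
  obtain ⟨Y, hY, hYy, hYp⟩ := ext_iso hB hP hy
  obtain ⟨X', hX', hXx', hXp'⟩ := ext_iso hB hP' hx'
  obtain ⟨Y', hY', hYy', hYp'⟩ := ext_iso hB hP' hy'
  have htop := sup_perp hB hP
  -- `(X X')^j` on both summands
  have key : ∀ (x : P ≃ₗ[F] P) (x' : (perp B P : Submodule F V) ≃ₗ[F] (perp B P : Submodule F V)) (X X' : V ≃ₗ[F] V),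
      (∀ v : P, X v = x v) → (∀ v ∈ perp B P, X v = v) → (∀ v : (perp B P : Submodule F V), X' v = x' v) →
      (∀ v ∈ perp B (perp B P), X' v = v) → ∀ j : ℕ, (∀ v : P, ((X * X') ^ j) v = ((x ^ j) v : P)) ∧
      ∀ v : (perp B P : Submodule F V), ((X * X') ^ j) v = ((x' ^ j) v : (perp B P : Submodule F V)) := by
    intro x x' X X' h1 h2 h3 h4 j
    induction j with
    | zero => exact ⟨fun v => rfl, fun v => rfl⟩
    | succ j ih =>
      refine ⟨fun v => ?_, fun v => ?_⟩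
      · rw [pow_succ', LinearEquiv.mul_apply, ih.1, LinearEquiv.mul_apply, h4 _ (hpp _ (Subtype.prop _)), h1,
          pow_succ', LinearEquiv.mul_apply]
      · rw [pow_succ', LinearEquiv.mul_apply, ih.2, LinearEquiv.mul_apply, h3, h2 _ (Subtype.prop _),
          pow_succ', LinearEquiv.mul_apply]
  have ext1 : ∀ D : V ≃ₗ[F] V, (∀ v ∈ P, D v = v) → (∀ v ∈ perp B P, D v = v) → D = 1 := by
    intro D h3 h4
    ext v
    obtain ⟨a, ha, b, hb, rfl⟩ := Submodule.mem_sup.1 (show v ∈ P ⊔ perp B P by rw [htop]; trivial)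
    rw [map_add, h3 a ha, h4 b hb]
    rfl
  have hkk : ∀ {G : Type _} [Group G] (a : G) (k k' : ℕ), a ^ k = 1 → a ^ (k * k') = 1 := by
    intro G _ a k k' h
    rw [pow_mul, h, one_pow]
  refine ⟨X * X', Y * Y', k * k', hX.mul hX', hY.mul hY', ?_, Nat.Coprime.mul_left hk hk', ?_, ?_⟩
  · have : (X * X' * (Y * Y'))⁻¹ * g = 1 := by
      apply ext1
      · intro v hv
        have h3 : (X * X' * (Y * Y')) v = g v := by
          rw [LinearEquiv.mul_apply, LinearEquiv.mul_apply, LinearEquiv.mul_apply, hYp' v (hpp v hv),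
            hYy ⟨v, hv⟩, hXp' _ (hpp _ (Subtype.prop _)), hXx, ← gr_apply g P hI ⟨v, hv⟩, exy]
          rfl
        rw [LinearEquiv.mul_apply, ← h3, inv_app]
      · intro v hv
        have h3 : (X * X' * (Y * Y')) v = g v := by
          rw [LinearEquiv.mul_apply, LinearEquiv.mul_apply, LinearEquiv.mul_apply, hYy' ⟨v, hv⟩,
            hYp _ (Subtype.prop _), hXx', hXp _ (Subtype.prop _), ← gr_apply g (perp B P) hI' ⟨v, hv⟩, exy']
          rfl
        rw [LinearEquiv.mul_apply, ← h3, inv_app]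
    rw [inv_mul_eq_one] at this
    exact this.symm
  · have h3 := key x x' X X' hXx hXp hXx' hXp' (k * k')
    apply ext1
    · intro v hv
      rw [h3.1 ⟨v, hv⟩, hkk x k k' hxk]; rfl
    · intro v hv
      rw [h3.2 ⟨v, hv⟩, mul_comm k k', hkk x' k' k hxk']; rfl
  · have h3 := key y y' Y Y' hYy hYp hYy' hYp' (k * k')
    apply ext1
    · intro v hv
      rw [h3.1 ⟨v, hv⟩, hkk y k k' hyk]; rfl
    · intro v hv
      rw [h3.2 ⟨v, hv⟩, mul_comm k k', hkk y' k' k hyk']; rfl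

end Cfsg.Agent.H649.PwSp
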