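import Mathlib
import Cfsg.Agent.H649.PwSp.Corner
import Cfsg.Agent.H78.Pw.Base
import Cfsg.Agent.S2445
import Cfsg.Prelude.Def_Classical

/-!
# Symplectic groups: a scalar `a` with `a ^ 2 ≠ 1` in the base field

* `prB_pieces` : every isometry is a product of two isometries of order prime to `N`, if `a ∈ F`, `a ^ 2 ≠ 1`,
  has order prime to `N` and (`2 = 0` in `F` or `N` odd).
* `own_sp`, `own_psp` : `All r` for `Sp_2m(q)`, `PSp_2m(q)`, `q` a power of `r`, `q ≥ 5`.
-/

set_option autoImplicit false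
open Polynomial

noncomputable section

namespace Cfsg.Agent.H649.PwSp

open Cfsg.Agent.H144

universe u v

/-- isometry of `V` as an element of the matrix group -/
def mk {F : Type*} [Field F] {m : ℕ} (X : (Fin m ⊕ Fin m → F) ≃ₗ[F] (Fin m ⊕ Fin m → F))
    (hX : Iso (Cfsg.Agent.S2445.form F m) X) : Matrix.symplecticGroup (Fin m) F :=
  ⟨_, Cfsg.Agent.S2445.mem_of_iso hX⟩

theorem mk_mul {F : Type*} [Field F] {m : ℕ} {X Y : (Fin m ⊕ Fin m → F) ≃ₗ[F] (Fin m ⊕ Fin m → F)}
    (hX : Iso (Cfsg.Agent.S2445.form F m) X) (hY : Iso (Cfsg.Agent.S2445.form F m) Y) :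
    mk (X * Y) (hX.mul hY) = mk X hX * mk Y hY := by
  apply Subtype.ext
  change LinearMap.toMatrix' _ = LinearMap.toMatrix' _ * LinearMap.toMatrix' _
  rw [← LinearMap.toMatrix'_comp]
  rfl

theorem iso_pow {F V : Type*} [Field F] [AddCommGroup V] [Module F V] {B : LinearMap.BilinForm F V}
    {X : V ≃ₗ[F] V} (hX : Iso B X) (k : ℕ) : Iso B (X ^ k) := by
  induction k with
  | zero => exact Iso.one B
  | succ k ih => rw [pow_succ]; exact ih.mul hX

theorem mk_pow {F : Type*} [Field F] {m : ℕ} {X : (Fin m ⊕ Fin m → F) ≃ₗ[F] (Fin m ⊕ Fin m → F)}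
    (hX : Iso (Cfsg.Agent.S2445.form F m) X) (k : ℕ) : (mk X hX) ^ k = mk (X ^ k) (iso_pow hX k) := by
  induction k with
  | zero =>
    apply Subtype.ext
    change (1 : Matrix _ _ F) = LinearMap.toMatrix' _
    exact LinearMap.toMatrix'_one.symm
  | succ k ih =>
    rw [pow_succ, ih, ← mk_mul]
    rfl

theorem pr_of_prB {F : Type*} [Field F] {m N : ℕ} {g : Matrix.symplecticGroup (Fin m) F}
    (h : PrB (Cfsg.Agent.S2445.form F m) N (Cfsg.Agent.S2445.act g)) : H78.Pw.Pr N g := by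
  obtain ⟨X, Y, k, hX, hY, e, hk, hXk, hYk⟩ := h
  have key : ∀ (X : (Fin m ⊕ Fin m → F) ≃ₗ[F] (Fin m ⊕ Fin m → F)) (hX : Iso (Cfsg.Agent.S2445.form F m) X),
      X ^ k = 1 → (orderOf (mk X hX)).Coprime N := by
    intro X hX hXk
    refine Nat.Coprime.of_dvd_left (orderOf_dvd_of_pow_eq_one ?_) hk
    rw [mk_pow]
    apply Subtype.ext
    change LinearMap.toMatrix' _ = (1 : Matrix _ _ F)
    rw [hXk]
    exact LinearMap.toMatrix'_one
  refine ⟨mk X hX, mk Y hY, ?_, key X hX hXk, key Y hY hYk⟩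
  rw [← mk_mul]
  apply Subtype.ext
  change g.1 = LinearMap.toMatrix' _
  rw [← e]
  exact (LinearMap.toMatrix'_toLin' _).symm

/-- strong induction over orthogonal pieces -/
theorem prB_ind {F : Type v} [Field F] [Finite F] (N : ℕ)
    (hpiece : ∀ (V : Type u) [AddCommGroup V] [Module F V] [FiniteDimensional F V] (B : LinearMap.BilinForm F V),
      Alt B → Nond B → ∀ g : V ≃ₗ[F] V, Iso B g → Indec B g → PrB B N g) :
    ∀ (n : ℕ) (V : Type u) [AddCommGroup V] [Module F V] [FiniteDimensional F V]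
      (B : LinearMap.BilinForm F V), Alt B → Nond B → Module.finrank F V = n → ∀ g : V ≃ₗ[F] V, Iso B g →
      PrB B N g := by
  intro n
  induction n using Nat.strong_induction_on with
  | _ n ih =>
  intro V _ _ _ B hB hN hn g hg
  by_cases hI : Indec B g
  · exact hpiece V B hB hN g hg hI
  · unfold Indec at hI
    push Not at hI
    obtain ⟨P, hPI, hPN, hP0, hP1⟩ := hI
    have hc := isCompl_perp hB hPN
    have h1 := Submodule.finrank_add_eq_of_isCompl hc
    have h2 : Module.finrank F P < n := by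
      rw [← hn]
      exact Submodule.finrank_lt hP1
    have h3 : 0 < Module.finrank F P := by
      rw [Nat.pos_iff_ne_zero]
      intro h0
      exact hP0 (Submodule.finrank_eq_zero.1 h0)
    have hPI' := inv_perp hg hPI
    have hPN' := nd_perp hB hN hPN
    exact PrB.glue hB hN hPN hPI hPI'
      (ih _ h2 P (B.restrict P) (restrict_alt hB P) (restrict_nond hPN) rfl _ (gr_iso hg P hPI))
      (ih _ (by omega) (perp B P) (B.restrict (perp B P)) (restrict_alt hB _) (restrict_nond hPN') rfl _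
        (gr_iso hg _ hPI'))

/-- the scalar -/
def sc {F V : Type*} [Field F] [AddCommGroup V] [Module F V] (a : F) (ha : a ≠ 0) : V ≃ₗ[F] V :=
  LinearEquiv.smulOfNeZero F V a ha

theorem sc_apply {F V : Type*} [Field F] [AddCommGroup V] [Module F V] (a : F) (ha : a ≠ 0) (v : V) :
    sc a ha v = a • v := rfl

theorem sc_inv_apply {F V : Type*} [Field F] [AddCommGroup V] [Module F V] (a : F) (ha : a ≠ 0) (v : V) :
    (sc a ha)⁻¹ v = a⁻¹ • v := by
  have h : sc a ha (a⁻¹ • v) = v := by rw [sc_apply, smul_smul, mul_inv_cancel₀ ha, one_smul]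
  nth_rewrite 1 [← h]
  rw [inv_app]

theorem sc_pow {F V : Type*} [Field F] [AddCommGroup V] [Module F V] (a : F) (ha : a ≠ 0) {k : ℕ}
    (hk : a ^ k = 1) : (sc a ha : V ≃ₗ[F] V) ^ k = 1 := by
  have h : ∀ (j : ℕ) (v : V), ((sc a ha : V ≃ₗ[F] V) ^ j) v = a ^ j • v := by
    intro j
    induction j with
    | zero => intro v; rw [pow_zero, pow_zero, one_smul]; rfl
    | succ j ih => intro v; rw [pow_succ', LinearEquiv.mul_apply, ih, sc_apply, smul_smul, pow_succ']
  ext v
  rw [h, hk, one_smul]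
  rfl

theorem PrB.of_ng {F V : Type*} [Field F] [AddCommGroup V] [Module F V] {B : LinearMap.BilinForm F V} {N : ℕ}
    (h2 : Nat.Coprime 2 N) {g : V ≃ₗ[F] V} (h : PrB B N (ng g)) : PrB B N g := by
  obtain ⟨X, Y, k, hX, hY, e, hk, hXk, hYk⟩ := h
  have hsq : (LinearEquiv.neg F : V ≃ₗ[F] V) * LinearEquiv.neg F = 1 := by
    ext v
    change - - v = v
    rw [neg_neg]
  have hcomm : Commute (LinearEquiv.neg F : V ≃ₗ[F] V) X := by
    ext v
    change - (X v) = X (-v)
    rw [map_neg]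
  refine ⟨ng X, Y, 2 * k, ng_iso hX, hY, ?_, Nat.Coprime.mul_left h2 hk, ?_, ?_⟩
  · unfold ng at e ⊢
    calc g = (LinearEquiv.neg F : V ≃ₗ[F] V) * LinearEquiv.neg F * g := by rw [hsq, one_mul]
      _ = LinearEquiv.neg F * (LinearEquiv.neg F * g) := by rw [mul_assoc]
      _ = _ := by rw [e, mul_assoc]
  · unfold ng
    rw [hcomm.mul_pow, mul_comm 2 k, pow_mul X, hXk, one_pow, mul_one, mul_comm k 2, pow_mul, pow_two, hsq,
      one_pow]
  · rw [mul_comm, pow_mul, hYk, one_pow]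

theorem prB_c1_sc {F V : Type*} [Field F] [Finite F] [AddCommGroup V] [Module F V] [FiniteDimensional F V]
    {B : LinearMap.BilinForm F V} (hB : Alt B) (hN : Nond B) {N : ℕ} {g : V ≃ₗ[F] V} (hg : Iso B g)
    (h : C1 B g) {a : F} (ha : a ≠ 0) (ha2 : a * a ≠ 1) {k : ℕ} (hk : a ^ k = 1) (hkN : k.Coprime N) :
    PrB B N g := by
  obtain ⟨P, Q, hP, hQ, hPQ, hPg⟩ := h
  have hval : ∀ (x : P ≃ₗ[F] P) (v : P), aeval (x : Module.End F P) (Polynomial.X - C a : F[X]) v =
      x v - a • v := by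
    intro x v
    rw [map_sub, aeval_X, aeval_C]
    rfl
  refine prB_c1 hB hN hg hP hQ hPQ hPg (x := sc a ha) (Polynomial.X - C a) (fun v => ?_) (fun v hv => ?_)
    hkN (sc_pow a ha hk)
  · rw [hval, sc_apply, sub_self]
  · rw [hval, sc_inv_apply, ← sub_smul] at hv
    refine (smul_eq_zero.1 hv).resolve_left ?_
    intro h0
    apply ha2
    rw [sub_eq_zero] at h0
    nth_rewrite 1 [← h0]
    exact inv_mul_cancel₀ ha

theorem prB_pieces {F : Type v} [Field F] [Finite F] {N : ℕ} {a : F} (ha : a ≠ 0) (ha2 : a * a ≠ 1) {k : ℕ}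
    (hk : a ^ k = 1) (hkN : k.Coprime N) (h2 : (2 : F) = 0 ∨ Nat.Coprime 2 N) {V : Type u} [AddCommGroup V]
    [Module F V] [FiniteDimensional F V] {B : LinearMap.BilinForm F V} (hB : Alt B) (hN : Nond B)
    {g : V ≃ₗ[F] V} (hg : Iso B g) : PrB B N g := by
  refine prB_ind N (fun V _ _ _ B hB hN g hg hI => ?_) (Module.finrank F V) V B hB hN rfl g hg
  rcases subsingleton_or_nontrivial V with hs | hs
  · refine ⟨1, 1, 1, Iso.one B, Iso.one B, ?_, Nat.coprime_one_left N, one_pow _, one_pow _⟩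
    ext v
    exact Subsingleton.elim _ _
  rcases indec_main hB hN hg hI with h | ⟨h3, h⟩
  · exact prB_c1_sc hB hN hg h ha ha2 hk hkN
  · exact PrB.of_ng (h2.resolve_left h3) (prB_c1_sc hB hN (ng_iso hg) h.1 ha ha2 hk hkN)

theorem exists_sq_ne (F : Type*) [Field F] [Finite F] (h : 4 ≤ Nat.card F) : ∃ a : F, a ≠ 0 ∧ a * a ≠ 1 := by
  by_contra hcon
  push Not at hcon
  have : Fintype F := Fintype.ofFinite F
  have h3 := Polynomial.eq_zero_of_natDegree_lt_card_of_eval_eq_zero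
    (X * (X ^ 2 - 1) : F[X]) Function.injective_id (by
      intro a
      simp only [id, eval_mul, eval_sub, eval_X, eval_one, eval_pow]
      by_cases ha : a = 0
      · simp [ha]
      rw [pow_two, hcon a ha, sub_self, mul_zero]) (by
      have h4 : (X * (X ^ 2 - 1) : F[X]).natDegree ≤ 3 := by
        compute_degree
      rw [Nat.card_eq_fintype_card] at h
      omega)
  have h4 : (X * (X ^ 2 - 1) : F[X]).coeff 3 = 1 := by
    have : (X * (X ^ 2 - 1) : F[X]) = X ^ 3 - X := by ring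
    rw [this]
    simp [coeff_X]
  rw [h3] at h4
  simp at h4

/-- **`Sp_2m(q)`, the characteristic.** -/
theorem own_sp {F : Type*} [Field F] [Fintype F] (r : ℕ) (hr : r.Prime) [CharP F r] (hr5 : 5 ≤ r) (m : ℕ) :
    H78.Pw.All r (Matrix.symplecticGroup (Fin m) F) := by
  intro g
  apply pr_of_prB
  have : Fact r.Prime := ⟨hr⟩
  obtain ⟨n, hn⟩ := FiniteField.card F r
  have h5 : 5 ≤ Nat.card F := by
    rw [Nat.card_eq_fintype_card, hn.2]
    exact hr5.trans (Nat.le_self_pow n.ne_zero r)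
  obtain ⟨a, ha, ha2⟩ := exists_sq_ne F (by omega)
  have hcop : (Fintype.card F - 1).Coprime r := by
    rw [hn.2, Nat.coprime_comm, Nat.Prime.coprime_iff_not_dvd hr]
    intro hd
    have h6 : r ∣ r ^ (n : ℕ) := dvd_pow_self r n.ne_zero
    have h7 : 1 ≤ r ^ (n : ℕ) := Nat.one_le_pow _ _ (by omega)
    have h8 : r ∣ r ^ (n : ℕ) - (r ^ (n : ℕ) - 1) := Nat.dvd_sub h6 hd
    rw [Nat.sub_sub_self h7] at h8
    have := Nat.le_of_dvd one_pos h8
    omega
  exact prB_pieces ha ha2 (FiniteField.pow_card_sub_one_eq_one a ha) hcop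
    (Or.inr ((Nat.coprime_primes Nat.prime_two hr).2 (by omega))) Cfsg.Agent.S2445.form_alt
    Cfsg.Agent.S2445.form_nond (Cfsg.Agent.S2445.act_iso g)

/-- **`PSp_2m(q)`, the characteristic.** -/
theorem own_psp {F : Type*} [Field F] [Fintype F] (r : ℕ) (hr : r.Prime) [CharP F r] (hr5 : 5 ≤ r) (m : ℕ) :
    H78.Pw.All r (PSp m F) :=
  H78.Pw.All.of_surjective (QuotientGroup.mk' _) (QuotientGroup.mk'_surjective _) (own_sp r hr hr5 m)

end Cfsg.Agent.H649.PwSp
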