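import Mathlib
import Cfsg.Agent.H649.PwSp.Big

/-!
# Symplectic groups in characteristic two: `All 6`

* `c1_two` : every isometry is `C1`.
* `exists_x` : `x ∈ GL_m(F)`, `m ≥ 3` odd, of order dividing `2 ^ m - 1`.
* `exists_pq` : the corner.
-/

set_option autoImplicit false
open Polynomial

noncomputable section

namespace Cfsg.Agent.H649.PwSp

open Cfsg.Agent.H144

universe u v

/-- in characteristic two every isometry is `C1` -/
theorem c1_two {F : Type v} [Field F] [Finite F] (h2 : (2 : F) = 0) :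
    ∀ (n : ℕ) (V : Type u) [AddCommGroup V] [Module F V] [FiniteDimensional F V]
      (B : LinearMap.BilinForm F V), Alt B → Nond B → Module.finrank F V = n → ∀ g : V ≃ₗ[F] V, Iso B g →
      C1 B g := by
  intro n
  induction n using Nat.strong_induction_on with
  | _ n ih =>
  intro V _ _ _ B hB hN hn g hg
  rcases subsingleton_or_nontrivial V with hs | hs
  · refine ⟨⊤, ⊤, ?_, ?_, by simp, fun v _ => trivial⟩ <;>
    · intro x _ y _
      rw [Subsingleton.elim x 0, map_zero, LinearMap.zero_apply]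
  by_cases hI : Indec B g
  · rcases indec_main hB hN hg hI with h | ⟨h3, _⟩
    · exact h
    · exact absurd h2 h3
  · unfold Indec at hI
    push Not at hI
    obtain ⟨P, hPI, hPN, hP0, hP1⟩ := hI
    have hc := isCompl_perp hB hPN
    have h1 := Submodule.finrank_add_eq_of_isCompl hc
    have h2 : Module.finrank F P < n := by
      rw [← hn]
      exact Submodule.finrank_lt hP1
    have h3 : 0 < Module.finrank F P := by
      rw [Nat.pos_iff_ne_zero]
      intro h0
      exact hP0 (Submodule.finrank_eq_zero.1 h0)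
    have hPI' := inv_perp hg hPI
    have hPN' := nd_perp hB hN hPN
    refine c1_top (sup_perp hB hPN) (C1On.sup hB (orth_perp P)
      (c1On_of_c1 hPI (ih _ h2 P (B.restrict P) (restrict_alt hB P) (restrict_nond hPN) rfl _ (gr_iso hg P hPI)))
      (c1On_of_c1 hPI' (ih _ (by omega) (perp B P) (B.restrict (perp B P)) (restrict_alt hB _)
        (restrict_nond hPN') rfl _ (gr_iso hg _ hPI'))))

/-- the matrix of a Singer cycle over the prime field, in characteristic `p` -/
theorem exists_mat (p : ℕ) [Fact p.Prime] (m : ℕ) (hm : m ≠ 0) (h5 : 5 ≤ p ^ m) :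
    ∃ (M M' : Matrix (Fin m) (Fin m) (ZMod p)) (f : (ZMod p)[X]), M * M' = 1 ∧ M ^ (p ^ m - 1) = 1 ∧
      aeval M f = 0 ∧ IsUnit (aeval M' f) ∧ IsUnit (M - 1) := by
  obtain ⟨K, _, _, _, hK, ξ, hξ, h1, h2⟩ := exists_singer (ZMod p) m hm (Or.inl (by
    rw [Nat.card_zmod]; exact h5))
  let b : Module.Basis (Fin m) (ZMod p) K := Module.finBasisOfFinrankEq (ZMod p) K hK
  let φ : K →ₐ[ZMod p] Matrix (Fin m) (Fin m) (ZMod p) := Algebra.leftMulMatrix b
  have hfin : Finite K := Module.finite_of_finite (ZMod p)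
  have hF : Fintype K := Fintype.ofFinite K
  have hcard : Fintype.card K = p ^ m := by
    rw [← Nat.card_eq_fintype_card, Module.natCard_eq_pow_finrank (K := ZMod p), Nat.card_zmod, hK]
  have hunit : ∀ a : K, a ≠ 0 → IsUnit (φ a) := fun a ha => (IsUnit.mk0 a ha).map φ
  refine ⟨φ ξ, φ ξ⁻¹, minpoly (ZMod p) ξ, ?_, ?_, ?_, ?_, ?_⟩
  · rw [← map_mul, mul_inv_cancel₀ hξ, map_one]
  · rw [← map_pow, ← hcard, FiniteField.pow_card_sub_one_eq_one ξ hξ, map_one]
  · rw [aeval_algHom_apply, minpoly.aeval, map_zero]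
  · rw [aeval_algHom_apply]
    exact hunit _ h1
  · rw [← map_one φ, ← map_sub]
    apply hunit
    intro h0
    rw [sub_eq_zero] at h0
    apply h1
    rw [h0, inv_one, ← h0, minpoly.aeval]

/-- `x ∈ GL(P)` of order dividing `p ^ m - 1` -/
theorem exists_x {F : Type*} [Field F] (p : ℕ) [Fact p.Prime] [CharP F p] {P : Type*} [AddCommGroup P]
    [Module F P] [FiniteDimensional F P] {m : ℕ} (hP : Module.finrank F P = m) (hm : m ≠ 0) (h5 : 5 ≤ p ^ m) :
    ∃ (x : P ≃ₗ[F] P) (f : F[X]), (∀ v, aeval (x : Module.End F P) f v = 0) ∧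
      (∀ v, aeval ((x⁻¹ : P ≃ₗ[F] P) : Module.End F P) f v = 0 → v = 0) ∧ (∀ v, x v = v → v = 0) ∧
      x ^ (p ^ m - 1) = 1 := by
  obtain ⟨M, M', f, hMM, hMk, hf, hfu, hM1⟩ := exists_mat p m hm h5
  let ι : ZMod p →+* F := ZMod.castHom dvd_rfl F
  let μ : Matrix (Fin m) (Fin m) (ZMod p) →+* Matrix (Fin m) (Fin m) F := ι.mapMatrix
  let b : Module.Basis (Fin m) F P := Module.finBasisOfFinrankEq F P hP
  let τ : Matrix (Fin m) (Fin m) F ≃ₐ[F] Module.End F P := Matrix.toLinAlgEquiv b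
  let ψ : Matrix (Fin m) (Fin m) (ZMod p) →+* Module.End F P := (τ : Matrix (Fin m) (Fin m) F →+* Module.End F P).comp μ
  have hMM' : M' * M = 1 := mul_eq_one_comm.1 hMM
  let x : P ≃ₗ[F] P := LinearEquiv.ofLinearMap (ψ M) (ψ M')
    (by rw [← Module.End.mul_eq_comp, ← map_mul, hMM, map_one]; rfl)
    (by rw [← Module.End.mul_eq_comp, ← map_mul, hMM', map_one]; rfl)
  have hx : (x : Module.End F P) = ψ M := rfl
  have hxi : ((x⁻¹ : P ≃ₗ[F] P) : Module.End F P) = ψ M' := rfl
  have hev : ∀ N : Matrix (Fin m) (Fin m) (ZMod p), aeval (ψ N) (f.map ι) = ψ (aeval N f) := by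
    intro N
    rw [aeval_def, aeval_def, eval₂_map, hom_eval₂]
    congr 1
    exact RingHom.ext_zmod _ _
  have hinj : ∀ N : Matrix (Fin m) (Fin m) (ZMod p), IsUnit N → ∀ v, ψ N v = 0 → v = 0 := by
    intro N hN v hv
    obtain ⟨u, hu⟩ := hN.map ψ
    have : (u⁻¹ : (Module.End F P)ˣ).val (u.val v) = v := by
      rw [← Module.End.mul_apply, Units.inv_mul, Module.End.one_apply]
    rw [← this, hu, hv, map_zero]
  refine ⟨x, f.map ι, fun v => ?_, fun v hv => ?_, fun v hv => ?_, ?_⟩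
  · rw [hx, hev, hf, map_zero, LinearMap.zero_apply]
  · rw [hxi, hev] at hv
    exact hinj _ hfu v hv
  · apply hinj _ hM1 v
    rw [map_sub, map_one, LinearMap.sub_apply, ← hx]
    exact sub_eq_zero.2 hv
  · have hpow : ∀ j : ℕ, ((x ^ j : P ≃ₗ[F] P) : Module.End F P) = ψ (M ^ j) := by
      intro j
      induction j with
      | zero => rw [pow_zero, pow_zero, map_one]; rfl
      | succ j ih =>
        rw [pow_succ, map_pow, pow_succ, ← map_pow, ← ih, ← hx]
        rfl
    ext v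
    have h1 := LinearMap.congr_fun (hpow (p ^ m - 1)) v
    rw [hMk, map_one] at h1
    exact h1

theorem cop_two {m : ℕ} (hm : Odd m) : (2 ^ m - 1).Coprime 6 := by
  obtain ⟨j, rfl⟩ := hm
  have h4 : 4 ^ j % 3 = 1 := by rw [Nat.pow_mod]; norm_num
  have h1 : 2 ^ (2 * j + 1) = 2 * 4 ^ j := by rw [pow_succ, pow_mul]; norm_num [mul_comm]
  have hpos : 1 ≤ 4 ^ j := Nat.one_le_pow _ _ (by norm_num)
  rw [h1, show (6 : ℕ) = 2 * 3 by rfl]
  apply Nat.Coprime.mul_right
  · rw [Nat.coprime_comm, Nat.Prime.coprime_iff_not_dvd Nat.prime_two]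
    omega
  · rw [Nat.coprime_comm, Nat.Prime.coprime_iff_not_dvd Nat.prime_three]
    omega

section Corner

variable {F V : Type*} [Field F] [Finite F] [CharP F 2] [AddCommGroup V] [Module F V] [FiniteDimensional F V]

/-- the square root of `v ↦ B v (n v)` -/
theorem exists_ell {B : LinearMap.BilinForm F V} (hB : Alt B) {P Q : Submodule F V} {n : Module.End F V}
    (hn : n ∈ Skew B Q) : ∃ ℓ : P →ₗ[F] F, ∀ v : P, ℓ v * ℓ v = B v (n v) := by
  have : Fintype F := Fintype.ofFinite F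
  have : Fact (Nat.Prime 2) := ⟨Nat.prime_two⟩
  have hq : ∀ v w : V, B (v + w) (n (v + w)) = B v (n v) + B w (n w) := by
    intro v w
    have h1 := hn.2.2 v w
    have h2 : B (n v) w = - B w (n v) := hB.neg _ _
    simp only [map_add, LinearMap.add_apply]
    have h3 : B v (n w) = B w (n v) := by rw [h2] at h1; linear_combination h1
    rw [h3]
    have h4 : B w (n v) + B w (n v) = 0 := CharTwo.add_self_eq_zero _
    linear_combination h4
  let s : F ≃+* F := (frobeniusEquiv F 2).symm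
  have hs : ∀ a : F, s a * s a = a := by
    intro a
    have h1 := (frobeniusEquiv F 2).apply_symm_apply a
    rw [frobeniusEquiv_apply, frobenius_def] at h1
    rw [← pow_two]
    exact h1
  refine ⟨{ toFun := fun v => s (B v (n v)), map_add' := fun v w => ?_, map_smul' := fun c v => ?_ }, fun v => ?_⟩
  · rw [Submodule.coe_add, hq, map_add]
  · have h0 : B ((c • v : P) : V) (n ((c • v : P) : V)) = (c * c) * B v (n v) := by
      rw [Submodule.coe_smul, map_smul B, map_smul n, LinearMap.smul_apply, map_smul (B (v : V)), smul_eq_mul,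
        smul_eq_mul, ← mul_assoc]
    rw [h0, RingHom.id_apply, smul_eq_mul, map_mul]
    congr 1
    have h1 := hs (c * c)
    have h2 : (s (c * c) - c) * (s (c * c) - c) = 0 := by
      have h3 : (2 : F) = 0 := CharTwo.two_eq_zero
      linear_combination h1 - s (c * c) * c * h3 + c * c * h3
    exact sub_eq_zero.1 (mul_self_eq_zero.1 h2)
  · exact hs _

theorem exists_pq {B : LinearMap.BilinForm F V} (hB : Alt B) (hN : Nond B) {P Q : Submodule F V}
    (hP : Orth B P P) (hPQ : P ⊔ Q = ⊤) (h3 : 3 ≤ Module.finrank F P)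
    {n m : Module.End F V} (hn : n ∈ Skew B Q) (hm : m ∈ Skew B P) :
    ∃ p ∈ P, ∃ q ∈ Q, B p q = 1 ∧ B p (n p) = 0 ∧ B q (m q) = 0 := by
  obtain ⟨ℓ, hℓ⟩ := exists_ell (P := P) hB hn
  obtain ⟨κ, hκ⟩ := exists_ell (P := Q) hB hm
  have hker : 2 ≤ Module.finrank F (LinearMap.ker ℓ) := by
    have h1 := LinearMap.finrank_range_add_finrank_ker ℓ
    have h2 : Module.finrank F (LinearMap.range ℓ) ≤ 1 := by
      have := Submodule.finrank_le (LinearMap.range ℓ)
      rwa [Module.finrank_self] at this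
    omega
  by_contra hcon
  push Not at hcon
  -- `B p q = 0` for all `p`, `q` in the kernels
  have key : ∀ p : P, ℓ p = 0 → ∀ q : Q, κ q = 0 → B (p : V) (q : V) = 0 := by
    intro p hp q hq
    by_contra h0
    refine hcon p p.2 ((B (p : V) (q : V))⁻¹ • (q : V)) (Q.smul_mem _ q.2) ?_ ?_ ?_
    · rw [map_smul, smul_eq_mul, inv_mul_cancel₀ h0]
    · rw [← hℓ, hp, zero_mul]
    · rw [map_smul, map_smul, LinearMap.smul_apply, map_smul, ← hκ, hq]
      simp
  -- so `B p q = B p q₀ * κ q / κ q₀`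
  obtain ⟨q₀, hq₀⟩ | hk0 : (∃ q₀ : Q, κ q₀ ≠ 0) ∨ ∀ q : Q, κ q = 0 := by
    by_cases h : ∃ q₀ : Q, κ q₀ ≠ 0
    · exact Or.inl h
    · push Not at h; exact Or.inr h
  · have hzero : ∀ p : P, ℓ p = 0 → B (p : V) (q₀ : V) = 0 → p = 0 := by
      intro p hp h0
      have h1 : ∀ q : Q, B (p : V) (q : V) = 0 := by
        intro q
        have h2 := key p hp (q - (κ q / κ q₀) • q₀) (by
          rw [map_sub, map_smul, smul_eq_mul, div_mul_cancel₀ _ hq₀, sub_self])
        rw [Submodule.coe_sub, Submodule.coe_smul, map_sub, map_smul, h0, smul_zero, sub_zero] at h2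
        exact h2
      exact Subtype.ext (eq_zero_of_orth hN hPQ (hP p p.2) (fun w hw => h1 ⟨w, hw⟩))
    -- the kernel of `ℓ` embeds in `F`
    let θ : LinearMap.ker ℓ →ₗ[F] F := (B.flip (q₀ : V)) ∘ₗ P.subtype ∘ₗ (LinearMap.ker ℓ).subtype
    have hθ : Function.Injective θ := by
      rw [← LinearMap.ker_eq_bot, LinearMap.ker_eq_bot']
      rintro ⟨p, hp⟩ h0
      exact Subtype.ext (hzero p hp h0)
    have h4 := LinearMap.finrank_le_finrank_of_injective hθ
    rw [Module.finrank_self] at h4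
    omega
  · have h1 : Module.finrank F (LinearMap.ker ℓ) = 0 := by
      rw [Submodule.finrank_eq_zero, Submodule.eq_bot_iff]
      intro p hp
      exact Subtype.ext (eq_zero_of_orth hN hPQ (hP p p.2) (fun w hw => key p hp ⟨w, hw⟩ (hk0 _)))
    omega

/-- **Characteristic two, rank at least three.** -/
theorem prB_two {B : LinearMap.BilinForm F V} (hB : Alt B) (hN : Nond B) {r : ℕ}
    (hV : Module.finrank F V = 2 * r) (hr : 3 ≤ r) {g : V ≃ₗ[F] V} (hg : Iso B g) : PrB B 6 g := by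
  have : Fact (Nat.Prime 2) := ⟨Nat.prime_two⟩
  obtain ⟨P, Q, hP, hQ, hPQ, hPg⟩ := c1_two (CharTwo.two_eq_zero) (Module.finrank F V) V B hB hN rfl g hg
  have h2 := finrank_two hB hN hP hQ hPQ
  have hfP : Module.finrank F P = r := by omega
  have h5 : ∀ j : ℕ, 3 ≤ j → 5 ≤ 2 ^ j := fun j hj =>
    calc 5 ≤ 2 ^ 3 := by norm_num
      _ ≤ 2 ^ j := Nat.pow_le_pow_right (by norm_num) hj
  rcases Nat.even_or_odd r with hev | hodd
  swap
  · obtain ⟨x, f, hf, hfi, _, hxk⟩ := exists_x 2 hfP (by omega) (h5 r hr)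
    exact prB_c1 hB hN hg hP hQ hPQ hPg f hf hfi (cop_two hodd) hxk
  · obtain ⟨n, m, hn, hm, e⟩ := c1_factor hB hN hP hQ hPQ hg hPg
    obtain ⟨p, hp, q, hq, hpq, hpn, hqm⟩ := exists_pq hB hN hP hPQ (by omega) hn hm
    let P₁ : Submodule F V := P ⊓ LinearMap.ker (B.flip q)
    let Q₁ : Submodule F V := Q ⊓ LinearMap.ker (B p)
    have hP₁ : ∀ {v}, v ∈ P₁ ↔ v ∈ P ∧ B v q = 0 := fun {v} => Iff.rfl
    have hQ₁ : ∀ {v}, v ∈ Q₁ ↔ v ∈ Q ∧ B p v = 0 := fun {v} => Iff.rfl
    have hoP : Orth B P₁ P₁ := fun a ha b hb => hP a ha.1 b hb.1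
    have hoQ : Orth B Q₁ Q₁ := fun a ha b hb => hQ a ha.1 b hb.1
    have hNd : Nd B (P₁ ⊔ Q₁) := by
      intro v hv h0
      obtain ⟨a, ha, b, hb, rfl⟩ := Submodule.mem_sup.1 hv
      have ha' := hP₁.1 ha
      have hb' := hQ₁.1 hb
      have ha0 : a = 0 := by
        apply eq_zero_of_orth hN hPQ (hP a ha'.1)
        intro w hw
        have hw1 : w - B p w • q ∈ Q₁ := hQ₁.2 ⟨Q.sub_mem hw (Q.smul_mem _ hq), by
          rw [map_sub, map_smul, hpq, smul_eq_mul, mul_one, sub_self]⟩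
        have h1 := h0 _ (Submodule.mem_sup_right hw1)
        rw [map_add, LinearMap.add_apply, hQ b hb'.1 _ (hQ₁.1 hw1).1, add_zero, map_sub, map_smul, ha'.2,
          smul_zero, sub_zero] at h1
        exact h1
      have hb0 : b = 0 := by
        rw [ha0, zero_add] at h0
        apply eq_zero_of_orth hN hPQ _ (hQ b hb'.1)
        intro w hw
        have hw1 : w - B w q • p ∈ P₁ := hP₁.2 ⟨P.sub_mem hw (P.smul_mem _ hp), by
          rw [map_sub, map_smul, LinearMap.sub_apply, LinearMap.smul_apply, hpq, smul_eq_mul, mul_one, sub_self]⟩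
        have h1 := h0 _ (Submodule.mem_sup_left hw1)
        rw [map_sub, map_smul, hB.zero hb'.2, smul_zero, sub_zero] at h1
        exact h1
      rw [ha0, hb0, add_zero]
    have hfP₁ : Module.finrank F P₁ = r - 1 := by
      let θ : P →ₗ[F] F := (B.flip q) ∘ₗ P.subtype
      have h1 := LinearMap.finrank_range_add_finrank_ker θ
      have h3 : LinearMap.range θ = ⊤ := by
        rw [LinearMap.range_eq_top]
        intro c
        refine ⟨c • ⟨p, hp⟩, ?_⟩
        change B (c • p) q = c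
        rw [map_smul, LinearMap.smul_apply, hpq, smul_eq_mul, mul_one]
      rw [h3, finrank_top, Module.finrank_self, hfP] at h1
      have h4 : Module.finrank F (LinearMap.ker θ) = Module.finrank F P₁ := by
        have h5 : (LinearMap.ker θ).map P.subtype = P₁ := by
          ext v
          constructor
          · rintro ⟨w, hw, rfl⟩
            exact ⟨w.2, hw⟩
          · rintro ⟨hv, hv'⟩
            exact ⟨⟨v, hv⟩, hv', rfl⟩
        rw [← h5]
        exact (Submodule.equivMapOfInjective P.subtype P.injective_subtype _).finrank_eq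
      omega
    have hodd : Odd (r - 1) := by
      obtain ⟨j, hj⟩ := hev
      exact ⟨j - 1, by omega⟩
    have hr3 : 3 ≤ r - 1 := by
      obtain ⟨j, hj⟩ := hev
      omega
    obtain ⟨x, f, hf, hfi, hfix, hxk⟩ := exists_x 2 hfP₁ (by omega) (h5 _ hr3)
    rw [e]
    refine prB_corner hB hN hoP hoQ hNd f hf hfi (Or.inr hfix) (cop_two hodd) hxk ?_ ?_
    · refine ⟨skew_iso hQ hn, fun v hv => ?_, fun v hv => ?_⟩
      · rw [uni_apply, hn.2.1 v hv.1, add_zero]
      · rw [uni_apply, add_sub_cancel_left]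
        refine hQ₁.2 ⟨hn.1 v, ?_⟩
        have h1 : n p ∈ Q₁ := hQ₁.2 ⟨hn.1 p, hpn⟩
        have h3 := hn.2.2 p v
        rw [hv _ h1, zero_add] at h3
        exact h3
    · refine ⟨skew_iso hP hm, fun v hv => ?_, fun v hv => ?_⟩
      · rw [uni_apply, hm.2.1 v hv.1, add_zero]
      · rw [uni_apply, add_sub_cancel_left]
        refine hP₁.2 ⟨hm.1 v, ?_⟩
        have h1 : m q ∈ P₁ := hP₁.2 ⟨hm.1 q, hB.zero hqm⟩
        have h3 := hm.2.2 v q
        rw [hB.zero (hv _ h1), add_zero] at h3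
        exact h3

end Corner

/-- `2 ^ e - 1` is not a power of three for `e ≥ 3` -/
theorem exists_factor {e : ℕ} (he : 3 ≤ e) : ∃ j k : ℕ, 2 ^ e - 1 = 3 ^ j * k ∧ k.Coprime 6 ∧ 3 ≤ k := by
  have hpos : 8 ≤ 2 ^ e := by
    calc 8 = 2 ^ 3 := by norm_num
      _ ≤ 2 ^ e := Nat.pow_le_pow_right (by norm_num) he
  obtain ⟨j, k, hk, hjk⟩ := Nat.exists_eq_pow_mul_and_not_dvd (n := 2 ^ e - 1) (by omega) 3 (by norm_num)
  have h8 : 8 ∣ 2 ^ e := by
    rw [show (8 : ℕ) = 2 ^ 3 by norm_num]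
    exact pow_dvd_pow 2 he
  have hmod : (3 ^ j * k) % 8 = 7 := by
    rw [← hjk]; omega
  have h3 : 3 ^ j % 8 = 1 ∨ 3 ^ j % 8 = 3 := by
    clear hjk hmod
    induction j with
    | zero => left; norm_num
    | succ j ih =>
      rw [pow_succ, Nat.mul_mod]
      rcases ih with h | h <;> rw [h] <;> norm_num
  refine ⟨j, k, hjk, ?_, ?_⟩
  · rw [show (6 : ℕ) = 2 * 3 by rfl]
    apply Nat.Coprime.mul_right
    · rw [Nat.coprime_comm, Nat.Prime.coprime_iff_not_dvd Nat.prime_two]
      rintro ⟨c, rfl⟩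
      rw [show 3 ^ j * (2 * c) = 2 * (3 ^ j * c) by ring] at hmod
      omega
    · rw [Nat.coprime_comm, Nat.Prime.coprime_iff_not_dvd Nat.prime_three]
      exact hk
  · by_contra hlt
    have h4 : k = 0 ∨ k = 1 ∨ k = 2 := by omega
    rcases h4 with rfl | rfl | rfl
    · simp at hmod
    · rw [mul_one] at hmod; omega
    · omega

theorem exists_a {F : Type*} [Field F] [Fintype F] [CharP F 2] (h8 : 8 ≤ Fintype.card F) :
    ∃ (a : F) (k : ℕ), a ≠ 0 ∧ a * a ≠ 1 ∧ a ^ k = 1 ∧ k.Coprime 6 := by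
  have : Fact (Nat.Prime 2) := ⟨Nat.prime_two⟩
  obtain ⟨e, he, hcard⟩ := FiniteField.card F 2
  have he3 : 3 ≤ (e : ℕ) := by
    by_contra hlt
    have h1 : (2 : ℕ) ^ (e : ℕ) ≤ 2 ^ 2 := Nat.pow_le_pow_right (by norm_num) (by omega)
    omega
  obtain ⟨j, k, hjk, hk6, hk3⟩ := exists_factor he3
  classical
  obtain ⟨u, hu⟩ := IsCyclic.exists_generator (α := Fˣ)
  have hord : orderOf u = 3 ^ j * k := by
    rw [orderOf_eq_card_of_forall_mem_zpowers hu, Nat.card_eq_fintype_card, Fintype.card_units, hcard, hjk]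
  have hk0 : 0 < 3 ^ j := by positivity
  have hord' : orderOf (u ^ 3 ^ j) = k := by
    rw [orderOf_pow' u hk0.ne', hord, Nat.gcd_eq_right (Dvd.intro _ rfl), Nat.mul_div_cancel_left _ hk0]
  refine ⟨((u ^ 3 ^ j : Fˣ) : F), k, Units.ne_zero _, fun h0 => ?_, ?_, hk6⟩
  · have h1 : (u ^ 3 ^ j) ^ 2 = 1 := by
      rw [pow_two]
      exact Units.ext h0
    have h2 := Nat.le_of_dvd two_pos (orderOf_dvd_of_pow_eq_one h1)
    omega
  · rw [← Units.val_pow_eq_pow_val, ← hord', pow_orderOf_eq_one, Units.val_one]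

/-- **`Sp_2m(2^e)`: products of two elements of order prime to `6`** -/
theorem six_sp_two {F : Type*} [Field F] [Fintype F] [CharP F 2] (m : ℕ)
    (h : 3 ≤ m ∨ 8 ≤ Fintype.card F) : H78.Pw.All 6 (Matrix.symplecticGroup (Fin m) F) := by
  intro g
  apply pr_of_prB
  rcases h with h | h
  · have hV : Module.finrank F (Fin m ⊕ Fin m → F) = 2 * m := by
      rw [Module.finrank_fintype_fun_eq_card, Fintype.card_sum, Fintype.card_fin]
      ring
    exact prB_two Cfsg.Agent.S2445.form_alt Cfsg.Agent.S2445.form_nond hV h (Cfsg.Agent.S2445.act_iso g)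
  · obtain ⟨a, k, ha, ha2, hk, hk6⟩ := exists_a h
    exact prB_pieces ha ha2 hk hk6 (Or.inl CharTwo.two_eq_zero) Cfsg.Agent.S2445.form_alt
      Cfsg.Agent.S2445.form_nond (Cfsg.Agent.S2445.act_iso g)

/-- **`PSp_2m(2^e)`: products of two elements of order prime to `6`** -/
theorem six_psp_two {F : Type*} [Field F] [Fintype F] [CharP F 2] (m : ℕ)
    (h : 3 ≤ m ∨ 8 ≤ Fintype.card F) : H78.Pw.All 6 (PSp m F) :=
  H78.Pw.All.of_surjective (QuotientGroup.mk' _) (QuotientGroup.mk'_surjective _) (six_sp_two m h)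

end Cfsg.Agent.H649.PwSp
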