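import Mathlib
import Cfsg.Agent.H649.PwSp.Big

/-!
# Compressions

* `Fac f f' k l` : `l = x y` with `f(x) = 0 = f'(x⁻¹)`, `f'(y) = 0 = f(y⁻¹)`, `x ^ k = y ^ k = 1`.
* `Fac.prod`, `Fac.conj`.
* `prB_cmp` : if `(g - l) P ≤ Q` for a pair of complementary maximal isotropic subspaces, `Fac f f' k l` and
  `f`, `f'` are coprime, then `g` is a product of two isometries of order dividing `k`.
-/

set_option autoImplicit false
open Polynomial

noncomputable section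

namespace Cfsg.Agent.H649.PwSp

open Cfsg.Agent.H144

section Fac

variable {F : Type*} [Field F]

/-- the factorisations of `l` -/
def Fac (f f' : F[X]) (k : ℕ) {P : Type*} [AddCommGroup P] [Module F P] (l : P →ₗ[F] P) : Prop :=
  ∃ x y : P ≃ₗ[F] P, (∀ v, x (y v) = l v) ∧ (∀ v, aeval (x : Module.End F P) f v = 0) ∧
    (∀ v, aeval ((x⁻¹ : P ≃ₗ[F] P) : Module.End F P) f' v = 0) ∧
    (∀ v, aeval (y : Module.End F P) f' v = 0) ∧
    (∀ v, aeval ((y⁻¹ : P ≃ₗ[F] P) : Module.End F P) f v = 0) ∧ x ^ k = 1 ∧ y ^ k = 1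

variable {P : Type*} [AddCommGroup P] [Module F P] {P' : Type*} [AddCommGroup P'] [Module F P']

theorem aeval_prod (x : P ≃ₗ[F] P) (x' : P' ≃ₗ[F] P') (f : F[X]) (v : P × P') :
    aeval ((x.prodCongr x' : (P × P') ≃ₗ[F] (P × P')) : Module.End F (P × P')) f v =
      (aeval (x : Module.End F P) f v.1, aeval (x' : Module.End F P') f v.2) := by
  induction f using Polynomial.induction_on' with
  | add p q hp hq => simp only [map_add, LinearMap.add_apply, hp, hq, Prod.mk_add_mk]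
  | monomial k a =>
    have hk : ∀ k : ℕ, (((x.prodCongr x' : (P × P') ≃ₗ[F] (P × P')) : Module.End F (P × P')) ^ k) v =
        (((x : Module.End F P) ^ k) v.1, ((x' : Module.End F P') ^ k) v.2) := by
      intro k
      induction k with
      | zero => simp
      | succ k ih =>
        rw [pow_succ', Module.End.mul_apply, ih, pow_succ', Module.End.mul_apply, pow_succ', Module.End.mul_apply]
        rfl
    simp only [aeval_monomial, Module.algebraMap_end_eq_smul_id, Module.End.mul_apply, LinearMap.smul_apply,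
      LinearMap.id_apply, hk, Prod.smul_mk]

theorem prod_pow (x : P ≃ₗ[F] P) (x' : P' ≃ₗ[F] P') (k : ℕ) (h : x ^ k = 1) (h' : x' ^ k = 1) :
    (x.prodCongr x' : (P × P') ≃ₗ[F] (P × P')) ^ k = 1 := by
  have key : ∀ (j : ℕ) (v : P × P'), ((x.prodCongr x' : (P × P') ≃ₗ[F] (P × P')) ^ j) v =
      ((x ^ j) v.1, (x' ^ j) v.2) := by
    intro j
    induction j with
    | zero => intro v; rfl
    | succ j ih =>
      intro v
      rw [pow_succ', LinearEquiv.mul_apply, ih, pow_succ', LinearEquiv.mul_apply, pow_succ', LinearEquiv.mul_apply]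
      rfl
  apply LinearEquiv.ext
  intro v
  rw [key, h, h']
  rfl

theorem Fac.prod {f f' : F[X]} {k : ℕ} {l : P →ₗ[F] P} {l' : P' →ₗ[F] P'} (h : Fac f f' k l)
    (h' : Fac f f' k l') : Fac f f' k (l.prodMap l') := by
  obtain ⟨x, y, e, h1, h2, h3, h4, h5, h6⟩ := h
  obtain ⟨x', y', e', h1', h2', h3', h4', h5', h6'⟩ := h'
  have hx : (x.prodCongr x' : (P × P') ≃ₗ[F] (P × P'))⁻¹ = (x⁻¹).prodCongr x'⁻¹ := rfl
  have hy : (y.prodCongr y' : (P × P') ≃ₗ[F] (P × P'))⁻¹ = (y⁻¹).prodCongr y'⁻¹ := rfl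
  refine ⟨x.prodCongr x', y.prodCongr y', fun v => ?_, fun v => ?_, fun v => ?_, fun v => ?_, fun v => ?_,
    prod_pow x x' k h5 h5', prod_pow y y' k h6 h6'⟩
  · change (x (y v.1), x' (y' v.2)) = (l v.1, l' v.2)
    rw [e, e']
  · rw [aeval_prod, h1, h1']; rfl
  · rw [hx, aeval_prod, h2, h2']; rfl
  · rw [aeval_prod, h3, h3']; rfl
  · rw [hy, aeval_prod, h4, h4']; rfl

theorem Fac.conj {f f' : F[X]} {k : ℕ} {l : P →ₗ[F] P} {l' : P' →ₗ[F] P'} (h : Fac f f' k l)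
    (e : P' ≃ₗ[F] P) (he : ∀ v, e (l' v) = l (e v)) : Fac f f' k l' := by
  obtain ⟨x, y, e1, h1, h2, h3, h4, h5, h6⟩ := h
  have hc : ∀ (x : P ≃ₗ[F] P), ∀ v, (e.trans (x.trans e.symm) : P' ≃ₗ[F] P') v = e.symm (x (e v)) :=
    fun x v => rfl
  have hi : ∀ (x : P ≃ₗ[F] P), (e.trans (x.trans e.symm) : P' ≃ₗ[F] P')⁻¹ = e.trans ((x⁻¹).trans e.symm) := by
    intro x
    rfl
  have hpow : ∀ (x : P ≃ₗ[F] P) (j : ℕ) (v : P'), ((e.trans (x.trans e.symm) : P' ≃ₗ[F] P') ^ j) v =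
      e.symm ((x ^ j) (e v)) := by
    intro x j
    induction j with
    | zero => intro v; exact (e.symm_apply_apply v).symm
    | succ j ih =>
      intro v
      rw [pow_succ', LinearEquiv.mul_apply, ih, hc, e.apply_symm_apply, pow_succ', LinearEquiv.mul_apply]
  refine ⟨e.trans (x.trans e.symm), e.trans (y.trans e.symm), fun v => ?_, fun v => ?_, fun v => ?_,
    fun v => ?_, fun v => ?_, ?_, ?_⟩
  · rw [hc, hc, e.apply_symm_apply, e1, ← he, e.symm_apply_apply]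
  · rw [aeval_conj e x _ (hc x), h1, map_zero]
  · rw [hi, aeval_conj e x⁻¹ _ (hc x⁻¹), h2, map_zero]
  · rw [aeval_conj e y _ (hc y), h3, map_zero]
  · rw [hi, aeval_conj e y⁻¹ _ (hc y⁻¹), h4, map_zero]
  · apply LinearEquiv.ext
    intro v
    rw [hpow, h5]
    exact e.symm_apply_apply v
  · apply LinearEquiv.ext
    intro v
    rw [hpow, h6]
    exact e.symm_apply_apply v

end Fac

variable {F V : Type*} [Field F] [AddCommGroup V] [Module F V] [FiniteDimensional F V]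

theorem inj_of_cop {P : Type*} [AddCommGroup P] [Module F P] {f f' : F[X]} (h : IsCoprime f f')
    {z : Module.End F P} (h0 : ∀ v, aeval z f' v = 0) (v : P) (hv : aeval z f v = 0) : v = 0 := by
  obtain ⟨a, b, hab⟩ := h
  have h1 := congrArg (fun p : F[X] => aeval z p v) hab
  simp only [map_add, map_mul, LinearMap.add_apply, Module.End.mul_apply, hv, h0, map_zero, map_one,
    Module.End.one_apply, add_zero] at h1
  exact h1.symm

variable [Finite F]

/-- **Compressions.** -/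
theorem prB_cmp {B : LinearMap.BilinForm F V} (hB : Alt B) (hN : Nond B) {N : ℕ} {g : V ≃ₗ[F] V}
    (hg : Iso B g) {P Q : Submodule F V} (hP : Orth B P P) (hQ : Orth B Q Q) (hPQ : P ⊔ Q = ⊤)
    {l : P →ₗ[F] P} (hl : ∀ v : P, g v - l v ∈ Q) {f f' : F[X]} (hcop : IsCoprime f f') {k : ℕ}
    (hk : k.Coprime N) (h : Fac f f' k l) : PrB B N g := by
  obtain ⟨x, y, e, h1, h2, h3, h4, h5, h6⟩ := h
  have hNd : Nd B (P ⊔ Q) := fun v _ h => hN v (fun w => h w (by rw [hPQ]; trivial))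
  obtain ⟨X, hX, hXx, hXQ, hXp⟩ := levi_ext hB hP hQ hNd x
  obtain ⟨Y, hY, hYy, hYQ, hYp⟩ := levi_ext hB hP hQ hNd y
  have hXi := levi_inv_apply hXx
  have hYi := levi_inv_apply hYy
  have hXP : ∀ v ∈ P, X v ∈ P := fun v hv => by rw [hXx ⟨v, hv⟩]; exact (x ⟨v, hv⟩).2
  have hYP : ∀ v ∈ P, Y v ∈ P := fun v hv => by rw [hYy ⟨v, hv⟩]; exact (y ⟨v, hv⟩).2
  have hXPi := inv_mem_of_mem hXP
  have hYPi := inv_mem_of_mem hYP
  have hXQi := inv_mem_of_mem hXQ
  have hYQi := inv_mem_of_mem hYQ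
  -- powers
  have hpow : ∀ (x : P ≃ₗ[F] P) (X : V ≃ₗ[F] V), Iso B X → (∀ v : P, X v = x v) → (∀ v ∈ Q, X v ∈ Q) →
      (∀ v ∈ perp B (P ⊔ Q), X v = v) → x ^ k = 1 → X ^ k = 1 := by
    intro x X hX hXx hXQ hXp hxk
    have a1 : ∀ j : ℕ, ∀ v : P, (X ^ j) v = ((x ^ j) v : P) := by
      intro j
      induction j with
      | zero => intro v; rfl
      | succ j ih =>
        intro v
        rw [pow_succ', LinearEquiv.mul_apply, ih, hXx, pow_succ', LinearEquiv.mul_apply]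
    have a2 : ∀ j : ℕ, ∀ v ∈ Q, (X ^ j) v ∈ Q := by
      intro j
      induction j with
      | zero => intro v hv; exact hv
      | succ j ih =>
        intro v hv
        rw [pow_succ', LinearEquiv.mul_apply]
        exact hXQ _ (ih v hv)
    have a3 : ∀ j : ℕ, ∀ v ∈ perp B (P ⊔ Q), (X ^ j) v = v := by
      intro j
      induction j with
      | zero => intro v hv; rfl
      | succ j ih =>
        intro v hv
        rw [pow_succ', LinearEquiv.mul_apply, ih v hv, hXp v hv]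
    exact levi_ext_unique hB hQ hNd (iso_pow hX k) (a2 k) (fun v hv => by rw [a1 k ⟨v, hv⟩, hxk]; rfl) (a3 k)
  have hXk := hpow x X hX hXx hXQ hXp h5
  have hYk := hpow y Y hY hYy hYQ hYp h6
  -- adjoints
  have hzero : ∀ v ∈ Q, (∀ w ∈ P, B w v = 0) → v = 0 := by
    intro v hv h0
    apply eq_zero_of_orth hN hPQ _ (hQ v hv)
    intro w hw
    exact hB.zero (h0 w hw)
  -- `p(Z) = 0` on `Q` if `p(Z⁻¹) = 0` on `P`
  have adj0 : ∀ (Z : V ≃ₗ[F] V) (z : P ≃ₗ[F] P) (p : F[X]), Iso B Z → (∀ v ∈ Q, Z v ∈ Q) →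
      (∀ v : P, Z v = z v) → (∀ v, aeval (z : Module.End F P) p v = 0) →
      ∀ v ∈ Q, aeval ((Z⁻¹ : V ≃ₗ[F] V) : Module.End F V) p v = 0 := by
    intro Z z p hZ hZQ hZz h0 v hv
    apply hzero _ (aeval_mem (X := ((Z⁻¹ : V ≃ₗ[F] V) : Module.End F V)) (inv_mem_of_mem hZQ) p v hv)
    intro w hw
    have a1 := aeval_adj hZ.inv p w v
    have a2 := aeval_restrict (X := (Z : Module.End F V)) (x := (z : Module.End F P)) hZz p ⟨w, hw⟩
    rw [inv_inv, a2, h0] at a1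
    rw [a1]
    simp
  have adji : ∀ (Z : V ≃ₗ[F] V) (z : P ≃ₗ[F] P) (p : F[X]), Iso B Z →
      (∀ v : P, Z⁻¹ v = (z⁻¹ v : P)) → (∀ v, aeval ((z⁻¹ : P ≃ₗ[F] P) : Module.End F P) p v = 0 → v = 0) →
      ∀ v ∈ Q, aeval (Z : Module.End F V) p v = 0 → v = 0 := by
    intro Z z p hZ hZi hinj0 v hv h0
    apply hzero v hv
    intro w hw
    have hinj : Function.Injective (aeval ((z⁻¹ : P ≃ₗ[F] P) : Module.End F P) p) := by
      rw [← LinearMap.ker_eq_bot, LinearMap.ker_eq_bot']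
      exact hinj0
    obtain ⟨w', hw'⟩ := (LinearMap.injective_iff_surjective.1 hinj) ⟨w, hw⟩
    have a1 := aeval_adj hZ p (w' : V) v
    have a2 := aeval_restrict (X := ((Z⁻¹ : V ≃ₗ[F] V) : Module.End F V))
      (x := ((z⁻¹ : P ≃ₗ[F] P) : Module.End F P)) hZi p w'
    rw [h0, map_zero, a2, hw'] at a1
    exact a1.symm
  have hPH : Orth B P (⊥ : Submodule F V) := fun a _ b hb => by
    rw [(Submodule.mem_bot F).1 hb, map_zero]
  have hHQ : Orth B (⊥ : Submodule F V) Q := fun a ha b _ => by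
    rw [(Submodule.mem_bot F).1 ha, map_zero, LinearMap.zero_apply]
  -- `u X` is conjugate to `X`
  have := finite_lequiv F V
  have c1 : ∀ u ∈ Rad B Q, ∃ r ∈ Rad B Q, u * X = r * X * r⁻¹ := by
    refine conj_of_fpf (Rad B Q) X (fun r hr => Rad.conj hX hXQ hr) (fun r hr hc => ?_)
    refine fpf_Rad hB hN (P := Q) (H := ⊥) (Q := P) hP hQ (hHQ.symm hB) (hPH.symm hB)
      (by rw [bot_sup_eq, sup_comm]; exact hPQ) f (fun v hv => ?_) (fun v hv h0 => ?_) hr hc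
    · rw [bot_sup_eq] at hv
      rw [aeval_restrict (X := (X : Module.End F V)) (x := (x : Module.End F P)) hXx f ⟨v, hv⟩, h1]
      rfl
    · exact adji X x f hX hXi (inj_of_cop hcop h2) v hv h0
  have c2 : ∀ u ∈ Rad B P, ∃ r ∈ Rad B P, u * Y⁻¹ = r * Y⁻¹ * r⁻¹ := by
    refine conj_of_fpf (Rad B P) Y⁻¹ (fun r hr => Rad.conj hY.inv hYPi hr) (fun r hr hc => ?_)
    refine fpf_Rad hB hN (P := P) (H := ⊥) (Q := Q) hQ hP hPH hHQ
      (by rw [bot_sup_eq]; exact hPQ) f' (fun v hv => ?_) (fun v hv h0 => ?_) hr hc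
    · rw [bot_sup_eq] at hv
      exact adj0 Y y f' hY hYQ hYy h3 v hv
    · have a1 := aeval_restrict (X := ((Y⁻¹ : V ≃ₗ[F] V) : Module.End F V))
        (x := ((y⁻¹ : P ≃ₗ[F] P) : Module.End F P)) hYi f' ⟨v, hv⟩
      rw [a1] at h0
      exact congrArg Subtype.val (inj_of_cop hcop.symm h4 ⟨v, hv⟩ (Subtype.ext h0))
  -- the factorisation
  set L : V ≃ₗ[F] V := X * Y with hL
  have hLi : Iso B L := hX.mul hY
  have hLP : ∀ v ∈ P, L⁻¹ v ∈ P := by
    intro v hv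
    rw [hL, mul_inv_rev, LinearEquiv.mul_apply]
    exact hYPi _ (hXPi _ hv)
  obtain ⟨n, m, hn, hm, hnm⟩ := c1_factor hB hN hP hQ hPQ (hg.mul hLi.inv) (by
    intro v hv
    have a1 := hl ⟨L⁻¹ v, hLP v hv⟩
    have a2 : (l ⟨L⁻¹ v, hLP v hv⟩ : V) = v := by
      rw [← e, ← hXx, ← hYy]
      change L (L⁻¹ v) = v
      exact app_inv L v
    rw [a2] at a1
    exact a1)
  have hmem : L⁻¹ * uni m (skew_sq hm) * L ∈ Rad B P := by
    have := Rad.conj hLi.inv hLP (uni_mem_Rad hP hm)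
    rwa [inv_inv] at this
  obtain ⟨r, hr, er⟩ := c1 _ (uni_mem_Rad hQ hn)
  obtain ⟨s, hs, es⟩ := c2 _ (Subgroup.inv_mem _ hmem)
  have es' : Y * (L⁻¹ * uni m (skew_sq hm) * L) = s * Y * s⁻¹ := by
    calc Y * (L⁻¹ * uni m (skew_sq hm) * L) = ((L⁻¹ * uni m (skew_sq hm) * L)⁻¹ * Y⁻¹)⁻¹ := by
          rw [mul_inv_rev ((L⁻¹ * uni m (skew_sq hm) * L)⁻¹), inv_inv, inv_inv]
      _ = (s * Y⁻¹ * s⁻¹)⁻¹ := by rw [es]
      _ = s * Y * s⁻¹ := by group
  refine ⟨r * X * r⁻¹, s * Y * s⁻¹, k, ((mem_Rad.1 hr).1.mul hX).mul (mem_Rad.1 hr).1.inv,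
    ((mem_Rad.1 hs).1.mul hY).mul (mem_Rad.1 hs).1.inv, ?_, hk, pow_conj X r k hXk, pow_conj Y s k hYk⟩
  rw [← er, ← es']
  have e3 : g = uni n (skew_sq hn) * uni m (skew_sq hm) * L := by rw [← hnm]; group
  rw [e3, hL]
  group

end Cfsg.Agent.H649.PwSp
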