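import Mathlib
import Cfsg.Agent.H649.PwSp.Cmp
import Cfsg.Agent.H934.MF.Poly

/-!
# Blocks of size 3, 5, 7 in characteristic three

`F1 = l3 l5 l7`, `F2` the product of the reversed polynomials, `kk = 13 * 11 * 1093`.
* `fac_d a c` : `Fac F1 F2 kk` for the diagonal matrix with `a` ones and `c` minus ones,
  `(a, c) = (3,0), (1,2), (5,0), (3,2), (7,0), (5,2), (3,4)`;
* `fac_j` : the same for `[[0, 1], [-1, 0]] ⊕ 1`.
-/

set_option autoImplicit false
set_option maxRecDepth 20000
open Polynomial

noncomputable section

namespace Cfsg.Agent.H649.PwSp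

open Cfsg.Agent.H144 Cfsg.Agent.H934.MF

/-- matrix from the base three digits of a number -/
def dm (m N : ℕ) : Matrix (Fin m) (Fin m) (ZMod 3) := fun i j => ((N / 3 ^ (m * i.1 + j.1) % 3 : ℕ) : ZMod 3)

/-- list from the base three digits of a number -/
def dl (k N : ℕ) : List (ZMod 3) := (List.range k).map fun i => ((N / 3 ^ i % 3 : ℕ) : ZMod 3)

/-- Horner scheme -/
def chk {m : ℕ} (X : Matrix (Fin m) (Fin m) (ZMod 3)) : List (ZMod 3) → List ℕ → Bool
  | [], [M] => decide (dm m M = 0)
  | a :: l, M :: M' :: Ms => decide (dm m M = a • (1 : Matrix (Fin m) (Fin m) (ZMod 3)) + X * dm m M') &&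
      chk X l (M' :: Ms)
  | _, _ => false

theorem aeval_of_chk {m : ℕ} {X : Matrix (Fin m) (Fin m) (ZMod 3)} : ∀ {l : List (ZMod 3)} {M : ℕ} {Ms : List ℕ},
    chk X l (M :: Ms) = true → aeval X (toP l) = dm m M
  | [], M, [], h => by
    rw [chk, decide_eq_true_iff] at h
    rw [h, toP, map_zero]
  | [], M, M' :: Ms, h => by simp [chk] at h
  | a :: l, M, [], h => by simp [chk] at h
  | a :: l, M, M' :: Ms, h => by
    rw [chk, Bool.and_eq_true, decide_eq_true_iff] at h
    rw [toP, map_add, map_mul, aeval_X, aeval_C, aeval_of_chk h.2, h.1, Algebra.algebraMap_eq_smul_one]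

/-- coefficients -/
def l3 : List (ZMod 3) := [2, 0, 1, 1]
/-- coefficients -/
def l5 : List (ZMod 3) := [2, 0, 1, 2, 1, 1]
/-- coefficients -/
def l7 : List (ZMod 3) := [2, 0, 0, 0, 0, 1, 1, 1]

/-- the polynomial of `x` -/
def F1 : (ZMod 3)[X] := toP (mulL (mulL l3 l5) l7)
/-- the polynomial of `y` -/
def F2 : (ZMod 3)[X] := toP (mulL (mulL l3.reverse l5.reverse) l7.reverse)

theorem F1_eq : F1 = toP l3 * toP l5 * toP l7 := by rw [F1, toP_mulL, toP_mulL]
theorem F2_eq : F2 = toP l3.reverse * toP l5.reverse * toP l7.reverse := by rw [F2, toP_mulL, toP_mulL]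


/-- Bezout -/
def lA : List (ZMod 3) := [2, 2, 1, 0, 2, 1, 0, 0, 1, 0, 0, 2, 1, 0, 2]
/-- Bezout -/
def lB : List (ZMod 3) := [0, 2, 0, 2, 1, 2, 2, 2, 1, 2, 2, 1, 2, 0, 2]

theorem cop12 : IsCoprime F1 F2 := by
  have h : eqL (addL (mulL lA (mulL (mulL l3 l5) l7))
      (mulL lB (mulL (mulL l3.reverse l5.reverse) l7.reverse))) [1] = true := by decide +kernel
  have h2 := toP_eq h
  rw [toP_addL, toP_mulL lA, toP_mulL lB] at h2
  have h3 : toP ([1] : List (ZMod 3)) = 1 := by rw [toP, toP, C_1]; ring
  rw [h3] at h2
  exact ⟨toP lA, toP lB, h2⟩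


theorem dvd3 : toP l3 ∣ X ^ 13 - 1 := by
  have h : eqL (mulL l3 [1, 0, 1, 1, 1, 2, 2, 0, 1, 2, 1]) (xk 13) = true := by decide +kernel
  have h1 := toP_eq h
  rw [toP_mulL, toP_xk] at h1
  exact ⟨_, h1.symm⟩

theorem dvd5 : toP l5 ∣ X ^ 11 - 1 := by
  have h : eqL (mulL l5 [1, 0, 1, 2, 2, 2, 1]) (xk 11) = true := by decide +kernel
  have h1 := toP_eq h
  rw [toP_mulL, toP_xk] at h1
  exact ⟨_, h1.symm⟩

theorem dvd7 : toP l7 ∣ X ^ 1093 - 1 := by
  have h : eqL (mulL l7 (dl 1087 246457154395905646960183265700421667556118840913560958617244010167420573029674538870541538251722381140922796275671168045076469310940906147638623059532991619156598538182452882577583872667269821732109412682594302664793716094720912024342124251286534921088453211777933030658347298664731692161885510139077489829234724418777918344608228897292444438981676256904724374268037029446627428428614379839685646712367198155869719168544054871438904622555682092456668116339924838369209743891436080350734260615531931426145722429483732814)) (xk 1093) = true := by decide +kernel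
  have h1 := toP_eq h
  rw [toP_mulL, toP_xk] at h1
  exact ⟨_, h1.symm⟩


/-- the exponent -/
def kk : ℕ := 156299

theorem kk_cop : kk.Coprime 6 := by unfold kk; decide


theorem cert_D12 : dm 3 1949 * dm 3 2466 = dm 3 13285 ∧ aeval (dm 3 1949) (toP l3) = 0 ∧
    aeval (dm 3 2466) (toP l3.reverse) = 0 := by
  refine ⟨by decide +kernel, ?_, ?_⟩
  · rw [aeval_of_chk (show chk (dm 3 1949) l3 [0, 4905, 8589, 6643, 0] = true by decide +kernel)]
    decide +kernel
  · rw [aeval_of_chk (show chk (dm 3 2466) l3.reverse [0, 1951, 4932, 13286, 0] = true by decide +kernel)]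
    decide +kernel


theorem cert_J1 : dm 3 17153 * dm 3 7690 = dm 3 6618 ∧ aeval (dm 3 17153) (toP l3) = 0 ∧
    aeval (dm 3 7690) (toP l3.reverse) = 0 := by
  refine ⟨by decide +kernel, ?_, ?_⟩
  · rw [aeval_of_chk (show chk (dm 3 17153) l3 [0, 11311, 4110, 6643, 0] = true by decide +kernel)]
    decide +kernel
  · rw [aeval_of_chk (show chk (dm 3 7690) l3.reverse [0, 11786, 15272, 13286, 0] = true by decide +kernel)]
    decide +kernel


theorem cert_D32 : dm 5 629464017810 * dm 5 257067747409 = dm 5 565634446111 ∧ aeval (dm 5 629464017810) (toP l5) = 0 ∧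
    aeval (dm 5 257067747409) (toP l5.reverse) = 0 := by
  refine ⟨by decide +kernel, ?_, ?_⟩
  · rw [aeval_of_chk (show chk (dm 5 629464017810) l5 [0, 161768671339, 559460441288, 341529928600, 64991303185, 282817489141, 0] = true by decide +kernel)]
    decide +kernel
  · rw [aeval_of_chk (show chk (dm 5 257067747409) l5.reverse [0, 629468405232, 90210310269, 189601291483, 134032704794, 565634978282, 0] = true by decide +kernel)]
    decide +kernel


theorem cert_D52 : dm 7 202917948732719135014092 * dm 7 62849185432711608733784 = dm 7 159557203337965795025929 ∧ aeval (dm 7 202917948732719135014092) (toP l7) = 0 ∧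
    aeval (dm 7 62849185432711608733784) (toP l7.reverse) = 0 := by
  refine ⟨by decide +kernel, ?_, ?_⟩
  · rw [aeval_of_chk (show chk (dm 7 202917948732719135014092) l7 [0, 36296849629187191615319, 231270249621469976517603, 80790927395897538701941, 145933810810646245549308, 60474149227688768098118, 43397222096888545048333, 79778602595634228233767, 0] = true by decide +kernel)]
    decide +kernel
  · rw [aeval_of_chk (show chk (dm 7 62849185432711608733784) l7.reverse [0, 202917956821471393011417, 137744730261323661122259, 69151470950571381394816, 24243071553648389880300, 141638203225824924344539, 44946704679918015911314, 159557205191268456467534, 0] = true by decide +kernel)]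
    decide +kernel


theorem cert_D34 : dm 7 80553100621359902759815 * dm 7 104340564382029441438269 = dm 7 159557205191268413414251 ∧ aeval (dm 7 80553100621359902759815) (toP l7) = 0 ∧
    aeval (dm 7 104340564382029441438269) (toP l7.reverse) = 0 := by
  refine ⟨by decide +kernel, ?_, ?_⟩
  · rw [aeval_of_chk (show chk (dm 7 80553100621359902759815) l7 [0, 172312740887051117600039, 52732919025328596884398, 47777045201874780588813, 130278367684211124261339, 85455755713812213091483, 160331703216994130993582, 79778602595634228233767, 0] = true by decide +kernel)]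
    decide +kernel
  · rw [aeval_of_chk (show chk (dm 7 104340564382029441438269) l7.reverse [0, 80553100621357864172096, 85208044379277462310634, 208478434300204526899438, 49746410659576627251698, 218468362784745814415453, 171875365096803772336093, 159557205191268456467534, 0] = true by decide +kernel)]
    decide +kernel


theorem cert_D30 : dm 3 15345 * dm 3 1002 = dm 3 6643 ∧ aeval (dm 3 15345) (toP l3) = 0 ∧
    aeval (dm 3 1002) (toP l3.reverse) = 0 := by
  refine ⟨by decide +kernel, ?_, ?_⟩
  · rw [aeval_of_chk (show chk (dm 3 15345) l3 [0, 1002, 2305, 6643, 0] = true by decide +kernel)]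
    decide +kernel
  · rw [aeval_of_chk (show chk (dm 3 1002) l3.reverse [0, 11007, 2004, 13286, 0] = true by decide +kernel)]
    decide +kernel


theorem cert_D50 : dm 5 660303396828 * dm 5 4665109629 = dm 5 282817489141 ∧ aeval (dm 5 660303396828) (toP l5) = 0 ∧
    aeval (dm 5 4665109629) (toP l5.reverse) = 0 := by
  refine ⟨by decide +kernel, ?_, ?_⟩
  · rw [aeval_of_chk (show chk (dm 5 660303396828) l5 [0, 4665109629, 10522952929, 33882278564, 95832276526, 282817489141, 0] = true by decide +kernel)]
    decide +kernel
  · rw [aeval_of_chk (show chk (dm 5 4665109629) l5.reverse [0, 473303835306, 629904775014, 303862860639, 9330042111, 565634978282, 0] = true by decide +kernel)]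
    decide +kernel


theorem cert_D70 : dm 7 186198699678377437378179 * dm 7 145947599838558925095 = dm 7 79778602595634228233767 ∧ aeval (dm 7 186198699678377437378179) (toP l7) = 0 ∧
    aeval (dm 7 145947599838558925095) (toP l7.reverse) = 0 := by
  refine ⟨by decide +kernel, ?_, ?_⟩
  · rw [aeval_of_chk (show chk (dm 7 186198699678377437378179) l7 [0, 145947599838558925095, 328473864816516223947, 985371585791707263267, 2956114734508794473199, 8868344203515927851551, 26677973043394136021863, 79778602595634228233767, 0] = true by decide +kernel)]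
    decide +kernel
  · rw [aeval_of_chk (show chk (dm 7 145947599838558925095) l7.reverse [0, 132988651137005832807066, 97515285442758099612054, 5912229469017588946398, 1970743171583414526534, 656947729633032447894, 291895199677117850190, 159557205191268456467534, 0] = true by decide +kernel)]
    decide +kernel


end Cfsg.Agent.H649.PwSp
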