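import Mathlib
import Cfsg.Agent.H649.PwSp.Blk

/-!
# `Fac` for diagonal matrices with entries `1`, `-1` in characteristic three

* `fd_all` : `FD F a (2 t)` for `t ≤ a`, `3 ≤ a + 2 t`, `a + 2 t ≠ 4`.
* `fj` : `[[0, 1], [-1, 0]] ⊕ 1`.
-/

set_option autoImplicit false
set_option maxRecDepth 20000
open Polynomial

noncomputable section

namespace Cfsg.Agent.H649.PwSp

open Cfsg.Agent.H144 Cfsg.Agent.H934.MF

theorem aeval_reverse {R S : Type*} [CommRing R] [Ring S] [Algebra R S] {x x' : S} (h : x' * x = 1) :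
    ∀ (l : List R) (a : R), aeval x' (toP (a :: l).reverse) = x' ^ l.length * aeval x (toP (a :: l))
  | [], a => by
    simp [toP]
  | b :: l, a => by
    rw [List.reverse_cons, toP_append, map_add, aeval_reverse h l b, List.length_reverse, List.length_cons]
    have e1 : aeval x (toP (a :: b :: l)) = algebraMap R S a + x * aeval x (toP (b :: l)) := by
      rw [toP, map_add, aeval_C, map_mul, aeval_X]
    have e2 : aeval x' (X ^ (l.length + 1) * toP [a]) = x' ^ (l.length + 1) * algebraMap R S a := by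
      rw [map_mul, map_pow, aeval_X, toP, toP, mul_zero, add_zero, aeval_C]
    rw [e1, e2, mul_add, add_comm]
    congr 1
    rw [pow_succ, mul_assoc, ← mul_assoc x' x, h, one_mul]

variable (F : Type*) [Field F] [CharP F 3]

/-- the prime field -/
def ι3 : ZMod 3 →+* F := ZMod.castHom dvd_rfl F

/-- matrices over the prime field -/
def ψ3 (m : ℕ) : Matrix (Fin m) (Fin m) (ZMod 3) →+* Module.End F (Fin m → F) :=
  ((Matrix.toLinAlgEquiv' : Matrix (Fin m) (Fin m) F ≃ₐ[F] _) :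
    Matrix (Fin m) (Fin m) F →+* Module.End F (Fin m → F)).comp (ι3 F).mapMatrix

theorem ψ3_aeval (m : ℕ) (N : Matrix (Fin m) (Fin m) (ZMod 3)) (p : (ZMod 3)[X]) :
    aeval (ψ3 F m N) (p.map (ι3 F)) = ψ3 F m (aeval N p) := by
  rw [aeval_def, aeval_def, eval₂_map, hom_eval₂]
  congr 1
  exact RingHom.ext_zmod _ _

theorem ψ3_apply (m : ℕ) (N : Matrix (Fin m) (Fin m) (ZMod 3)) (v : Fin m → F) :
    ψ3 F m N v = (N.map (ι3 F)).mulVec v := rfl

/-- from certificates to `Fac` -/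
theorem fac_of_cert {m : ℕ} {a : ZMod 3} {l : List (ZMod 3)} {e : ℕ} (hdiv : toP (a :: l) ∣ X ^ e - 1) (hek : e ∣ kk)
    (h1 : toP (a :: l) ∣ F1) (h2 : toP (a :: l).reverse ∣ F2) {M N L L' : Matrix (Fin m) (Fin m) (ZMod 3)}
    (hL : L * L' = 1) (h : M * N = L) (hM : aeval M (toP (a :: l)) = 0)
    (hN : aeval N (toP (a :: l).reverse) = 0) :
    Fac (F1.map (ι3 F)) (F2.map (ι3 F)) kk (ψ3 F m L) := by
  have hL' : L' * L = 1 := mul_eq_one_comm.1 hL
  have hMi : M * (N * L') = 1 := by rw [← mul_assoc, h, hL]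
  have hMi' : (N * L') * M = 1 := mul_eq_one_comm.1 hMi
  have hNi' : (L' * M) * N = 1 := by rw [mul_assoc, h, hL']
  have hNi : N * (L' * M) = 1 := mul_eq_one_comm.1 hNi'
  -- polynomials
  have p1 : aeval M F1 = 0 := by
    obtain ⟨q, hq⟩ := h1
    rw [hq, map_mul, hM, zero_mul]
  have p2 : aeval (N * L') F2 = 0 := by
    obtain ⟨q, hq⟩ := h2
    rw [hq, map_mul, aeval_reverse hMi' l a, hM, mul_zero, zero_mul]
  have p3 : aeval N F2 = 0 := by
    obtain ⟨q, hq⟩ := h2
    rw [hq, map_mul, hN, zero_mul]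
  have p4' : aeval (L' * M) (toP (a :: l)) = 0 := by
    have e1 := aeval_reverse (x := L' * M) (x' := N) hNi l a
    rw [hN] at e1
    have e2 : (L' * M) ^ l.length * N ^ l.length = 1 := by
      have hc : Commute (L' * M) N := by rw [Commute, SemiconjBy, hNi, hNi']
      rw [← hc.mul_pow, hNi', one_pow]
    calc aeval (L' * M) (toP (a :: l)) = (L' * M) ^ l.length * N ^ l.length * aeval (L' * M) (toP (a :: l)) := by
          rw [e2, one_mul]
      _ = (L' * M) ^ l.length * (N ^ l.length * aeval (L' * M) (toP (a :: l))) := by rw [mul_assoc]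
      _ = 0 := by rw [← e1, mul_zero]
  have p4 : aeval (L' * M) F1 = 0 := by
    obtain ⟨q, hq⟩ := h1
    rw [hq, map_mul, p4', zero_mul]
  have hpk : ∀ T : Matrix (Fin m) (Fin m) (ZMod 3), aeval T (toP (a :: l)) = 0 → T ^ kk = 1 := by
    intro T hT
    obtain ⟨q, hq⟩ := hdiv
    have e1 := congrArg (aeval T) hq
    rw [map_mul, hT, zero_mul, map_sub, map_pow, aeval_X, map_one, sub_eq_zero] at e1
    obtain ⟨j, hj⟩ := hek
    rw [hj, pow_mul, e1, one_pow]
  have p5 := hpk M hM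
  have p6' := hpk (L' * M) p4'
  have p6 : N ^ kk = 1 := by
    have hc : Commute (L' * M) N := by rw [Commute, SemiconjBy, hNi, hNi']
    have e1 : ((L' * M) * N) ^ kk = (L' * M) ^ kk * N ^ kk := hc.mul_pow kk
    rw [hNi', one_pow, p6', one_mul] at e1
    exact e1.symm
  let x : (Fin m → F) ≃ₗ[F] (Fin m → F) := LinearEquiv.ofLinearMap (ψ3 F m M) (ψ3 F m (N * L'))
    (by rw [← Module.End.mul_eq_comp, ← map_mul, hMi, map_one]; rfl)
    (by rw [← Module.End.mul_eq_comp, ← map_mul, hMi', map_one]; rfl)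
  let y : (Fin m → F) ≃ₗ[F] (Fin m → F) := LinearEquiv.ofLinearMap (ψ3 F m N) (ψ3 F m (L' * M))
    (by rw [← Module.End.mul_eq_comp, ← map_mul, hNi, map_one]; rfl)
    (by rw [← Module.End.mul_eq_comp, ← map_mul, hNi', map_one]; rfl)
  have hx : (x : Module.End F (Fin m → F)) = ψ3 F m M := rfl
  have hxi : ((x⁻¹ : (Fin m → F) ≃ₗ[F] (Fin m → F)) : Module.End F (Fin m → F)) = ψ3 F m (N * L') := rfl
  have hy : (y : Module.End F (Fin m → F)) = ψ3 F m N := rfl
  have hyi : ((y⁻¹ : (Fin m → F) ≃ₗ[F] (Fin m → F)) : Module.End F (Fin m → F)) = ψ3 F m (L' * M) := rfl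
  have hpow : ∀ (z : (Fin m → F) ≃ₗ[F] (Fin m → F)) (T : Matrix (Fin m) (Fin m) (ZMod 3)),
      (z : Module.End F (Fin m → F)) = ψ3 F m T → T ^ kk = 1 → z ^ kk = 1 := by
    intro z T hz hT
    have e1 : ∀ j : ℕ, ((z ^ j : (Fin m → F) ≃ₗ[F] (Fin m → F)) : Module.End F (Fin m → F)) = ψ3 F m (T ^ j) := by
      intro j
      induction j with
      | zero => rw [pow_zero, pow_zero, map_one]; rfl
      | succ j ih =>
        rw [pow_succ, map_pow, pow_succ, ← map_pow, ← ih, ← hz]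
        rfl
    apply LinearEquiv.ext
    intro v
    have e2 := LinearMap.congr_fun (e1 kk) v
    rw [hT, map_one] at e2
    exact e2
  refine ⟨x, y, fun v => ?_, fun v => ?_, fun v => ?_, fun v => ?_, fun v => ?_, hpow x M hx p5, hpow y N hy p6⟩
  · have e1 : ψ3 F m M * ψ3 F m N = ψ3 F m L := by rw [← map_mul, h]
    exact LinearMap.congr_fun e1 v
  · rw [hx, ψ3_aeval, p1, map_zero, LinearMap.zero_apply]
  · rw [hxi, ψ3_aeval, p2, map_zero, LinearMap.zero_apply]
  · rw [hy, ψ3_aeval, p3, map_zero, LinearMap.zero_apply]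
  · rw [hyi, ψ3_aeval, p4, map_zero, LinearMap.zero_apply]

theorem d31 : toP l3 ∣ F1 := by
  rw [F1_eq, mul_assoc]; exact dvd_mul_right _ _
theorem d51 : toP l5 ∣ F1 := by
  rw [F1_eq, mul_comm (toP l3), mul_assoc]; exact dvd_mul_right _ _
theorem d71 : toP l7 ∣ F1 := by
  rw [F1_eq]; exact dvd_mul_left _ _
theorem d32 : toP l3.reverse ∣ F2 := by
  rw [F2_eq, mul_assoc]; exact dvd_mul_right _ _
theorem d52 : toP l5.reverse ∣ F2 := by
  rw [F2_eq, mul_comm (toP l3.reverse), mul_assoc]; exact dvd_mul_right _ _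
theorem d72 : toP l7.reverse ∣ F2 := by
  rw [F2_eq]; exact dvd_mul_left _ _

/-- the standard involution -/
def std (F : Type*) [Field F] (a c : ℕ) : ((Fin a → F) × (Fin c → F)) →ₗ[F] ((Fin a → F) × (Fin c → F)) :=
  LinearMap.id.prodMap (-LinearMap.id)

/-- `Fac` for the standard involution -/
def FD (a c : ℕ) : Prop := Fac (F1.map (ι3 F)) (F2.map (ι3 F)) kk (std F a c)

variable {F}

theorem FD.add {a c a' c' : ℕ} (h : FD F a c) (h' : FD F a' c') : FD F (a + a') (c + c') := by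
  let e1 : (Fin (a + a') → F) ≃ₗ[F] (Fin a → F) × (Fin a' → F) := LinearEquiv.ofFinrankEq _ _ (by simp)
  let e2 : (Fin (c + c') → F) ≃ₗ[F] (Fin c → F) × (Fin c' → F) := LinearEquiv.ofFinrankEq _ _ (by simp)
  refine (Fac.prod h h').conj ((e1.prodCongr e2).trans (LinearEquiv.prodProdProdComm F _ _ _ _)) ?_
  rintro ⟨v, w⟩
  change (((e1 v).1, (e2 (-w)).1), ((e1 v).2, (e2 (-w)).2)) = (((e1 v).1, -(e2 w).1), ((e1 v).2, -(e2 w).2))
  rw [map_neg]
  rfl

/-- the matrix form -/
theorem fd_of_diag {a c : ℕ} (h : Fac (F1.map (ι3 F)) (F2.map (ι3 F)) kk (ψ3 F (a + c)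
    (Matrix.diagonal fun i : Fin (a + c) => if i.1 < a then (1 : ZMod 3) else -1))) : FD F a c := by
  let e : ((Fin a → F) × (Fin c → F)) ≃ₗ[F] (Fin (a + c) → F) :=
    (LinearEquiv.sumArrowLequivProdArrow (Fin a) (Fin c) F F).symm.trans
      (LinearEquiv.funCongrLeft F F (finSumFinEquiv (m := a) (n := c)).symm)
  have he : ∀ (v : (Fin a → F) × (Fin c → F)) (i : Fin (a + c)),
      e v i = Sum.elim v.1 v.2 (finSumFinEquiv.symm i) := fun v i => rfl
  refine h.conj e ?_
  rintro ⟨v, w⟩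
  ext i
  rw [ψ3_apply, he, Matrix.diagonal_map (map_zero _), Matrix.mulVec_diagonal, he]
  obtain ⟨j, rfl⟩ := (finSumFinEquiv (m := a) (n := c)).surjective i
  rw [Equiv.symm_apply_apply]
  rcases j with j | j
  · have : (finSumFinEquiv (Sum.inl j) : Fin (a + c)).1 < a := by simp
    simp only [std, Sum.elim_inl]
    rw [if_pos this, map_one, one_mul]
    rfl
  · have : ¬ (finSumFinEquiv (Sum.inr j) : Fin (a + c)).1 < a := by simp
    simp only [std, Sum.elim_inr]
    rw [if_neg this, map_neg, map_one, neg_one_mul]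
    rfl

variable (F)


theorem fd_D30 : FD F 3 0 := by
  apply fd_of_diag
  have hc := cert_D30
  have hd : dm 3 6643 = Matrix.diagonal fun i : Fin (3 + 0) => if i.1 < 3 then (1 : ZMod 3) else -1 := by
    decide +kernel
  rw [← hd]
  refine fac_of_cert F (L' := dm 3 6643) dvd3 (by decide) d31 d32 (by decide +kernel) hc.1 hc.2.1 hc.2.2


theorem fd_D12 : FD F 1 2 := by
  apply fd_of_diag
  have hc := cert_D12
  have hd : dm 3 13285 = Matrix.diagonal fun i : Fin (1 + 2) => if i.1 < 1 then (1 : ZMod 3) else -1 := by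
    decide +kernel
  rw [← hd]
  refine fac_of_cert F (L' := dm 3 13285) dvd3 (by decide) d31 d32 (by decide +kernel) hc.1 hc.2.1 hc.2.2


theorem fd_D50 : FD F 5 0 := by
  apply fd_of_diag
  have hc := cert_D50
  have hd : dm 5 282817489141 = Matrix.diagonal fun i : Fin (5 + 0) => if i.1 < 5 then (1 : ZMod 3) else -1 := by
    decide +kernel
  rw [← hd]
  refine fac_of_cert F (L' := dm 5 282817489141) dvd5 (by decide) d51 d52 (by decide +kernel) hc.1 hc.2.1 hc.2.2


theorem fd_D32 : FD F 3 2 := by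
  apply fd_of_diag
  have hc := cert_D32
  have hd : dm 5 565634446111 = Matrix.diagonal fun i : Fin (3 + 2) => if i.1 < 3 then (1 : ZMod 3) else -1 := by
    decide +kernel
  rw [← hd]
  refine fac_of_cert F (L' := dm 5 565634446111) dvd5 (by decide) d51 d52 (by decide +kernel) hc.1 hc.2.1 hc.2.2


theorem fd_D70 : FD F 7 0 := by
  apply fd_of_diag
  have hc := cert_D70
  have hd : dm 7 79778602595634228233767 = Matrix.diagonal fun i : Fin (7 + 0) => if i.1 < 7 then (1 : ZMod 3) else -1 := by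
    decide +kernel
  rw [← hd]
  refine fac_of_cert F (L' := dm 7 79778602595634228233767) dvd7 (by decide) d71 d72 (by decide +kernel) hc.1 hc.2.1 hc.2.2


theorem fd_D52 : FD F 5 2 := by
  apply fd_of_diag
  have hc := cert_D52
  have hd : dm 7 159557203337965795025929 = Matrix.diagonal fun i : Fin (5 + 2) => if i.1 < 5 then (1 : ZMod 3) else -1 := by
    decide +kernel
  rw [← hd]
  refine fac_of_cert F (L' := dm 7 159557203337965795025929) dvd7 (by decide) d71 d72 (by decide +kernel) hc.1 hc.2.1 hc.2.2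


theorem fd_D34 : FD F 3 4 := by
  apply fd_of_diag
  have hc := cert_D34
  have hd : dm 7 159557205191268413414251 = Matrix.diagonal fun i : Fin (3 + 4) => if i.1 < 3 then (1 : ZMod 3) else -1 := by
    decide +kernel
  rw [← hd]
  refine fac_of_cert F (L' := dm 7 159557205191268413414251) dvd7 (by decide) d71 d72 (by decide +kernel) hc.1 hc.2.1 hc.2.2


/-- `(x, y) ↦ (y, - x)` -/
def jj : (F × F) →ₗ[F] (F × F) := (LinearMap.snd F F F).prod (-LinearMap.fst F F F)

theorem fj : Fac (F1.map (ι3 F)) (F2.map (ι3 F)) kk ((jj F).prodMap (LinearMap.id : F →ₗ[F] F)) := by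
  have hc := cert_J1
  have h := fac_of_cert F (L' := dm 3 6594) dvd3 (by decide) d31 d32 (by decide +kernel) hc.1 hc.2.1 hc.2.2
  let e : ((F × F) × F) ≃ₗ[F] (Fin 3 → F) :=
    { toFun := fun v => ![v.1.1, v.1.2, v.2]
      map_add' := fun v w => by ext i; fin_cases i <;> rfl
      map_smul' := fun c v => by ext i; fin_cases i <;> rfl
      invFun := fun v => ((v 0, v 1), v 2)
      left_inv := fun v => rfl
      right_inv := fun v => by ext i; fin_cases i <;> rfl }
  refine h.conj e ?_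
  rintro ⟨⟨x, y⟩, z⟩
  have hd : dm 3 6618 = !![0, 1, 0; 2, 0, 0; 0, 0, 1] := by decide +kernel
  have h2 : ι3 F 2 = -1 := by
    have : (2 : ZMod 3) = -1 := by decide
    rw [this, map_neg, map_one]
  rw [ψ3_apply, hd]
  change ![y, -x, z] = (Matrix.map !![0, 1, 0; 2, 0, 0; 0, 0, 1] (ι3 F)).mulVec ![x, y, z]
  ext i
  fin_cases i
  · simp [Matrix.mulVec, dotProduct, Fin.sum_univ_three]
  · simp [Matrix.mulVec, dotProduct, Fin.sum_univ_three, h2]
  · simp [Matrix.mulVec, dotProduct, Fin.sum_univ_three]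

/-- all cases without minus signs -/
theorem fd_one (a : ℕ) (h3 : 3 ≤ a) (h4 : a ≠ 4) : FD F a 0 := by
  induction a using Nat.strong_induction_on with
  | _ a ih =>
  rcases (show a = 3 ∨ a = 5 ∨ a = 7 ∨ (6 ≤ a ∧ a ≠ 7) by omega) with rfl | rfl | rfl | ⟨h, h7⟩
  · exact fd_D30 F
  · exact fd_D50 F
  · exact fd_D70 F
  · have h1 := (ih (a - 3) (by omega) (by omega) (by omega)).add (fd_D30 F)
    have h2 : a - 3 + 3 = a := by omega
    rwa [h2] at h1

/-- **all cases** -/
theorem fd_all (t : ℕ) : ∀ a : ℕ, t ≤ a → 3 ≤ a + 2 * t → a + 2 * t ≠ 4 → FD F a (2 * t) := by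
  induction t with
  | zero => intro a _ h3 h4; exact fd_one F a (by omega) (by omega)
  | succ t ih =>
    intro a hta h3 h4
    rcases (show (a = 1 ∧ t = 0) ∨ (a = 3 ∧ t = 0) ∨ (a = 5 ∧ t = 0) ∨ (a = 3 ∧ t = 1) ∨
      (3 ≤ (a - 1) + 2 * t ∧ (a - 1) + 2 * t ≠ 4) by omega) with ⟨rfl, rfl⟩ | ⟨rfl, rfl⟩ | ⟨rfl, rfl⟩ | ⟨rfl, rfl⟩ | ⟨h5, h6⟩
    · exact fd_D12 F
    · exact fd_D32 F
    · exact fd_D52 F
    · exact fd_D34 F
    · have h1 := (ih (a - 1) (by omega) h5 h6).add (fd_D12 F)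
      have h2 : a - 1 + 1 = a := by omega
      have h7 : 2 * t + 2 = 2 * (t + 1) := by ring
      rwa [h2, h7] at h1

/-- **the mixed case** -/
theorem fj_all (t a : ℕ) (hta : t ≤ a) (h3 : 3 ≤ a + 2 * t) (h4 : a + 2 * t ≠ 4) :
    Fac (F1.map (ι3 F)) (F2.map (ι3 F)) kk ((jj F).prodMap (std F (a + 1) (2 * t))) := by
  have h := Fac.prod (fj F) (fd_all F t a hta h3 h4)
  let e1 : (Fin (a + 1) → F) ≃ₗ[F] F × (Fin a → F) := LinearEquiv.ofFinrankEq _ _ (by simp [add_comm])
  let e : ((F × F) × ((Fin (a + 1) → F) × (Fin (2 * t) → F))) ≃ₗ[F]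
      (((F × F) × F) × ((Fin a → F) × (Fin (2 * t) → F))) :=
    { toFun := fun v => ((v.1, (e1 v.2.1).1), ((e1 v.2.1).2, v.2.2))
      map_add' := fun v w => by
        simp only [Prod.fst_add, Prod.snd_add, map_add, Prod.mk_add_mk]
      map_smul' := fun c v => by
        simp only [Prod.smul_fst, Prod.smul_snd, map_smul, RingHom.id_apply, Prod.smul_mk]
      invFun := fun v => (v.1.1, (e1.symm (v.1.2, v.2.1), v.2.2))
      left_inv := fun v => by
        simp only [Prod.mk.eta, LinearEquiv.symm_apply_apply]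
      right_inv := fun v => by
        simp only [LinearEquiv.apply_symm_apply, Prod.mk.eta] }
  exact h.conj e (fun v => rfl)

end Cfsg.Agent.H649.PwSp
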