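import Mathlib
import Cfsg.Agent.H649.PwSp.Blk2

/-!
# The blocks `[[0, 1], [-1, 0]] ⊕ 1` of size 5 and 7
-/

set_option autoImplicit false
set_option maxRecDepth 20000
open Polynomial

noncomputable section

namespace Cfsg.Agent.H649.PwSp

open Cfsg.Agent.H144 Cfsg.Agent.H934.MF


theorem cert_J13 : dm 5 806546627557 * dm 5 347042359576 = dm 5 282817488900 ∧ aeval (dm 5 806546627557) (toP l5) = 0 ∧
    aeval (dm 5 347042359576) (toP l5.reverse) = 0 := by
  refine ⟨by decide +kernel, ?_, ?_⟩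
  · rw [aeval_of_chk (show chk (dm 5 806546627557) l5 [0, 347056591119, 668300674721, 431169827078, 240913243601, 282817489141, 0] = true by decide +kernel)]
    decide +kernel
  · rw [aeval_of_chk (show chk (dm 5 347042359576) l5.reverse [0, 450438943562, 582794274146, 765756619434, 599490287867, 565634978282, 0] = true by decide +kernel)]
    decide +kernel


theorem fjs3 (F : Type*) [Field F] [CharP F 3] :
    Fac (F1.map (ι3 F)) (F2.map (ι3 F)) kk ((jj F).prodMap (std F 3 0)) := by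
  have hc := cert_J13
  have h := fac_of_cert F (L' := dm 5 282817488660) dvd5 (by decide) d51 d52 (by decide +kernel) hc.1 hc.2.1 hc.2.2
  let e : ((F × F) × ((Fin 3 → F) × (Fin 0 → F))) ≃ₗ[F] (Fin 5 → F) :=
    { toFun := fun v => ![v.1.1, v.1.2, v.2.1 0, v.2.1 1, v.2.1 2]
      map_add' := fun v w => by ext i; fin_cases i <;> rfl
      map_smul' := fun c v => by ext i; fin_cases i <;> rfl
      invFun := fun v => ((v 0, v 1), (![v 2, v 3, v 4], 0))
      left_inv := fun v => by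
        obtain ⟨⟨x, y⟩, ⟨v, w⟩⟩ := v
        refine Prod.ext rfl (Prod.ext ?_ (Subsingleton.elim _ _))
        ext i; fin_cases i <;> rfl
      right_inv := fun v => by ext i; fin_cases i <;> rfl }
  refine h.conj e ?_
  rintro ⟨⟨x, y⟩, ⟨v, w⟩⟩
  have hd : dm 5 282817488900 = !![0, 1, 0, 0, 0; 2, 0, 0, 0, 0; 0, 0, 1, 0, 0; 0, 0, 0, 1, 0; 0, 0, 0, 0, 1] := by decide +kernel
  have h2 : ι3 F 2 = -1 := by
    have : (2 : ZMod 3) = -1 := by decide
    rw [this, map_neg, map_one]
  rw [ψ3_apply, hd]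
  change ![y, -x, v 0, v 1, v 2] = (Matrix.map !![0, 1, 0, 0, 0; 2, 0, 0, 0, 0; 0, 0, 1, 0, 0; 0, 0, 0, 1, 0; 0, 0, 0, 0, 1] (ι3 F)).mulVec ![x, y, v 0, v 1, v 2]
  ext i
  fin_cases i <;> simp [Matrix.mulVec, dotProduct, Fin.sum_univ_succ, h2]


theorem cert_J15 : dm 7 14669727728299744584454 * dm 7 86372794991396951036545 = dm 7 79778602595634228231582 ∧ aeval (dm 7 14669727728299744584454) (toP l7) = 0 ∧
    aeval (dm 7 86372794991396951036545) (toP l7.reverse) = 0 := by
  refine ⟨by decide +kernel, ?_, ?_⟩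
  · rw [aeval_of_chk (show chk (dm 7 14669727728299744584454) l7 [0, 85935269152393441843246, 158496259486542508136532, 231258681929031097529943, 183832651949244296887607, 78991151842836499243802, 94448330323086684189095, 79778602595634228233767, 0] = true by decide +kernel)]
    decide +kernel
  · rw [aeval_of_chk (show chk (dm 7 86372794991396951036545) l7.reverse [0, 25067595363100159784957, 9664216207078784514435, 96652522733399060634429, 134664895285575219230202, 191020973489690108332625, 162897828867864973173284, 159557205191268456467534, 0] = true by decide +kernel)]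
    decide +kernel


theorem fjs5 (F : Type*) [Field F] [CharP F 3] :
    Fac (F1.map (ι3 F)) (F2.map (ι3 F)) kk ((jj F).prodMap (std F 5 0)) := by
  have hc := cert_J15
  have h := fac_of_cert F (L' := dm 7 79778602595634228229398) dvd7 (by decide) d71 d72 (by decide +kernel) hc.1 hc.2.1 hc.2.2
  let e : ((F × F) × ((Fin 5 → F) × (Fin 0 → F))) ≃ₗ[F] (Fin 7 → F) :=
    { toFun := fun v => ![v.1.1, v.1.2, v.2.1 0, v.2.1 1, v.2.1 2, v.2.1 3, v.2.1 4]
      map_add' := fun v w => by ext i; fin_cases i <;> rfl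
      map_smul' := fun c v => by ext i; fin_cases i <;> rfl
      invFun := fun v => ((v 0, v 1), (![v 2, v 3, v 4, v 5, v 6], 0))
      left_inv := fun v => by
        obtain ⟨⟨x, y⟩, ⟨v, w⟩⟩ := v
        refine Prod.ext rfl (Prod.ext ?_ (Subsingleton.elim _ _))
        ext i; fin_cases i <;> rfl
      right_inv := fun v => by ext i; fin_cases i <;> rfl }
  refine h.conj e ?_
  rintro ⟨⟨x, y⟩, ⟨v, w⟩⟩
  have hd : dm 7 79778602595634228231582 = !![0, 1, 0, 0, 0, 0, 0; 2, 0, 0, 0, 0, 0, 0; 0, 0, 1, 0, 0, 0, 0; 0, 0, 0, 1, 0, 0, 0; 0, 0, 0, 0, 1, 0, 0; 0, 0, 0, 0, 0, 1, 0; 0, 0, 0, 0, 0, 0, 1] := by decide +kernel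
  have h2 : ι3 F 2 = -1 := by
    have : (2 : ZMod 3) = -1 := by decide
    rw [this, map_neg, map_one]
  rw [ψ3_apply, hd]
  change ![y, -x, v 0, v 1, v 2, v 3, v 4] = (Matrix.map !![0, 1, 0, 0, 0, 0, 0; 2, 0, 0, 0, 0, 0, 0; 0, 0, 1, 0, 0, 0, 0; 0, 0, 0, 1, 0, 0, 0; 0, 0, 0, 0, 1, 0, 0; 0, 0, 0, 0, 0, 1, 0; 0, 0, 0, 0, 0, 0, 1] (ι3 F)).mulVec ![x, y, v 0, v 1, v 2, v 3, v 4]
  ext i
  fin_cases i <;> simp [Matrix.mulVec, dotProduct, Fin.sum_univ_succ, h2]


end Cfsg.Agent.H649.PwSp
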