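import Mathlib
import Cfsg.Agent.H649.PwSp.Cmp

/-!
# Compressions which are involutions

* `DatOn B g R a c` : `R = A ⊕ C ⊕ Q`, `A ⊕ C`, `Q` isotropic, `(g - 1) A ≤ Q`, `(g + 1) C ≤ Q`, `dim A = a`, `dim C = c`.
* `DatOn.sup`, `DatOn.neg`, `dat_c1`, `dat_refl` (a reflection).
* `exists_dec2` : `V = R ⊥ S`, `g` is `C1` on `R`, `-g` is `C1` on `S`.
-/

set_option autoImplicit false
open Polynomial

noncomputable section

namespace Cfsg.Agent.H649.PwSp

open Cfsg.Agent.H144

variable {F V : Type*} [Field F] [AddCommGroup V] [Module F V]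

/-- the data -/
def DatOn (B : LinearMap.BilinForm F V) (g : V ≃ₗ[F] V) (R : Submodule F V) (a c : ℕ) : Prop :=
  ∃ A C Q : Submodule F V, Orth B (A ⊔ C) (A ⊔ C) ∧ Orth B Q Q ∧ (A ⊔ C) ⊔ Q = R ∧ Disjoint A C ∧
    (∀ v ∈ A, g v - v ∈ Q) ∧ (∀ v ∈ C, g v + v ∈ Q) ∧ Module.finrank F A = a ∧ Module.finrank F C = c

theorem DatOn.neg {B : LinearMap.BilinForm F V} {g : V ≃ₗ[F] V} {R : Submodule F V} {a c : ℕ}
    (h : DatOn B g R a c) : DatOn B (ng g) R c a := by
  obtain ⟨A, C, Q, h1, h2, h3, h4, h5, h6, h7, h8⟩ := h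
  refine ⟨C, A, Q, by rwa [sup_comm], h2, by rwa [sup_comm C A], h4.symm, fun v hv => ?_, fun v hv => ?_, h8, h7⟩
  · have := Q.neg_mem (h6 v hv)
    rw [ng_apply]
    convert this using 1
    abel
  · have := Q.neg_mem (h5 v hv)
    rw [ng_apply]
    convert this using 1
    abel

theorem DatOn.sup [FiniteDimensional F V] {B : LinearMap.BilinForm F V} (hB : Alt B) {g : V ≃ₗ[F] V}
    {R S : Submodule F V} (hRS : Orth B R S) (hd : Disjoint R S) {a c a' c' : ℕ}
    (h : DatOn B g R a c) (h' : DatOn B g S a' c') : DatOn B g (R ⊔ S) (a + a') (c + c') := by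
  obtain ⟨A, C, Q, h1, h2, h3, h4, h5, h6, h7, h8⟩ := h
  obtain ⟨A', C', Q', h1', h2', h3', h4', h5', h6', h7', h8'⟩ := h'
  have hP : A ⊔ C ≤ R := by rw [← h3]; exact le_sup_left
  have hQ : Q ≤ R := by rw [← h3]; exact le_sup_right
  have hP' : A' ⊔ C' ≤ S := by rw [← h3']; exact le_sup_left
  have hQ' : Q' ≤ S := by rw [← h3']; exact le_sup_right
  have hA : A ≤ R := le_sup_left.trans hP
  have hC : C ≤ R := le_sup_right.trans hP
  have hA' : A' ≤ S := le_sup_left.trans hP'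
  have hC' : C' ≤ S := le_sup_right.trans hP'
  have hfin : ∀ {X X' : Submodule F V}, X ≤ R → X' ≤ S →
      Module.finrank F (X ⊔ X' : Submodule F V) = Module.finrank F X + Module.finrank F X' := by
    intro X X' hX hX'
    have e1 := Submodule.finrank_sup_add_finrank_inf_eq X X'
    have e2 : X ⊓ X' = ⊥ := (hd.mono hX hX').eq_bot
    rw [e2, finrank_bot] at e1
    omega
  refine ⟨A ⊔ A', C ⊔ C', Q ⊔ Q', ?_, ?_, ?_, ?_, ?_, ?_, ?_, ?_⟩
  · rw [sup_sup_sup_comm]
    exact isotropic_sup hB h1 h1' (fun x hx y hy => hRS x (hP hx) y (hP' hy))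
  · exact isotropic_sup hB h2 h2' (fun x hx y hy => hRS x (hQ hx) y (hQ' hy))
  · rw [sup_sup_sup_comm A, sup_sup_sup_comm (A ⊔ C), h3, h3']
  · rw [Submodule.disjoint_def]
    intro v hv hv'
    obtain ⟨x, hx, x', hx', rfl⟩ := Submodule.mem_sup.1 hv
    obtain ⟨y, hy, y', hy', e⟩ := Submodule.mem_sup.1 hv'
    have e1 : x - y = y' - x' := by
      rw [sub_eq_sub_iff_add_eq_add, ← e]; abel
    have e2 : x - y = 0 := Submodule.disjoint_def.1 hd _ (R.sub_mem (hA hx) (hC hy))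
      (by rw [e1]; exact S.sub_mem (hC' hy') (hA' hx'))
    have e3 : x = 0 := Submodule.disjoint_def.1 h4 x hx (by rw [sub_eq_zero.1 e2]; exact hy)
    have e4 : x' = 0 := by
      rw [e2] at e1
      exact Submodule.disjoint_def.1 h4' x' hx' (by rw [← sub_eq_zero.1 e1.symm]; exact hy')
    rw [e3, e4, add_zero]
  · intro v hv
    obtain ⟨x, hx, x', hx', rfl⟩ := Submodule.mem_sup.1 hv
    have : g (x + x') - (x + x') = (g x - x) + (g x' - x') := by rw [map_add]; abel
    rw [this]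
    exact Submodule.add_mem_sup (h5 x hx) (h5' x' hx')
  · intro v hv
    obtain ⟨x, hx, x', hx', rfl⟩ := Submodule.mem_sup.1 hv
    have : g (x + x') + (x + x') = (g x + x) + (g x' + x') := by rw [map_add]; abel
    rw [this]
    exact Submodule.add_mem_sup (h6 x hx) (h6' x' hx')
  · rw [hfin hA hA', h7, h7']
  · rw [hfin hC hC', h8, h8']

section FD

variable [FiniteDimensional F V]

/-- transfer from a subspace -/
theorem DatOn.of_restrict {B : LinearMap.BilinForm F V} {g : V ≃ₗ[F] V} {R : Submodule F V} (hI : Inv g R)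
    {a c : ℕ} (h : DatOn (B.restrict R) (gr g R hI) ⊤ a c) : DatOn B g R a c := by
  obtain ⟨A, C, Q, h1, h2, h3, h4, h5, h6, h7, h8⟩ := h
  have hfin : ∀ X : Submodule F R, Module.finrank F (X.map R.subtype) = Module.finrank F X := fun X =>
    (Submodule.equivMapOfInjective R.subtype R.injective_subtype X).finrank_eq.symm
  refine ⟨A.map R.subtype, C.map R.subtype, Q.map R.subtype, ?_, ?_, ?_, ?_, ?_, ?_, ?_, ?_⟩
  · rw [← Submodule.map_sup]
    rintro _ ⟨x, hx, rfl⟩ _ ⟨y, hy, rfl⟩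
    exact h1 x hx y hy
  · rintro _ ⟨x, hx, rfl⟩ _ ⟨y, hy, rfl⟩
    exact h2 x hx y hy
  · rw [← Submodule.map_sup, ← Submodule.map_sup, h3, Submodule.map_subtype_top]
  · rw [Submodule.disjoint_def]
    rintro _ ⟨x, hx, rfl⟩ ⟨y, hy, e⟩
    have : y = x := R.injective_subtype e
    subst this
    rw [Submodule.disjoint_def.1 h4 y hx hy, map_zero]
  · rintro _ ⟨x, hx, rfl⟩
    exact ⟨_, h5 x hx, rfl⟩
  · rintro _ ⟨x, hx, rfl⟩
    exact ⟨_, h6 x hx, rfl⟩
  · rw [hfin, h7]
  · rw [hfin, h8]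

theorem dat_c1_top {B : LinearMap.BilinForm F V} (hB : Alt B) (hN : Nond B) {g : V ≃ₗ[F] V} {r : ℕ}
    (hr : Module.finrank F V = 2 * r) (h : C1 B g) : DatOn B g ⊤ r 0 := by
  obtain ⟨P, Q, hP, hQ, hPQ, hg⟩ := h
  have h1 := finrank_two hB hN hP hQ hPQ
  refine ⟨P, ⊥, Q, by rwa [sup_bot_eq], hQ, by rwa [sup_bot_eq], disjoint_bot_right, hg, fun v hv => ?_, by omega,
    finrank_bot F V⟩
  rw [(Submodule.mem_bot F).1 hv, map_zero, add_zero]
  exact Q.zero_mem

theorem dat_c1 {B : LinearMap.BilinForm F V} (hB : Alt B) {g : V ≃ₗ[F] V} {R : Submodule F V} (hR : Nd B R)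
    (hI : Inv g R) {r : ℕ} (hr : Module.finrank F R = 2 * r) (h : C1On B g R) : DatOn B g R r 0 :=
  DatOn.of_restrict hI (dat_c1_top (restrict_alt hB R) (restrict_nond hR) hr (c1_of_c1On hI h))

/-- **The reflection.** -/
theorem dat_refl_top {B : LinearMap.BilinForm F V} (hB : Alt B) (hN : Nond B) (h2 : (2 : F) ≠ 0)
    {g : V ≃ₗ[F] V} (hg : Iso B g) {r : ℕ} {P Q : Submodule F V} (hP : Orth B P P) (hQ : Orth B Q Q)
    (hPQ : P ⊔ Q = ⊤) (hr : Module.finrank F P = r) (h : ∀ v ∈ P, g v - v ∈ Q) {z : V} (hz : z ∈ P)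
    (hz0 : B z (g z) ≠ 0) : DatOn B g ⊤ (r - 1) 1 := by
  have hzne : z ≠ 0 := by
    rintro rfl
    rw [map_zero, LinearMap.zero_apply] at hz0
    exact hz0 rfl
  have hw : B z (g z - z) = B z (g z) := by rw [map_sub, hB z, sub_zero]
  -- symmetry
  have hsym : ∀ v ∈ P, B z (g v) = B v (g z) := by
    intro v hv
    have h1 := hQ _ (h z hz) _ (h v hv)
    simp only [map_sub, LinearMap.sub_apply] at h1
    rw [hg z v, hP z hz v hv] at h1
    have h3 : B (g z) v = - B v (g z) := hB.neg _ _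
    rw [h3] at h1
    linear_combination -h1
  let A : Submodule F V := P ⊓ LinearMap.ker (B.flip (g z))
  have hA : ∀ {v}, v ∈ A ↔ v ∈ P ∧ B v (g z) = 0 := fun {v} => Iff.rfl
  let D : Submodule F V := Q ⊓ LinearMap.ker (B z)
  have hD : ∀ {v}, v ∈ D ↔ v ∈ Q ∧ B z v = 0 := fun {v} => Iff.rfl
  have hAP : A ≤ P := inf_le_left
  have hCP : Submodule.span F {z} ≤ P := (Submodule.span_singleton_le_iff_mem _ _).2 hz
  have hPA : A ⊔ Submodule.span F {z} = P := by
    apply le_antisymm (sup_le hAP hCP)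
    intro v hv
    rw [Submodule.mem_sup]
    refine ⟨v - (B v (g z) / B z (g z)) • z, hA.2 ⟨P.sub_mem hv (P.smul_mem _ hz), ?_⟩,
      (B v (g z) / B z (g z)) • z, Submodule.smul_mem _ _ (Submodule.mem_span_singleton_self z), by abel⟩
    rw [map_sub, map_smul, LinearMap.sub_apply, LinearMap.smul_apply, smul_eq_mul, div_mul_cancel₀ _ hz0, sub_self]
  have hdis : Disjoint A (Submodule.span F {z}) := by
    rw [Submodule.disjoint_def]
    intro v hv hv'
    obtain ⟨c, rfl⟩ := Submodule.mem_span_singleton.1 hv'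
    have h1 := (hA.1 hv).2
    rw [map_smul, LinearMap.smul_apply, smul_eq_mul] at h1
    rw [(mul_eq_zero.1 h1).resolve_right hz0, zero_smul]
  have hfC : Module.finrank F (Submodule.span F {z}) = 1 := finrank_span_singleton hzne
  have hfA : Module.finrank F A = r - 1 := by
    have e1 := Submodule.finrank_sup_add_finrank_inf_eq A (Submodule.span F {z})
    rw [hPA, hdis.eq_bot, finrank_bot, hfC, hr] at e1
    omega
  refine ⟨A, Submodule.span F {z}, D ⊔ Submodule.span F {g z + z}, by rwa [hPA], ?_, ?_, hdis, ?_, ?_, hfA, hfC⟩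
  · refine isotropic_sup hB (fun x hx y hy => hQ x hx.1 y hy.1) ?_ ?_
    · intro x hx y hy
      obtain ⟨c, rfl⟩ := Submodule.mem_span_singleton.1 hx
      obtain ⟨d, rfl⟩ := Submodule.mem_span_singleton.1 hy
      rw [map_smul, map_smul, LinearMap.smul_apply, hB (g z + z), smul_zero, smul_zero]
    · intro x hx y hy
      obtain ⟨d, rfl⟩ := Submodule.mem_span_singleton.1 hy
      have hx' := hD.1 hx
      have h1 : g z + z = (g z - z) + (2 : F) • z := by
        rw [two_smul]; abel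
      rw [map_smul, h1, map_add, hQ x hx'.1 _ (h z hz), map_smul, hB.zero hx'.2]
      simp
  · rw [hPA]
    have hgz : g z + z ∈ P ⊔ (D ⊔ Submodule.span F {g z + z}) :=
      Submodule.mem_sup_right (Submodule.mem_sup_right (Submodule.mem_span_singleton_self _))
    have hz' : z ∈ P ⊔ (D ⊔ Submodule.span F {g z + z}) := Submodule.mem_sup_left hz
    rw [eq_top_iff, ← hPQ]
    apply sup_le le_sup_left
    intro w hw'
    have h1 : w - (B z w / B z (g z)) • (g z - z) ∈ D := hD.2 ⟨Q.sub_mem hw' (Q.smul_mem _ (h z hz)), by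
      rw [map_sub, map_smul, hw, smul_eq_mul, div_mul_cancel₀ _ hz0, sub_self]⟩
    have h3 : w = (w - (B z w / B z (g z)) • (g z - z)) + ((B z w / B z (g z)) • (g z + z)
        - ((B z w / B z (g z)) * 2) • z) := by
      module
    rw [h3]
    exact Submodule.add_mem _ (Submodule.mem_sup_right (Submodule.mem_sup_left h1))
      (Submodule.sub_mem _ (Submodule.smul_mem _ _ hgz) (Submodule.smul_mem _ _ hz'))
  · intro v hv
    apply Submodule.mem_sup_left
    have hv' := hA.1 hv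
    refine hD.2 ⟨h v hv'.1, ?_⟩
    rw [map_sub, hsym v hv'.1, hv'.2, hP z hz v hv'.1, sub_zero]
  · intro v hv
    obtain ⟨c, rfl⟩ := Submodule.mem_span_singleton.1 hv
    apply Submodule.mem_sup_right
    rw [map_smul, ← smul_add]
    exact Submodule.smul_mem _ _ (Submodule.mem_span_singleton_self _)

theorem dat_refl_top' {B : LinearMap.BilinForm F V} (hB : Alt B) (hN : Nond B) (h2 : (2 : F) ≠ 0)
    {g : V ≃ₗ[F] V} (hg : Iso B g) {r : ℕ} (hr : Module.finrank F V = 2 * r) (h : C1 B g)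
    (hne : ∃ v, g v ≠ v) : DatOn B g ⊤ (r - 1) 1 := by
  obtain ⟨P, Q, hP, hQ, hPQ, hPg⟩ := h
  have h1 := finrank_two hB hN hP hQ hPQ
  have h1' := finrank_eq hB hN hP hQ hPQ
  by_cases hc : ∃ z ∈ P, B z (g z) ≠ 0
  · obtain ⟨z, hz, hz0⟩ := hc
    exact dat_refl_top hB hN h2 hg hP hQ hPQ (by omega) hPg hz hz0
  push Not at hc
  obtain ⟨n, m, hn, hm, e⟩ := c1_factor hB hN hP hQ hPQ hg hPg
  -- `n = 0`
  have hgn : ∀ v ∈ P, g v = v + n v := by
    intro v hv
    rw [e, LinearEquiv.mul_apply, uni_apply (z := m), hm.2.1 v hv, add_zero, uni_apply]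
  have hn0 : ∀ v ∈ P, n v = 0 := by
    intro v hv
    apply eq_zero_of_orth hN hPQ _ (hQ _ (hn.1 v))
    intro w hw
    have a1 := hc (v + w) (P.add_mem hv hw)
    have a2 := hc v hv
    have a3 := hc w hw
    rw [hgn _ (P.add_mem hv hw), map_add n] at a1
    rw [hgn v hv] at a2
    rw [hgn w hw] at a3
    simp only [map_add, LinearMap.add_apply, hB v, hB w, hP v hv w hw, hP w hw v hv, zero_add, add_zero] at a1 a2 a3
    have a4 := hn.2.2 v w
    have a5 : B w (n v) = - B (n v) w := hB.neg _ _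
    have a6 : (2 : F) * B (n v) w = 0 := by
      rw [a2, a3] at a1
      linear_combination a4 - a1 + a5
    exact (mul_eq_zero.1 a6).resolve_left h2
  have hgP : ∀ v ∈ P, g v = v := fun v hv => by rw [hgn v hv, hn0 v hv, add_zero]
  have hnz : ∀ v, n v = 0 := by
    intro v
    obtain ⟨p, hp, q, hq, rfl⟩ := mem_sup_top hPQ v
    rw [map_add, hn0 p hp, hn.2.1 q hq, add_zero]
  have hgm : ∀ v, g v = v + m v := by
    intro v
    rw [e, LinearEquiv.mul_apply, uni_apply (z := n), hnz, add_zero, uni_apply]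
  have hQg : ∀ v ∈ Q, g v - v ∈ P := fun v _ => by
    rw [hgm, add_sub_cancel_left]
    exact hm.1 v
  by_cases hc' : ∃ z ∈ Q, B z (g z) ≠ 0
  · obtain ⟨z, hz, hz0⟩ := hc'
    exact dat_refl_top hB hN h2 hg hQ hP (by rw [sup_comm]; exact hPQ) (by omega) hQg hz hz0
  exfalso
  push Not at hc'
  have hm0 : ∀ v ∈ Q, m v = 0 := by
    intro v hv
    apply eq_zero_of_orth hN hPQ (hP _ (hm.1 v))
    intro w hw
    have a1 := hc' (v + w) (Q.add_mem hv hw)
    have a2 := hc' v hv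
    have a3 := hc' w hw
    rw [hgm, map_add m] at a1
    rw [hgm] at a2 a3
    simp only [map_add, LinearMap.add_apply, hB v, hB w, hQ v hv w hw, hQ w hw v hv, zero_add, add_zero] at a1 a2 a3
    have a4 := hm.2.2 v w
    have a5 : B w (m v) = - B (m v) w := hB.neg _ _
    have a6 : (2 : F) * B (m v) w = 0 := by
      rw [a2, a3] at a1
      linear_combination a4 - a1 + a5
    exact (mul_eq_zero.1 a6).resolve_left h2
  obtain ⟨v, hv⟩ := hne
  apply hv
  obtain ⟨p, hp, q, hq, rfl⟩ := mem_sup_top hPQ v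
  rw [hgm, map_add, hm.2.1 p hp, hm0 q hq, add_zero, add_zero]

theorem dat_refl {B : LinearMap.BilinForm F V} (hB : Alt B) (h2 : (2 : F) ≠ 0) {g : V ≃ₗ[F] V} (hg : Iso B g)
    {R : Submodule F V} (hR : Nd B R) (hI : Inv g R) {r : ℕ} (hr : Module.finrank F R = 2 * r) (h : C1On B g R)
    (hne : ∃ v ∈ R, g v ≠ v) : DatOn B g R (r - 1) 1 := by
  obtain ⟨v, hv, hne⟩ := hne
  exact DatOn.of_restrict hI (dat_refl_top' (restrict_alt hB R) (restrict_nond hR) h2 (gr_iso hg R hI) hr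
    (c1_of_c1On hI h) ⟨⟨v, hv⟩, fun h0 => hne (congrArg Subtype.val h0)⟩)

/-- the decomposition into a `C1` part and a `-C1` part -/
def Dec2 (B : LinearMap.BilinForm F V) (g : V ≃ₗ[F] V) (P : Submodule F V) : Prop :=
  ∃ R S : Submodule F V, Orth B R S ∧ Inv g R ∧ Inv g S ∧ Nd B R ∧ Nd B S ∧ R ⊔ S = P ∧ C1On B g R ∧
    C1On B (ng g) S

theorem exists_dec2 [Finite F] {B : LinearMap.BilinForm F V} (hB : Alt B) {g : V ≃ₗ[F] V}
    (hg : Iso B g) (n : ℕ) : ∀ P : Submodule F V, Inv g P → Nd B P → Module.finrank F P = n → Dec2 B g P := by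
  induction n using Nat.strong_induction_on with
  | _ n ih =>
  intro P hPI hPN hn
  rcases Nat.eq_zero_or_pos n with h0 | hpos
  · rw [h0] at hn
    have hbot : P = ⊥ := Submodule.finrank_eq_zero.1 hn
    subst hbot
    refine ⟨⊥, ⊥, ?_, Inv.bot g, Inv.bot g, Nd.bot B, Nd.bot B, by simp, C1On.bot B g, C1On.bot B (ng g)⟩
    intro x hx y _
    rw [Submodule.mem_bot] at hx
    subst hx; simp
  · -- a minimal nonzero invariant nondegenerate subspace
    classical
    have hex : ∃ k, ∃ Q : Submodule F V, Q ≤ P ∧ Q ≠ ⊥ ∧ Inv g Q ∧ Nd B Q ∧ Module.finrank F Q = k :=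
      ⟨n, P, le_rfl, by
        rintro rfl
        rw [finrank_bot] at hn
        omega, hPI, hPN, hn⟩
    obtain ⟨Q, hQP, hQ0, hQI, hQN, hQk⟩ := Nat.find_spec hex
    have hmin : ∀ Q' : Submodule F V, Q' ≤ P → Q' ≠ ⊥ → Inv g Q' → Nd B Q' →
        Module.finrank F Q ≤ Module.finrank F Q' := by
      intro Q' h1 h2 h3 h4
      rw [hQk]
      exact Nat.find_min' hex ⟨Q', h1, h2, h3, h4, rfl⟩
    have hQnt : Nontrivial Q := Submodule.nontrivial_iff_ne_bot.2 hQ0
    have hIndec : Indec (B.restrict Q) (gr g Q hQI) := by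
      intro R hRI hRN
      by_cases hR : R = ⊥
      · exact Or.inl hR
      right
      have h1 : Module.finrank F (R.map Q.subtype) = Module.finrank F R :=
        (Submodule.equivMapOfInjective Q.subtype Q.injective_subtype R).finrank_eq.symm
      have h2 := hmin (R.map Q.subtype) ((Submodule.map_subtype_le Q R).trans hQP) (by
        intro h0
        apply hR
        rw [h0, finrank_bot] at h1
        exact Submodule.finrank_eq_zero.1 h1.symm) (by
        rintro _ ⟨x, hx, rfl⟩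
        exact ⟨_, hRI x hx, rfl⟩) (by
        rintro _ ⟨x, hx, rfl⟩ h0
        have := hRN x hx (fun w hw => h0 w ⟨w, hw, rfl⟩)
        rw [this]; rfl)
      rw [h1] at h2
      exact Submodule.eq_top_of_finrank_eq (le_antisymm (Submodule.finrank_le R) h2)
    have hpiece := indec_main (restrict_alt hB Q) (restrict_nond hQN) (gr_iso hg Q hQI) hIndec
    -- the complement
    set R := P ⊓ perp B Q with hR
    have hQR : Q ⊔ R = P := by
      apply le_antisymm (sup_le hQP inf_le_left)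
      intro v hv
      have h1 : v ∈ Q ⊔ perp B Q := by rw [sup_perp hB hQN]; trivial
      obtain ⟨a, ha, b, hb, rfl⟩ := Submodule.mem_sup.1 h1
      refine Submodule.add_mem_sup ha ⟨?_, hb⟩
      have := P.sub_mem hv (hQP ha)
      simpa using this
    have hQRo : Orth B Q R := fun x hx y hy => hy.2 x hx
    have hRI : Inv g R := by
      intro v hv
      refine ⟨hPI v hv.1, fun w hw => ?_⟩
      rw [hg.adj']
      exact hv.2 _ (inv_mem_of_mem hQI w hw)
    have hRN : Nd B R := by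
      intro v hv h0
      apply hPN v hv.1
      intro w hw
      rw [← hQR] at hw
      obtain ⟨a, ha, b, hb, rfl⟩ := Submodule.mem_sup.1 hw
      rw [map_add, h0 b hb, hB.zero (hQRo a ha v hv), add_zero]
    have hdisj : Disjoint Q R := by
      rw [Submodule.disjoint_def]
      intro v hv hv'
      exact hQN v hv (fun w hw => hB.zero (hv'.2 w hw))
    have hfin : Module.finrank F Q + Module.finrank F R = n := by
      have h1 := Submodule.finrank_sup_add_finrank_inf_eq Q R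
      rw [hQR, hdisj.eq_bot, finrank_bot, hn] at h1
      omega
    have hQpos : 0 < Module.finrank F Q := Module.finrank_pos
    obtain ⟨P', P₁, o1, i1, i2, n1, n2, hsup, hc, hc'⟩ :=
      ih (Module.finrank F R) (by omega) R hRI hRN rfl
    have hP'R : P' ≤ R := by rw [← hsup]; exact le_sup_left
    have hP₁R : P₁ ≤ R := by rw [← hsup]; exact le_sup_right
    have oQ : ∀ {T : Submodule F V}, T ≤ R → Orth B Q T := fun hT x hx y hy => hQRo x hx y (hT hy)
    rcases hpiece with hC | ⟨h2, hE⟩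
    · refine ⟨Q ⊔ P', P₁, orth_sup (oQ hP₁R) o1, Inv.sup hQI i1, i2,
        Nd.sup hB (oQ hP'R) hQN n1, n2, ?_, C1On.sup hB (oQ hP'R) (c1On_of_c1 hQI hC) hc, hc'⟩
      rw [sup_assoc, hsup, hQR]
    · have hI' : Inv (ng g) Q := fun w hw => by
        rw [ng_apply]; exact Q.neg_mem (hQI w hw)
      have hCQ : C1On B (ng g) Q := by
        apply c1On_of_c1 hI'
        have : gr (ng g) Q hI' = ng (gr g Q hQI) := by
          ext w
          rfl
        rw [this]
        exact hE.1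
      refine ⟨P', Q ⊔ P₁, orth_sup' ((oQ hP'R).symm hB) o1, i1, Inv.sup hQI i2, n1,
        Nd.sup hB (oQ hP₁R) hQN n2, ?_, hc, C1On.sup hB (oQ hP₁R) hCQ hc'⟩
      rw [← sup_assoc, sup_comm P' Q, sup_assoc, hsup, hQR]

variable [Finite F]

/-- compressions with a model of `P` -/
theorem prB_model {B : LinearMap.BilinForm F V} (hB : Alt B) (hN : Nond B) {N : ℕ} {g : V ≃ₗ[F] V}
    (hg : Iso B g) {W : Type*} [AddCommGroup W] [Module F W] {φ : W →ₗ[F] V} (hφ : Function.Injective φ)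
    (hP : ∀ w w', B (φ w) (φ w') = 0) {Q : Submodule F V} (hQ : Orth B Q Q) (htop : LinearMap.range φ ⊔ Q = ⊤)
    {l : W →ₗ[F] W} (hl : ∀ w, g (φ w) - φ (l w) ∈ Q) {f f' : F[X]} (hcop : IsCoprime f f') {k : ℕ}
    (hk : k.Coprime N) (h : Fac f f' k l) : PrB B N g := by
  let e : W ≃ₗ[F] LinearMap.range φ := LinearEquiv.ofInjective φ hφ
  have he : ∀ w, (e w : V) = φ w := fun w => rfl
  refine prB_cmp hB hN hg (P := LinearMap.range φ) (Q := Q) ?_ hQ htop
    (l := (e : W →ₗ[F] LinearMap.range φ) ∘ₗ l ∘ₗ (e.symm : LinearMap.range φ →ₗ[F] W)) ?_ hcop hk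
    (h.conj e.symm (fun v => ?_))
  · rintro _ ⟨x, rfl⟩ _ ⟨y, rfl⟩
    exact hP x y
  · intro v
    have h1 := hl (e.symm v)
    rw [← he, e.apply_symm_apply] at h1
    exact h1
  · exact e.symm_apply_apply _

theorem prB_dat {B : LinearMap.BilinForm F V} (hB : Alt B) (hN : Nond B) {N : ℕ} {g : V ≃ₗ[F] V}
    (hg : Iso B g) {a c : ℕ} (h : DatOn B g ⊤ a c) {f f' : F[X]} (hcop : IsCoprime f f') {k : ℕ}
    (hk : k.Coprime N) (hF : Fac f f' k (LinearMap.id.prodMap (-LinearMap.id) :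
      ((Fin a → F) × (Fin c → F)) →ₗ[F] ((Fin a → F) × (Fin c → F)))) : PrB B N g := by
  obtain ⟨A, C, Q, h1, h2, h3, h4, h5, h6, h7, h8⟩ := h
  let eA : (Fin a → F) ≃ₗ[F] A := LinearEquiv.ofFinrankEq _ _ (by simp [h7])
  let eC : (Fin c → F) ≃ₗ[F] C := LinearEquiv.ofFinrankEq _ _ (by simp [h8])
  let φ : ((Fin a → F) × (Fin c → F)) →ₗ[F] V :=
    (A.subtype ∘ₗ (eA : (Fin a → F) →ₗ[F] A)).coprod (C.subtype ∘ₗ (eC : (Fin c → F) →ₗ[F] C))
  have hφ : ∀ w, φ w = (eA w.1 : V) + (eC w.2 : V) := fun w => rfl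
  have hmem : ∀ w, φ w ∈ A ⊔ C := fun w => by
    rw [hφ]; exact Submodule.add_mem_sup (eA w.1).2 (eC w.2).2
  refine prB_model hB hN hg (φ := φ) (Q := Q) ?_ (fun w w' => h1 _ (hmem w) _ (hmem w')) h2 ?_ (fun w => ?_)
    hcop hk hF
  · rw [← LinearMap.ker_eq_bot, LinearMap.ker_eq_bot']
    rintro ⟨x, y⟩ h0
    rw [hφ] at h0
    have e1 : (eA x : V) = 0 := Submodule.disjoint_def.1 h4 _ (eA x).2 (by
      rw [eq_neg_of_add_eq_zero_left h0]; exact C.neg_mem (eC y).2)
    rw [e1, zero_add] at h0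
    have e2 : x = 0 := eA.map_eq_zero_iff.1 (Subtype.ext e1)
    have e3 : y = 0 := eC.map_eq_zero_iff.1 (Subtype.ext h0)
    rw [e2, e3]; rfl
  · rw [eq_top_iff, ← h3]
    refine sup_le_sup_right (sup_le ?_ ?_) Q
    · intro v hv
      refine ⟨(eA.symm ⟨v, hv⟩, 0), ?_⟩
      rw [hφ]
      simp
    · intro v hv
      refine ⟨(0, eC.symm ⟨v, hv⟩), ?_⟩
      rw [hφ]
      simp
  · have e1 : g (φ w) - φ ((LinearMap.id.prodMap (-LinearMap.id) :
        ((Fin a → F) × (Fin c → F)) →ₗ[F] ((Fin a → F) × (Fin c → F))) w) =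
        (g (eA w.1 : V) - (eA w.1 : V)) + (g (eC w.2 : V) + (eC w.2 : V)) := by
      rw [hφ, hφ]
      change g ((eA w.1 : V) + (eC w.2 : V)) - ((eA w.1 : V) + (eC (-w.2) : V)) = _
      rw [map_add, map_neg, Submodule.coe_neg]
      abel
    rw [e1]
    exact Q.add_mem (h5 _ (eA w.1).2) (h6 _ (eC w.2).2)

end FD

end Cfsg.Agent.H649.PwSp
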