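import Mathlib
import Cfsg.Agent.H649.PwSp.Dat
import Cfsg.Agent.H649.PwSp.Blk2

/-!
# The mixed case: `g = 1` on `R`, `g = -1` on `S`, both of odd rank, characteristic three
-/

set_option autoImplicit false
open Polynomial

noncomputable section

namespace Cfsg.Agent.H649.PwSp

open Cfsg.Agent.H144

variable {F V : Type*} [Field F] [AddCommGroup V] [Module F V] [FiniteDimensional F V]

/-- split off a hyperbolic pair -/
theorem split_pair {B : LinearMap.BilinForm F V} (hB : Alt B) {g : V ≃ₗ[F] V} {R : Submodule F V}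
    (nR : Nd B R) (hI : Inv g R) (h : C1On B g R) {a : ℕ} (hR : Module.finrank F R = 2 * (a + 1)) :
    ∃ P Q A D : Submodule F V, ∃ e ∈ P, ∃ f ∈ Q, B e f = 1 ∧ Orth B P P ∧ Orth B Q Q ∧ P ⊔ Q = R ∧
      A ≤ P ∧ D ≤ Q ∧ (∀ v ∈ A, B v f = 0) ∧ (∀ v ∈ D, B e v = 0) ∧ P ≤ A ⊔ Submodule.span F {e} ∧
      Q ≤ D ⊔ Submodule.span F {f} ∧ Module.finrank F A = a := by
  have hC := dat_c1 hB nR hI hR h
  obtain ⟨P, C, Q, h1, h2, h3, h4, -, -, h7, h8⟩ := hC
  have hC0 : C = ⊥ := Submodule.finrank_eq_zero.1 h8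
  subst hC0
  rw [sup_bot_eq] at h1 h3
  have hP0 : P ≠ ⊥ := by
    rintro rfl
    rw [finrank_bot] at h7
    omega
  obtain ⟨e, he, he0⟩ := Submodule.exists_mem_ne_zero_of_ne_bot hP0
  have hPR : P ≤ R := by rw [← h3]; exact le_sup_left
  obtain ⟨f₀, hf₀, hne⟩ : ∃ f ∈ Q, B e f ≠ 0 := by
    by_contra hcon
    push Not at hcon
    apply he0
    apply nR e (hPR he)
    intro w hw
    rw [← h3] at hw
    obtain ⟨p, hp, q, hq, rfl⟩ := Submodule.mem_sup.1 hw
    rw [map_add, h1 e he p hp, hcon q hq, add_zero]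
  set f : V := (B e f₀)⁻¹ • f₀ with hf
  have hfQ : f ∈ Q := Q.smul_mem _ hf₀
  have hef : B e f = 1 := by rw [hf, map_smul, smul_eq_mul, inv_mul_cancel₀ hne]
  clear_value f
  let A : Submodule F V := P ⊓ LinearMap.ker (B.flip f)
  let D : Submodule F V := Q ⊓ LinearMap.ker (B e)
  have hA : ∀ {v}, v ∈ A ↔ v ∈ P ∧ B v f = 0 := fun {v} => Iff.rfl
  have hD : ∀ {v}, v ∈ D ↔ v ∈ Q ∧ B e v = 0 := fun {v} => Iff.rfl
  have hPA : P ≤ A ⊔ Submodule.span F {e} := by
    intro v hv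
    rw [Submodule.mem_sup]
    refine ⟨v - B v f • e, hA.2 ⟨P.sub_mem hv (P.smul_mem _ he), ?_⟩, B v f • e,
      Submodule.smul_mem _ _ (Submodule.mem_span_singleton_self e), by abel⟩
    rw [map_sub, map_smul, LinearMap.sub_apply, LinearMap.smul_apply, hef, smul_eq_mul, mul_one, sub_self]
  have hQD : Q ≤ D ⊔ Submodule.span F {f} := by
    intro v hv
    rw [Submodule.mem_sup]
    refine ⟨v - B e v • f, hD.2 ⟨Q.sub_mem hv (Q.smul_mem _ hfQ), ?_⟩, B e v • f,
      Submodule.smul_mem _ _ (Submodule.mem_span_singleton_self f), by abel⟩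
    rw [map_sub, map_smul, hef, smul_eq_mul, mul_one, sub_self]
  have hdis : A ⊓ Submodule.span F {e} = ⊥ := by
    rw [Submodule.eq_bot_iff]
    rintro v ⟨hv, hv'⟩
    obtain ⟨c, rfl⟩ := Submodule.mem_span_singleton.1 hv'
    have h5 := (hA.1 hv).2
    rw [map_smul, LinearMap.smul_apply, smul_eq_mul, hef, mul_one] at h5
    rw [h5, zero_smul]
  have hPe : A ⊔ Submodule.span F {e} = P :=
    le_antisymm (sup_le inf_le_left ((Submodule.span_singleton_le_iff_mem _ _).2 he)) hPA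
  refine ⟨P, Q, A, D, e, he, f, hfQ, hef, h1, h2, h3, inf_le_left, inf_le_left, fun v hv => (hA.1 hv).2,
    fun v hv => (hD.1 hv).2, hPA, hQD, ?_⟩
  have e1 := Submodule.finrank_sup_add_finrank_inf_eq A (Submodule.span F {e})
  rw [hPe, hdis, finrank_bot, finrank_span_singleton he0, h7] at e1
  omega

variable [Finite F]

/-- **The mixed case.** -/
theorem prB_mixed {B : LinearMap.BilinForm F V} (hB : Alt B) (hN : Nond B) (h3 : (3 : F) = 0) {N : ℕ}
    {g : V ≃ₗ[F] V} (hg : Iso B g) {R S : Submodule F V} (o : Orth B R S) (nR : Nd B R) (nS : Nd B S)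
    (iR : Inv g R) (iS : Inv (ng g) S) (htop : R ⊔ S = ⊤) (gR : ∀ v ∈ R, g v = v) (gS : ∀ v ∈ S, g v = -v)
    (cR : C1On B g R) (cS : C1On B (ng g) S) {a b : ℕ} (hR : Module.finrank F R = 2 * (a + 1))
    (hS : Module.finrank F S = 2 * (b + 1)) {f₁ f₂ : F[X]} (hcop : IsCoprime f₁ f₂) {k : ℕ} (hk : k.Coprime N)
    (hF : Fac f₁ f₂ k ((jj F).prodMap (std F a b))) : PrB B N g := by
  obtain ⟨P, Q, A, D, e, he, f, hf, hef, hP, hQ, hPQ, hAP, hDQ, hAf, hDe, hPA, hQD, hfA⟩ :=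
    split_pair hB nR iR cR hR
  obtain ⟨P', Q', A', D', e', he', f', hf', hef', hP', hQ', hPQ', hAP', hDQ', hAf', hDe', hPA', hQD', hfA'⟩ :=
    split_pair hB nS iS cS hS
  have hPR : P ≤ R := by rw [← hPQ]; exact le_sup_left
  have hQR : Q ≤ R := by rw [← hPQ]; exact le_sup_right
  have hPS : P' ≤ S := by rw [← hPQ']; exact le_sup_left
  have hQS : Q' ≤ S := by rw [← hPQ']; exact le_sup_right
  have oo : ∀ {x y : V}, x ∈ R → y ∈ S → B x y = 0 := fun hx hy => o _ hx _ hy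
  have oo' : ∀ {x y : V}, x ∈ S → y ∈ R → B x y = 0 := fun hx hy => hB.zero (o _ hy _ hx)
  have h2 : (2 : F) ≠ 0 := by
    intro h0
    have : (1 : F) = 0 := by linear_combination h3 - h0
    exact one_ne_zero this
  let eA : (Fin a → F) ≃ₗ[F] A := LinearEquiv.ofFinrankEq _ _ (by simp [hfA])
  let eC : (Fin b → F) ≃ₗ[F] A' := LinearEquiv.ofFinrankEq _ _ (by simp [hfA'])
  set p₁ : V := e + e' with hp₁
  set p₂ : V := (e - e') + (f - f') with hp₂
  set q₁ : V := -(f + f') with hq₁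
  set q₂ : V := -(e - e') + (f - f') with hq₂
  let φ : ((F × F) × ((Fin a → F) × (Fin b → F))) →ₗ[F] V :=
    { toFun := fun w => w.1.1 • p₁ + w.1.2 • p₂ + ((eA w.2.1 : V) + (eC w.2.2 : V))
      map_add' := fun v w => by
        simp only [Prod.fst_add, Prod.snd_add, map_add, Submodule.coe_add, add_smul]
        abel
      map_smul' := fun c v => by
        simp only [Prod.smul_fst, Prod.smul_snd, map_smul, Submodule.coe_smul, RingHom.id_apply, smul_eq_mul]
        module }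
  have hφ : ∀ w, φ w = w.1.1 • p₁ + w.1.2 • p₂ + ((eA w.2.1 : V) + (eC w.2.2 : V)) := fun w => rfl
  -- the table
  have eR : e ∈ R := hPR he
  have fR : f ∈ R := hQR hf
  have eS : e' ∈ S := hPS he'
  have fS : f' ∈ S := hQS hf'
  have hfe : B f e = -1 := by rw [hB.neg, hef]
  have hfe' : B f' e' = -1 := by rw [hB.neg, hef']
  have t1 := oo eR eS
  have t2 := oo eR fS
  have t3 := oo fR eS
  have t4 := oo fR fS
  have t5 := oo' eS eR
  have t6 := oo' eS fR
  have t7 := oo' fS eR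
  have t8 := oo' fS fR
  have tee := hB e
  have tff := hB f
  have tee' := hB e'
  have tff' := hB f'
  -- values on `A`, `A'`, `D`, `D'`
  have uA : ∀ x : Fin a → F, B (eA x : V) e = 0 ∧ B (eA x : V) f = 0 ∧ B (eA x : V) e' = 0 ∧
      B (eA x : V) f' = 0 ∧ B e (eA x : V) = 0 ∧ B f (eA x : V) = 0 ∧ B e' (eA x : V) = 0 ∧
      B f' (eA x : V) = 0 := by
    intro x
    have h1 : (eA x : V) ∈ P := hAP (eA x).2
    have h5 := hP _ h1 e he
    have h6 := hAf _ (eA x).2
    exact ⟨h5, h6, oo (hPR h1) eS, oo (hPR h1) fS, hB.zero h5, hB.zero h6, oo' eS (hPR h1), oo' fS (hPR h1)⟩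
  have uC : ∀ x : Fin b → F, B (eC x : V) e = 0 ∧ B (eC x : V) f = 0 ∧ B (eC x : V) e' = 0 ∧
      B (eC x : V) f' = 0 ∧ B e (eC x : V) = 0 ∧ B f (eC x : V) = 0 ∧ B e' (eC x : V) = 0 ∧
      B f' (eC x : V) = 0 := by
    intro x
    have h1 : (eC x : V) ∈ P' := hAP' (eC x).2
    have h5 := hP' _ h1 e' he'
    have h6 := hAf' _ (eC x).2
    exact ⟨oo' (hPS h1) eR, oo' (hPS h1) fR, h5, h6, oo eR (hPS h1), oo fR (hPS h1), hB.zero h5, hB.zero h6⟩
  have uAA : ∀ x y : Fin a → F, B (eA x : V) (eA y : V) = 0 := fun x y => hP _ (hAP (eA x).2) _ (hAP (eA y).2)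
  have uCC : ∀ x y : Fin b → F, B (eC x : V) (eC y : V) = 0 := fun x y => hP' _ (hAP' (eC x).2) _ (hAP' (eC y).2)
  have uAC : ∀ (x : Fin a → F) (y : Fin b → F), B (eA x : V) (eC y : V) = 0 := fun x y =>
    oo (hPR (hAP (eA x).2)) (hPS (hAP' (eC y).2))
  have uCA : ∀ (x : Fin b → F) (y : Fin a → F), B (eC x : V) (eA y : V) = 0 := fun x y =>
    oo' (hPS (hAP' (eC x).2)) (hPR (hAP (eA y).2))
  have vD : ∀ x ∈ D, B x e = 0 ∧ B x f = 0 ∧ B x e' = 0 ∧ B x f' = 0 ∧ B e x = 0 ∧ B f x = 0 ∧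
      B e' x = 0 ∧ B f' x = 0 := by
    intro x hx
    have h1 : x ∈ Q := hDQ hx
    have h5 := hDe x hx
    have h6 := hQ _ h1 f hf
    exact ⟨hB.zero h5, h6, oo (hQR h1) eS, oo (hQR h1) fS, h5, hB.zero h6, oo' eS (hQR h1), oo' fS (hQR h1)⟩
  have vD' : ∀ x ∈ D', B x e = 0 ∧ B x f = 0 ∧ B x e' = 0 ∧ B x f' = 0 ∧ B e x = 0 ∧ B f x = 0 ∧
      B e' x = 0 ∧ B f' x = 0 := by
    intro x hx
    have h1 : x ∈ Q' := hDQ' hx
    have h5 := hDe' x hx
    have h6 := hQ' _ h1 f' hf'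
    exact ⟨oo' (hQS h1) eR, oo' (hQS h1) fR, hB.zero h5, h6, oo eR (hQS h1), oo fR (hQS h1), h5, hB.zero h6⟩
  refine prB_model hB hN hg (φ := φ) (Q := (D ⊔ D') ⊔ (Submodule.span F {q₁} ⊔ Submodule.span F {q₂}))
    ?_ ?_ ?_ ?_ ?_ hcop hk hF
  · -- injective
    rw [← LinearMap.ker_eq_bot, LinearMap.ker_eq_bot']
    rintro ⟨⟨x, y⟩, ⟨v, w⟩⟩ h0
    rw [hφ] at h0
    simp only at h0
    have k1 := congrArg (fun t => B t f) h0
    have k2 := congrArg (fun t => B t f') h0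
    simp only [hp₁, hp₂, map_add, map_sub, map_smul, LinearMap.add_apply, LinearMap.sub_apply,
      LinearMap.smul_apply, smul_eq_mul, map_zero, LinearMap.zero_apply, hef, hef', t2, t6, t4, t8, tff, tff',
      (uA v).2.1, (uA v).2.2.2.1, (uC w).2.1, (uC w).2.2.2.1] at k1 k2
    have hx : x = 0 := by
      have : (2 : F) * x = 0 := by linear_combination k1 + k2
      exact (mul_eq_zero.1 this).resolve_left h2
    have hy : y = 0 := by
      rw [hx] at k1
      linear_combination k1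
    rw [hx, hy, zero_smul, zero_smul, zero_add, zero_add] at h0
    have hd : Disjoint R S := by
      rw [Submodule.disjoint_def]
      intro t ht ht'
      exact nR t ht (fun u hu => oo' ht' hu)
    have e1 : (eA v : V) = 0 := Submodule.disjoint_def.1 hd _ (hPR (hAP (eA v).2)) (by
      rw [eq_neg_of_add_eq_zero_left h0]; exact S.neg_mem (hPS (hAP' (eC w).2)))
    rw [e1, zero_add] at h0
    have e2 : v = 0 := eA.map_eq_zero_iff.1 (Subtype.ext e1)
    have e3 : w = 0 := eC.map_eq_zero_iff.1 (Subtype.ext h0)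
    rw [hx, hy, e2, e3]; rfl
  · -- isotropic image
    rintro ⟨⟨x, y⟩, ⟨v, w⟩⟩ ⟨⟨x', y'⟩, ⟨v', w'⟩⟩
    rw [hφ, hφ]
    obtain ⟨a1, a2, a3, a4, -, -, -, -⟩ := uA v
    obtain ⟨b1, b2, b3, b4, -, -, -, -⟩ := uC w
    obtain ⟨-, -, -, -, a5, a6, a7, a8⟩ := uA v'
    obtain ⟨-, -, -, -, b5, b6, b7, b8⟩ := uC w'
    simp only [hp₁, hp₂, map_add, map_sub, map_smul, LinearMap.add_apply, LinearMap.sub_apply,
      LinearMap.smul_apply, smul_eq_mul, hef, hef', hfe, hfe', t1, t2, t3, t4, t5, t6, t7, t8, tee, tff, tee', tff',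
      a1, a2, a3, a4, a5, a6, a7, a8, b1, b2, b3, b4, b5, b6, b7, b8, uAA, uCC, uAC, uCA]
    ring
  · -- isotropic `Q`
    refine isotropic_sup hB ?_ ?_ ?_
    · exact isotropic_sup hB (fun x hx y hy => hQ x (hDQ hx) y (hDQ hy))
        (fun x hx y hy => hQ' x (hDQ' hx) y (hDQ' hy)) (fun x hx y hy => oo (hQR (hDQ hx)) (hQS (hDQ' hy)))
    · refine isotropic_sup hB ?_ ?_ ?_
      · intro x hx y hy
        obtain ⟨c, rfl⟩ := Submodule.mem_span_singleton.1 hx
        obtain ⟨d, rfl⟩ := Submodule.mem_span_singleton.1 hy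
        rw [map_smul, map_smul, LinearMap.smul_apply, hB q₁, smul_zero, smul_zero]
      · intro x hx y hy
        obtain ⟨c, rfl⟩ := Submodule.mem_span_singleton.1 hx
        obtain ⟨d, rfl⟩ := Submodule.mem_span_singleton.1 hy
        rw [map_smul, map_smul, LinearMap.smul_apply, hB q₂, smul_zero, smul_zero]
      · intro x hx y hy
        obtain ⟨c, rfl⟩ := Submodule.mem_span_singleton.1 hx
        obtain ⟨d, rfl⟩ := Submodule.mem_span_singleton.1 hy
        simp only [hq₁, hq₂, map_add, map_sub, map_neg, map_smul, LinearMap.add_apply, LinearMap.sub_apply,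
          LinearMap.neg_apply, LinearMap.smul_apply, smul_eq_mul, hef, hef', hfe, hfe', t1, t2, t3, t4, t5, t6,
          t7, t8, tee, tff, tee', tff']
        ring
    · have h5 : ∀ x : V, (B x e = 0 ∧ B x f = 0 ∧ B x e' = 0 ∧ B x f' = 0) →
          ∀ y ∈ Submodule.span F {q₁} ⊔ Submodule.span F {q₂}, B x y = 0 := by
        rintro x ⟨x1, x2, x3, x4⟩ y hy
        obtain ⟨y₁, hy₁, y₂, hy₂, rfl⟩ := Submodule.mem_sup.1 hy
        obtain ⟨c, rfl⟩ := Submodule.mem_span_singleton.1 hy₁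
        obtain ⟨d, rfl⟩ := Submodule.mem_span_singleton.1 hy₂
        simp only [hq₁, hq₂, map_add, map_sub, map_neg, map_smul, smul_eq_mul, x1, x2, x3, x4]
        ring
      intro x hx y hy
      obtain ⟨d, hd, d', hd', rfl⟩ := Submodule.mem_sup.1 hx
      rw [map_add, LinearMap.add_apply,
        h5 d ⟨(vD d hd).1, (vD d hd).2.1, (vD d hd).2.2.1, (vD d hd).2.2.2.1⟩ y hy,
        h5 d' ⟨(vD' d' hd').1, (vD' d' hd').2.1, (vD' d' hd').2.2.1, (vD' d' hd').2.2.2.1⟩ y hy, add_zero]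
  · -- everything
    set T : Submodule F V := LinearMap.range φ ⊔ ((D ⊔ D') ⊔ (Submodule.span F {q₁} ⊔ Submodule.span F {q₂}))
      with hT
    have m1 : p₁ ∈ T := Submodule.mem_sup_left ⟨((1, 0), (0, 0)), by rw [hφ]; simp⟩
    have m2 : p₂ ∈ T := Submodule.mem_sup_left ⟨((0, 1), (0, 0)), by rw [hφ]; simp⟩
    have m3 : q₁ ∈ T := Submodule.mem_sup_right (Submodule.mem_sup_right (Submodule.mem_sup_left
      (Submodule.mem_span_singleton_self _)))
    have m4 : q₂ ∈ T := Submodule.mem_sup_right (Submodule.mem_sup_right (Submodule.mem_sup_right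
      (Submodule.mem_span_singleton_self _)))
    have m5 : A ≤ T := fun v hv => Submodule.mem_sup_left ⟨((0, 0), (eA.symm ⟨v, hv⟩, 0)), by rw [hφ]; simp⟩
    have m6 : A' ≤ T := fun v hv => Submodule.mem_sup_left ⟨((0, 0), (0, eC.symm ⟨v, hv⟩)), by rw [hφ]; simp⟩
    have m7 : D ≤ T := fun v hv => Submodule.mem_sup_right (Submodule.mem_sup_left (Submodule.mem_sup_left hv))
    have m8 : D' ≤ T := fun v hv => Submodule.mem_sup_right (Submodule.mem_sup_left (Submodule.mem_sup_right hv))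
    have z3 : ∀ v : V, (3 : F) • v = 0 := fun v => by rw [h3, zero_smul]
    have n1 : e ∈ T := by
      have : e = p₂ - p₁ - q₂ + (3 : F) • e' := by rw [hp₂, hp₁, hq₂]; module
      rw [this, z3, add_zero]
      exact T.sub_mem (T.sub_mem m2 m1) m4
    have n2 : e' ∈ T := by
      have : e' = p₁ - e := by rw [hp₁]; abel
      rw [this]
      exact T.sub_mem m1 n1
    have n3 : f - f' ∈ T := by
      have : f - f' = p₂ - e + e' := by rw [hp₂]; abel
      rw [this]
      exact T.add_mem (T.sub_mem m2 n1) n2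
    have n4 : f ∈ T := by
      have : f = q₁ - (f - f') + (3 : F) • f := by rw [hq₁]; module
      rw [this, z3, add_zero]
      exact T.sub_mem m3 n3
    have n5 : f' ∈ T := by
      have : f' = f - (f - f') := by abel
      rw [this]
      exact T.sub_mem n4 n3
    have s1 : ∀ {x : V}, x ∈ T → Submodule.span F {x} ≤ T := fun hx => (Submodule.span_singleton_le_iff_mem _ _).2 hx
    rw [eq_top_iff, ← htop, ← hPQ, ← hPQ']
    exact sup_le (sup_le (hPA.trans (sup_le m5 (s1 n1))) (hQD.trans (sup_le m7 (s1 n4))))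
      (sup_le (hPA'.trans (sup_le m6 (s1 n2))) (hQD'.trans (sup_le m8 (s1 n5))))
  · -- the compression
    rintro ⟨⟨x, y⟩, ⟨v, w⟩⟩
    have hge := gR e eR
    have hgf := gR f fR
    have hge' := gS e' eS
    have hgf' := gS f' fS
    have hgv := gR _ (hPR (hAP (eA v).2))
    have hgw := gS _ (hPS (hAP' (eC w).2))
    have hq1 : q₁ ∈ (D ⊔ D') ⊔ (Submodule.span F {q₁} ⊔ Submodule.span F {q₂}) :=
      Submodule.mem_sup_right (Submodule.mem_sup_left (Submodule.mem_span_singleton_self _))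
    have hq2 : q₂ ∈ (D ⊔ D') ⊔ (Submodule.span F {q₁} ⊔ Submodule.span F {q₂}) :=
      Submodule.mem_sup_right (Submodule.mem_sup_right (Submodule.mem_span_singleton_self _))
    have key : g (φ ((x, y), (v, w))) - φ ((jj F).prodMap (std F a b) ((x, y), (v, w))) =
        x • q₂ - y • q₁ + (3 : F) • (x • (e - e')) := by
      rw [hφ, hφ]
      change g (x • p₁ + y • p₂ + ((eA v : V) + (eC w : V))) -
        (y • p₁ + (-x) • p₂ + ((eA v : V) + (eC (-w) : V))) = _
      simp only [hp₁, hp₂, hq₁, hq₂, map_add, map_sub, map_smul, hge, hgf, hge', hgf', hgv, hgw, map_neg,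
        Submodule.coe_neg]
      module
    rw [key, h3, zero_smul, add_zero]
    exact Submodule.sub_mem _ (Submodule.smul_mem _ _ hq2) (Submodule.smul_mem _ _ hq1)

end Cfsg.Agent.H649.PwSp
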