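import Mathlib
import Cfsg.Agent.H649.PwSp.Mixed
import Cfsg.Agent.H649.PwSp.Blk3

/-!
# Symplectic groups in characteristic three: `All 6` of `PSp_2n(3^k)`, `n ≥ 3`, `n ≠ 4`
-/

set_option autoImplicit false
open Polynomial

noncomputable section

namespace Cfsg.Agent.H649.PwSp

open Cfsg.Agent.H144

theorem ng_ng {F V : Type*} [Field F] [AddCommGroup V] [Module F V] (g : V ≃ₗ[F] V) : ng (ng g) = g := by
  ext v
  rw [ng_apply, ng_apply, neg_neg]

theorem inv_ng {F V : Type*} [Field F] [AddCommGroup V] [Module F V] {g : V ≃ₗ[F] V} {P : Submodule F V}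
    (h : Inv g P) : Inv (ng g) P := fun v hv => by
  rw [ng_apply]; exact P.neg_mem (h v hv)

variable {F V : Type*} [Field F] [Finite F] [CharP F 3] [AddCommGroup V] [Module F V] [FiniteDimensional F V]

theorem cop_map (F : Type*) [Field F] [CharP F 3] : IsCoprime (F1.map (ι3 F)) (F2.map (ι3 F)) :=
  cop12.map (mapRingHom (ι3 F))

omit [Finite F] in
theorem rank_of_c1 {B : LinearMap.BilinForm F V} (hB : Alt B) {g : V ≃ₗ[F] V} {R : Submodule F V}
    (hR : Nd B R) (hI : Inv g R) (h : C1On B g R) : ∃ a, Module.finrank F R = 2 * a := by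
  obtain ⟨W, W', h3, h4, h5, h6⟩ := c1_of_c1On hI h
  exact ⟨_, finrank_two (restrict_alt hB R) (restrict_nond hR) h3 h4 h5⟩

theorem three_core {B : LinearMap.BilinForm F V} (hB : Alt B) (hN : Nond B) {n : ℕ} (hn3 : 3 ≤ n) (hn4 : n ≠ 4)
    {g : V ≃ₗ[F] V} (hg : Iso B g) {R S : Submodule F V} (o : Orth B R S) (iR : Inv g R) (iS : Inv g S)
    (nR : Nd B R) (nS : Nd B S) (htop : R ⊔ S = ⊤) (cR : C1On B g R) (cS : C1On B (ng g) S) {a b : ℕ}
    (ha : Module.finrank F R = 2 * a) (hb : Module.finrank F S = 2 * b) (hab : a + b = n) (hba : b ≤ a) :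
    PrB B 6 g ∨ PrB B 6 (ng g) := by
  have h3 : (3 : F) = 0 := by exact_mod_cast CharP.cast_eq_zero F 3
  have h2 : (2 : F) ≠ 0 := by
    intro h0
    have : (1 : F) = 0 := by linear_combination h3 - h0
    exact one_ne_zero this
  have hd : Disjoint R S := by
    rw [Submodule.disjoint_def]
    intro t ht ht'
    exact nR t ht (fun u hu => hB.zero (o u hu t ht'))
  have iS' := inv_ng iS
  have dS : DatOn B g S 0 b := by
    have := (dat_c1 hB nS iS' hb cS).neg
    rwa [ng_ng] at this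
  have dR : DatOn B g R a 0 := dat_c1 hB nR iR ha cR
  -- from data to the conclusion
  have fin1 : ∀ t a' : ℕ, t ≤ a' → a' + 2 * t = n → DatOn B g ⊤ a' (2 * t) → PrB B 6 g := by
    intro t a' hta hn hdat
    exact prB_dat hB hN hg hdat (cop_map F) kk_cop (fd_all F t a' hta (by omega) (by omega))
  rcases Nat.even_or_odd' b with ⟨t, hbt | hbt⟩
  · left
    have h1 := DatOn.sup hB o hd dR dS
    rw [htop, add_zero, zero_add, hbt] at h1
    exact fin1 t a (by omega) (by omega) h1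
  by_cases hcR : ∃ v ∈ R, g v ≠ v
  · left
    have h1 := DatOn.sup hB o hd (dat_refl hB h2 hg nR iR ha cR hcR) dS
    rw [htop, add_zero] at h1
    exact fin1 (t + 1) (a - 1) (by omega) (by omega) (by
      have : 1 + b = 2 * (t + 1) := by omega
      rwa [this] at h1)
  by_cases hcS : ∃ v ∈ S, ng g v ≠ v
  · left
    have h0 := (dat_refl hB h2 (ng_iso hg) nS iS' hb cS hcS).neg
    rw [ng_ng] at h0
    have h1 := DatOn.sup hB o hd dR h0
    rw [htop, zero_add] at h1
    exact fin1 t (a + 1) (by omega) (by omega) (by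
      have : b - 1 = 2 * t := by omega
      rwa [this] at h1)
  push Not at hcR hcS
  have gS : ∀ v ∈ S, g v = -v := by
    intro v hv
    have := hcS v hv
    rw [ng_apply] at this
    rw [← this, neg_neg, this]
  have mixed : ∀ a' b' : ℕ, a = a' + 1 → b = b' + 1 →
      Fac (F1.map (ι3 F)) (F2.map (ι3 F)) kk ((jj F).prodMap (std F a' b')) → PrB B 6 g := by
    intro a' b' ha' hb' hF
    exact prB_mixed hB hN h3 hg o nR nS iR iS' htop hcR gS cR cS (by rw [ha, ha']) (by rw [hb, hb'])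
      (cop_map F) kk_cop hF
  -- the opposite sign
  have opp : ∀ s : ℕ, a = 2 * s → s ≤ b → PrB B 6 (ng g) := by
    intro s hs hsb
    have h1 := (DatOn.sup hB o hd dR dS).neg
    rw [htop, add_zero, zero_add, hs] at h1
    exact prB_dat hB hN (ng_iso hg) h1 (cop_map F) kk_cop (fd_all F s b hsb (by omega) (by omega))
  rcases (show (a = 2 ∧ b = 1) ∨ (a = 4 ∧ b = 1) ∨ (a = 6 ∧ b = 1) ∨ (a = 4 ∧ b = 3) ∨ (6 ≤ n ∧ n ≠ 7) by omega)
    with ⟨h5, h6⟩ | ⟨h5, h6⟩ | ⟨h5, h6⟩ | ⟨h5, h6⟩ | ⟨h5, h6⟩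
  · exact Or.inr (opp 1 (by omega) (by omega))
  · exact Or.inl (mixed 3 0 (by omega) (by omega) (fjs3 F))
  · exact Or.inl (mixed 5 0 (by omega) (by omega) (fjs5 F))
  · exact Or.inr (opp 2 (by omega) (by omega))
  · left
    refine mixed (a - 2 + 1) (2 * t) (by omega) (by omega) (fj_all F t (a - 2) (by omega) (by omega) (by omega))

/-- **Characteristic three.** -/
theorem prB_three {B : LinearMap.BilinForm F V} (hB : Alt B) (hN : Nond B) {n : ℕ}
    (hV : Module.finrank F V = 2 * n) (hn3 : 3 ≤ n) (hn4 : n ≠ 4) {g : V ≃ₗ[F] V} (hg : Iso B g) :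
    PrB B 6 g ∨ PrB B 6 (ng g) := by
  obtain ⟨R, S, o, iR, iS, nR, nS, htop, cR, cS⟩ :=
    exists_dec2 hB hg (Module.finrank F (⊤ : Submodule F V)) ⊤ (fun v _ => trivial)
      (fun v _ h => hN v (fun w => h w trivial)) rfl
  obtain ⟨a, ha⟩ := rank_of_c1 hB nR iR cR
  obtain ⟨b, hb⟩ := rank_of_c1 hB nS (inv_ng iS) cS
  have hd : R ⊓ S = ⊥ := by
    rw [Submodule.eq_bot_iff]
    rintro t ⟨ht, ht'⟩
    exact nR t ht (fun u hu => hB.zero (o u hu t ht'))
  have hab : a + b = n := by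
    have h1 := Submodule.finrank_sup_add_finrank_inf_eq R S
    rw [htop, hd, finrank_top, finrank_bot, hV, ha, hb] at h1
    omega
  rcases le_total b a with hba | hba
  · exact three_core hB hN hn3 hn4 hg o iR iS nR nS htop cR cS ha hb hab hba
  · have h1 := three_core hB hN hn3 hn4 (ng_iso hg) (o.symm hB) (inv_ng iS) (inv_ng iR) nS nR
      (by rw [sup_comm]; exact htop) cS (by rw [ng_ng]; exact cR) hb ha (by omega) hba
    rw [ng_ng] at h1
    exact h1.symm

/-- `-g` -/
def mneg {F : Type*} [Field F] {m : ℕ} (g : Matrix.symplecticGroup (Fin m) F) :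
    Matrix.symplecticGroup (Fin m) F := ⟨-g.1, SymplecticGroup.neg_mem g.2⟩

theorem pr_mk {F : Type*} [Field F] {m N : ℕ} {g : Matrix.symplecticGroup (Fin m) F}
    (h : PrB (Cfsg.Agent.S2445.form F m) N (ng (Cfsg.Agent.S2445.act g))) : H78.Pw.Pr N (mneg g) := by
  apply pr_of_prB
  have : Cfsg.Agent.S2445.act (mneg g) = ng (Cfsg.Agent.S2445.act g) := by
    apply LinearEquiv.ext
    intro v
    rw [Cfsg.Agent.S2445.act_apply, ng_apply, Cfsg.Agent.S2445.act_apply]
    exact Matrix.neg_mulVec _ _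
  rw [this]
  exact h

theorem neg_mk {F : Type*} [Field F] (m : ℕ) (g : Matrix.symplecticGroup (Fin m) F) :
    (QuotientGroup.mk' (Subgroup.center (Matrix.symplecticGroup (Fin m) F))) (mneg g) =
      (QuotientGroup.mk' (Subgroup.center (Matrix.symplecticGroup (Fin m) F))) g := by
  rw [QuotientGroup.mk'_apply, QuotientGroup.mk'_apply, QuotientGroup.eq, Subgroup.mem_center_iff]
  intro h
  have e1 : (mneg g)⁻¹ * g = mneg 1 := by
    rw [inv_mul_eq_iff_eq_mul]
    apply Subtype.ext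
    change g.1 = (-g.1) * (-1)
    rw [neg_mul_neg, mul_one]
  rw [e1]
  apply Subtype.ext
  change h.1 * (-1) = (-1) * h.1
  rw [mul_neg_one, neg_one_mul]

/-- **`PSp_2m(3^k)`: products of two elements of order prime to `6`**, `m ≥ 3`, `m ≠ 4` -/
theorem six_psp_three {F : Type*} [Field F] [Fintype F] [CharP F 3] (m : ℕ) (h3 : 3 ≤ m) (h4 : m ≠ 4) :
    H78.Pw.All 6 (PSp m F) := by
  intro x
  obtain ⟨g, rfl⟩ := QuotientGroup.mk'_surjective _ x
  have hV : Module.finrank F (Fin m ⊕ Fin m → F) = 2 * m := by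
    rw [Module.finrank_fintype_fun_eq_card, Fintype.card_sum, Fintype.card_fin]
    ring
  rcases prB_three Cfsg.Agent.S2445.form_alt Cfsg.Agent.S2445.form_nond hV h3 h4
    (Cfsg.Agent.S2445.act_iso g) with h | h
  · exact (pr_of_prB h).map _
  · have := (pr_mk h).map (QuotientGroup.mk' (Subgroup.center (Matrix.symplecticGroup (Fin m) F)))
    rwa [neg_mk] at this

end Cfsg.Agent.H649.PwSp
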