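import Mathlib
import Cfsg.Agent.H649.PwSp.Three
import Cfsg.Agent.H649.PwSp.Two

/-!
# Symplectic spaces of dimension eight, characteristic three: tools

* `exists_iso_vec` : isotropic vectors of a quadratic form on a space of dimension at least three.
* `corner_pq` : the corner `GL_(r-1) × Sp_2`.
* `c1_four` : `C1` isometries in dimension eight.
-/

set_option autoImplicit false
open Polynomial

noncomputable section

namespace Cfsg.Agent.H649.PwSp

open Cfsg.Agent.H144

section

variable {F V : Type*} [Field F] [Finite F] [AddCommGroup V] [Module F V] [FiniteDimensional F V]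

theorem exists_iso_vec {B : LinearMap.BilinForm F V} (hB : Alt B) (hodd : Nat.card F % 2 = 1)
    {n : Module.End F V} (hn : ∀ x y, B (n x) y + B x (n y) = 0) {T : Submodule F V}
    (hT : 3 ≤ Module.finrank F T) : ∃ v ∈ T, v ≠ 0 ∧ B v (n v) = 0 := by
  have : Fintype F := Fintype.ofFinite F
  rw [Nat.card_eq_fintype_card] at hodd
  have hsym : ∀ x y, B x (n y) = B y (n x) := by
    intro x y
    have h1 := hn x y
    have h2 : B (n x) y = - B y (n x) := hB.neg _ _
    rw [h2] at h1
    linear_combination h1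
  have hT0 : T ≠ ⊥ := by
    rintro rfl
    rw [finrank_bot] at hT
    omega
  obtain ⟨v, hv, hv0⟩ := Submodule.exists_mem_ne_zero_of_ne_bot hT0
  by_cases h1 : B v (n v) = 0
  · exact ⟨v, hv, hv0, h1⟩
  -- second vector
  let φ : T →ₗ[F] F := (B.flip (n v)) ∘ₗ T.subtype
  have hφ : LinearMap.ker φ ≠ ⊥ := LinearMap.ker_ne_bot_of_finrank_lt (by rw [Module.finrank_self]; omega)
  obtain ⟨⟨w, hw⟩, hw1, hw0⟩ := Submodule.exists_mem_ne_zero_of_ne_bot hφ
  have hw0' : w ≠ 0 := fun h0 => hw0 (Subtype.ext h0)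
  have hwv : B w (n v) = 0 := hw1
  by_cases h2 : B w (n w) = 0
  · exact ⟨w, hw, hw0', h2⟩
  let ψ : T →ₗ[F] F × F := φ.prod ((B.flip (n w)) ∘ₗ T.subtype)
  have hψ : LinearMap.ker ψ ≠ ⊥ := LinearMap.ker_ne_bot_of_finrank_lt (by
    rw [Module.finrank_prod, Module.finrank_self]; omega)
  obtain ⟨⟨u, hu⟩, hu1, hu0⟩ := Submodule.exists_mem_ne_zero_of_ne_bot hψ
  have hu0' : u ≠ 0 := fun h0 => hu0 (Subtype.ext h0)
  have huv : B u (n v) = 0 := congrArg Prod.fst (LinearMap.mem_ker.1 hu1)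
  have huw : B u (n w) = 0 := congrArg Prod.snd (LinearMap.mem_ker.1 hu1)
  by_cases h3 : B u (n u) = 0
  · exact ⟨u, hu, hu0', h3⟩
  obtain ⟨α, β, hαβ⟩ := FiniteField.exists_root_sum_quadratic (R := F)
    (f := C (B v (n v)) * X ^ 2 + C 0 * X + C (B u (n u))) (g := C (B w (n w)) * X ^ 2 + C 0 * X + C 0)
    (Polynomial.degree_quadratic h1) (Polynomial.degree_quadratic h2) hodd
  simp only [eval_add, eval_mul, eval_C, eval_pow, eval_X, zero_mul, add_zero] at hαβ
  refine ⟨α • v + β • w + u, T.add_mem (T.add_mem (T.smul_mem _ hv) (T.smul_mem _ hw)) hu, fun h0 => ?_, ?_⟩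
  · apply h3
    have : n u = -(α • n v) - β • n w := by
      have h4 := congrArg n h0
      rw [map_add, map_add, map_smul, map_smul, map_zero] at h4
      rw [eq_neg_of_add_eq_zero_right h4]
      abel
    rw [this, map_sub, map_neg, map_smul, map_smul, huv, huw]
    simp
  · have e1 := hsym v w
    have e2 := hsym v u
    have e3 := hsym w u
    rw [hwv] at e1
    rw [huv] at e2
    rw [huw] at e3
    simp only [map_add, map_smul, LinearMap.add_apply, LinearMap.smul_apply, smul_eq_mul, hwv, huv, huw, e1, e2, e3]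
    linear_combination hαβ

/-- the corner `GL_(r-1) × Sp_2` -/
theorem corner_pq {B : LinearMap.BilinForm F V} (hB : Alt B) (hN : Nond B) {r : ℕ} {P Q : Submodule F V}
    (hP : Orth B P P) (hQ : Orth B Q Q) (hPQ : P ⊔ Q = ⊤) (hfP : Module.finrank F P = r)
    {n m : Module.End F V} (hn : n ∈ Skew B Q) (hm : m ∈ Skew B P) {p q : V} (hp : p ∈ P) (hq : q ∈ Q)
    (hpq : B p q = 1) (hpn : B p (n p) = 0) (hqm : B q (m q) = 0) {N : ℕ} {k : ℕ} (hk : k.Coprime N)
    (hx : ∀ P₁ : Submodule F V, Module.finrank F P₁ = r - 1 → ∃ (x : P₁ ≃ₗ[F] P₁) (f : F[X]),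
      (∀ v, aeval (x : Module.End F P₁) f v = 0) ∧
      (∀ v, aeval ((x⁻¹ : P₁ ≃ₗ[F] P₁) : Module.End F P₁) f v = 0 → v = 0) ∧ (∀ v, x v = v → v = 0) ∧
      x ^ k = 1) : PrB B N (uni n (skew_sq hn) * uni m (skew_sq hm)) := by
  let P₁ : Submodule F V := P ⊓ LinearMap.ker (B.flip q)
  let Q₁ : Submodule F V := Q ⊓ LinearMap.ker (B p)
  have hP₁ : ∀ {v}, v ∈ P₁ ↔ v ∈ P ∧ B v q = 0 := fun {v} => Iff.rfl
  have hQ₁ : ∀ {v}, v ∈ Q₁ ↔ v ∈ Q ∧ B p v = 0 := fun {v} => Iff.rfl
  have hoP : Orth B P₁ P₁ := fun a ha b hb => hP a ha.1 b hb.1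
  have hoQ : Orth B Q₁ Q₁ := fun a ha b hb => hQ a ha.1 b hb.1
  have hNd : Nd B (P₁ ⊔ Q₁) := by
    intro v hv h0
    obtain ⟨a, ha, b, hb, rfl⟩ := Submodule.mem_sup.1 hv
    have ha' := hP₁.1 ha
    have hb' := hQ₁.1 hb
    have ha0 : a = 0 := by
      apply eq_zero_of_orth hN hPQ (hP a ha'.1)
      intro w hw
      have hw1 : w - B p w • q ∈ Q₁ := hQ₁.2 ⟨Q.sub_mem hw (Q.smul_mem _ hq), by
        rw [map_sub, map_smul, hpq, smul_eq_mul, mul_one, sub_self]⟩
      have h1 := h0 _ (Submodule.mem_sup_right hw1)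
      rw [map_add, LinearMap.add_apply, hQ b hb'.1 _ (hQ₁.1 hw1).1, add_zero, map_sub, map_smul, ha'.2,
        smul_zero, sub_zero] at h1
      exact h1
    have hb0 : b = 0 := by
      rw [ha0, zero_add] at h0
      apply eq_zero_of_orth hN hPQ _ (hQ b hb'.1)
      intro w hw
      have hw1 : w - B w q • p ∈ P₁ := hP₁.2 ⟨P.sub_mem hw (P.smul_mem _ hp), by
        rw [map_sub, map_smul, LinearMap.sub_apply, LinearMap.smul_apply, hpq, smul_eq_mul, mul_one, sub_self]⟩
      have h1 := h0 _ (Submodule.mem_sup_left hw1)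
      rw [map_sub, map_smul, hB.zero hb'.2, smul_zero, sub_zero] at h1
      exact h1
    rw [ha0, hb0, add_zero]
  have hfP₁ : Module.finrank F P₁ = r - 1 := by
    let θ : P →ₗ[F] F := (B.flip q) ∘ₗ P.subtype
    have h1 := LinearMap.finrank_range_add_finrank_ker θ
    have h3 : LinearMap.range θ = ⊤ := by
      rw [LinearMap.range_eq_top]
      intro c
      refine ⟨c • ⟨p, hp⟩, ?_⟩
      change B (c • p) q = c
      rw [map_smul, LinearMap.smul_apply, hpq, smul_eq_mul, mul_one]
    rw [h3, finrank_top, Module.finrank_self, hfP] at h1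
    have h4 : Module.finrank F (LinearMap.ker θ) = Module.finrank F P₁ := by
      have h5 : (LinearMap.ker θ).map P.subtype = P₁ := by
        ext v
        constructor
        · rintro ⟨w, hw, rfl⟩
          exact ⟨w.2, hw⟩
        · rintro ⟨hv, hv'⟩
          exact ⟨⟨v, hv⟩, hv', rfl⟩
      rw [← h5]
      exact (Submodule.equivMapOfInjective P.subtype P.injective_subtype _).finrank_eq
    omega
  obtain ⟨x, f, hf, hfi, hfix, hxk⟩ := hx P₁ hfP₁
  refine prB_corner hB hN hoP hoQ hNd f hf hfi (Or.inr hfix) hk hxk ?_ ?_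
  · refine ⟨skew_iso hQ hn, fun v hv => ?_, fun v hv => ?_⟩
    · rw [uni_apply, hn.2.1 v hv.1, add_zero]
    · rw [uni_apply, add_sub_cancel_left]
      refine hQ₁.2 ⟨hn.1 v, ?_⟩
      have h1 : n p ∈ Q₁ := hQ₁.2 ⟨hn.1 p, hpn⟩
      have h3 := hn.2.2 p v
      rw [hv _ h1, zero_add] at h3
      exact h3
  · refine ⟨skew_iso hP hm, fun v hv => ?_, fun v hv => ?_⟩
    · rw [uni_apply, hm.2.1 v hv.1, add_zero]
    · rw [uni_apply, add_sub_cancel_left]
      refine hP₁.2 ⟨hm.1 v, ?_⟩
      have h1 : m q ∈ P₁ := hP₁.2 ⟨hm.1 q, hB.zero hqm⟩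
      have h3 := hm.2.2 v q
      rw [hB.zero (hv _ h1), add_zero] at h3
      exact h3

/-- if `U` contains all isotropic vectors of `n` in `P` and `U ≠ P` then `n` kills the isotropic vectors -/
theorem rad_of_iso {B : LinearMap.BilinForm F V} (hB : Alt B) (hN : Nond B) (h2 : (2 : F) ≠ 0)
    {P Q : Submodule F V} (hQ : Orth B Q Q) (hPQ : P ⊔ Q = ⊤) {n : Module.End F V} (hn : n ∈ Skew B Q)
    {U : Submodule F V} (hUP : ¬ P ≤ U) (hU : ∀ v ∈ P, B v (n v) = 0 → v ∈ U) {u : V} (hu : u ∈ P)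
    (hu0 : B u (n u) = 0) : n u = 0 := by
  have hsym : ∀ x y, B x (n y) = B y (n x) := by
    intro x y
    have h1 := hn.2.2 x y
    have h2 : B (n x) y = - B y (n x) := hB.neg _ _
    rw [h2] at h1
    linear_combination h1
  have huU := hU u hu hu0
  -- outside `U`
  have key : ∀ v ∈ P, v ∉ U → B v (n u) = 0 := by
    intro v hv hvU
    by_contra h0
    apply hvU
    set t : F := -(B v (n v)) * (2 * B v (n u))⁻¹ with ht
    have h3 : v + t • u ∈ U := by
      apply hU _ (P.add_mem hv (P.smul_mem _ hu))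
      have e1 := hsym u v
      simp only [map_add, map_smul, LinearMap.add_apply, LinearMap.smul_apply, smul_eq_mul, hu0, e1]
      have h4 : (2 * B v (n u)) ≠ 0 := mul_ne_zero h2 h0
      have h5 : t * (2 * B v (n u)) = - B v (n v) := by
        rw [ht, mul_assoc, inv_mul_cancel₀ h4, mul_one]
      linear_combination h5
    have h4 := U.sub_mem h3 (U.smul_mem t huU)
    rwa [add_sub_cancel_right] at h4
  obtain ⟨v₀, hv₀, hv₀U⟩ := Set.not_subset.1 hUP
  apply eq_zero_of_orth hN hPQ _ (hQ _ (hn.1 u))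
  intro w hw
  apply hB.zero
  by_cases hwU : w ∈ U
  · have h3 := key (v₀ + w) (P.add_mem hv₀ hw) (fun h0 => hv₀U (by
      have := U.sub_mem h0 hwU
      rwa [add_sub_cancel_right] at this))
    rw [map_add, LinearMap.add_apply, key v₀ hv₀ hv₀U, zero_add] at h3
    exact h3
  · exact key w hw hwU

/-- **`C1` isometries in dimension eight** -/
theorem c1_four {B : LinearMap.BilinForm F V} (hB : Alt B) (hN : Nond B) (hodd : Nat.card F % 2 = 1)
    (h2 : (2 : F) ≠ 0) (hV : Module.finrank F V = 8) {g : V ≃ₗ[F] V} (hg : Iso B g) (h : C1 B g)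
    {N k : ℕ} (hk : k.Coprime N)
    (hx : ∀ P₁ : Submodule F V, Module.finrank F P₁ = 3 → ∃ (x : P₁ ≃ₗ[F] P₁) (f : F[X]),
      (∀ v, aeval (x : Module.End F P₁) f v = 0) ∧
      (∀ v, aeval ((x⁻¹ : P₁ ≃ₗ[F] P₁) : Module.End F P₁) f v = 0 → v = 0) ∧ (∀ v, x v = v → v = 0) ∧
      x ^ k = 1) : PrB B N g := by
  obtain ⟨P, Q, hP, hQ, hPQ, hPg⟩ := h
  have hfV := finrank_two hB hN hP hQ hPQ
  have hfPQ := finrank_eq hB hN hP hQ hPQ
  have hfP : Module.finrank F P = 4 := by omega
  have hfQ : Module.finrank F Q = 4 := by omega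
  have hQP : Q ⊔ P = ⊤ := by rw [sup_comm]; exact hPQ
  obtain ⟨n, m, hn, hm, e⟩ := c1_factor hB hN hP hQ hPQ hg hPg
  by_cases hgood : ∃ p ∈ P, ∃ q ∈ Q, B p (n p) = 0 ∧ B q (m q) = 0 ∧ B p q ≠ 0
  · obtain ⟨p, hp, q, hq, hpn, hqm, hpq⟩ := hgood
    rw [e]
    refine corner_pq hB hN hP hQ hPQ hfP hn hm hp (Q.smul_mem (B p q)⁻¹ hq) ?_ hpn ?_ hk hx
    · rw [map_smul, smul_eq_mul, inv_mul_cancel₀ hpq]
    · rw [map_smul m, map_smul B, LinearMap.smul_apply, map_smul, hqm, smul_zero, smul_zero]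
  push Not at hgood
  let U : Submodule F V := Submodule.span F {v | v ∈ P ∧ B v (n v) = 0}
  let W : Submodule F V := Submodule.span F {v | v ∈ Q ∧ B v (m v) = 0}
  have hUP : U ≤ P := Submodule.span_le.2 fun v hv => hv.1
  have hWQ : W ≤ Q := Submodule.span_le.2 fun v hv => hv.1
  have hUW : Orth B U W := by
    intro x hx y hy
    induction hx using Submodule.span_induction with
    | mem x hx =>
      induction hy using Submodule.span_induction with
      | mem y hy => exact hgood x hx.1 y hy.1 hx.2 hy.2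
      | zero => exact map_zero _
      | add y z _ _ h3 h4 => rw [map_add, h3, h4, add_zero]
      | smul c y _ h3 => rw [map_smul, h3, smul_zero]
    | zero => rw [map_zero, LinearMap.zero_apply]
    | add y z _ _ h3 h4 => rw [map_add, LinearMap.add_apply, h3, h4, add_zero]
    | smul c y _ h3 => rw [map_smul, LinearMap.smul_apply, h3, smul_zero]
  -- dimension at least two
  have hdim : ∀ (P : Submodule F V) (n : Module.End F V), (∀ x y, B (n x) y + B x (n y) = 0) →
      Module.finrank F P = 4 → 2 ≤ Module.finrank F (Submodule.span F {v | v ∈ P ∧ B v (n v) = 0}) := by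
    intro P n hn hfP
    set U : Submodule F V := Submodule.span F {v | v ∈ P ∧ B v (n v) = 0} with hU
    have hUP : U ≤ P := Submodule.span_le.2 fun v hv => hv.1
    by_contra hlt
    obtain ⟨T', hT'⟩ := Submodule.exists_isCompl (U.comap P.subtype)
    have h3 := Submodule.finrank_add_eq_of_isCompl hT'
    have h4 : Module.finrank F (U.comap P.subtype) = Module.finrank F U :=
      (Submodule.comapSubtypeEquivOfLe hUP).finrank_eq
    have h5 : Module.finrank F (T'.map P.subtype) = Module.finrank F T' :=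
      (Submodule.equivMapOfInjective P.subtype P.injective_subtype T').finrank_eq.symm
    obtain ⟨v, hv, hv0, hv1⟩ := exists_iso_vec hB hodd hn (T := T'.map P.subtype) (by omega)
    obtain ⟨w, hw, rfl⟩ := hv
    have h6 : w ∈ U.comap P.subtype := Submodule.subset_span ⟨w.2, hv1⟩
    have h7 := Submodule.disjoint_def.1 hT'.disjoint w h6 hw
    exact hv0 (by rw [h7]; rfl)
  have hfU : 2 ≤ Module.finrank F U := hdim P n hn.2.2 hfP
  have hfW : 2 ≤ Module.finrank F W := hdim Q m hm.2.2 hfQ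
  -- `P` is not contained in `U`
  have hne : ∀ {P Q U W : Submodule F V}, Orth B Q Q → P ⊔ Q = ⊤ → W ≤ Q → Orth B U W →
      2 ≤ Module.finrank F W → ¬ P ≤ U := by
    intro P Q U W hQ hPQ hWQ hUW hfW hle
    have : W = ⊥ := by
      rw [Submodule.eq_bot_iff]
      intro w hw
      exact eq_zero_of_orth hN hPQ (fun x hx => hB.zero (hUW x (hle hx) w hw)) (fun x hx => hQ w (hWQ hw) x hx)
    rw [this, finrank_bot] at hfW
    omega
  have hnU : ∀ v ∈ P, B v (n v) = 0 → n v = 0 := fun v hv hv0 =>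
    rad_of_iso hB hN h2 hQ hPQ hn (hne hQ hPQ hWQ hUW hfW)
      (fun v hv hv0 => Submodule.subset_span ⟨hv, hv0⟩) hv hv0
  have hmW : ∀ v ∈ Q, B v (m v) = 0 → m v = 0 := fun v hv hv0 =>
    rad_of_iso hB hN h2 hP hQP hm (hne hP hQP hUP (hUW.symm hB) hfU)
      (fun v hv hv0 => Submodule.subset_span ⟨hv, hv0⟩) hv hv0
  have hgfix : ∀ v ∈ U ⊔ W, g v = v := by
    have h3 : ∀ v ∈ U, n v = 0 := by
      intro v hv
      induction hv using Submodule.span_induction with
      | mem x hx => exact hnU x hx.1 hx.2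
      | zero => exact map_zero _
      | add y z _ _ h3 h4 => rw [map_add, h3, h4, add_zero]
      | smul c y _ h3 => rw [map_smul, h3, smul_zero]
    have h4 : ∀ v ∈ W, m v = 0 := by
      intro v hv
      induction hv using Submodule.span_induction with
      | mem x hx => exact hmW x hx.1 hx.2
      | zero => exact map_zero _
      | add y z _ _ h3 h4 => rw [map_add, h3, h4, add_zero]
      | smul c y _ h3 => rw [map_smul, h3, smul_zero]
    intro v hv
    obtain ⟨x, hx, y, hy, rfl⟩ := Submodule.mem_sup.1 hv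
    rw [e, LinearEquiv.mul_apply, uni_apply (z := m), map_add m, hm.2.1 x (hUP hx), h4 y hy, add_zero, add_zero,
      uni_apply, map_add n, h3 x hx, hn.2.1 y (hWQ hy), add_zero, add_zero]
  -- complements
  obtain ⟨T', hT'⟩ := Submodule.exists_isCompl (U.comap P.subtype)
  have hfT := Submodule.finrank_add_eq_of_isCompl hT'
  have hfU' : Module.finrank F (U.comap P.subtype) = Module.finrank F U :=
    (Submodule.comapSubtypeEquivOfLe hUP).finrank_eq
  set U' : Submodule F V := T'.map P.subtype with hU'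
  have hfU'' : Module.finrank F U' = Module.finrank F T' :=
    (Submodule.equivMapOfInjective P.subtype P.injective_subtype T').finrank_eq.symm
  have hU'P : U' ≤ P := Submodule.map_subtype_le P T'
  have hPU : P ≤ U ⊔ U' := by
    intro v hv
    obtain ⟨x, hx, y, hy, hxy⟩ := Submodule.mem_sup.1 (show (⟨v, hv⟩ : P) ∈ (U.comap P.subtype) ⊔ T' by
      rw [hT'.sup_eq_top]; trivial)
    have : v = x + y := (congrArg Subtype.val hxy).symm
    rw [this]
    exact Submodule.add_mem_sup hx ⟨y, hy, rfl⟩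
  let W' : Submodule F V := Q ⊓ perp B U'
  have hW'Q : W' ≤ Q := inf_le_left
  have hU'W' : Orth B U' W' := fun x hx y hy => hy.2 x hx
  have hWW' : W ⊓ W' = ⊥ := by
    rw [Submodule.eq_bot_iff]
    rintro w ⟨hw, hw'⟩
    apply eq_zero_of_orth hN hPQ _ (hQ w (hWQ hw))
    intro x hx
    obtain ⟨a, ha, b, hb, rfl⟩ := Submodule.mem_sup.1 (hPU hx)
    rw [map_add, hB.zero (hUW a ha w hw), hB.zero (hw'.2 b hb), add_zero]
  have hfW' : 4 ≤ Module.finrank F W' + Module.finrank F T' := by
    let θ : Q →ₗ[F] Module.Dual F U' := (B.compl₁₂ U'.subtype Q.subtype).flip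
    have h3 := LinearMap.finrank_range_add_finrank_ker θ
    have h4 : Module.finrank F (LinearMap.range θ) ≤ Module.finrank F (Module.Dual F U') :=
      Submodule.finrank_le _
    rw [Subspace.dual_finrank_eq] at h4
    have h5 : Module.finrank F (LinearMap.ker θ) = Module.finrank F W' := by
      have h6 : (LinearMap.ker θ).map Q.subtype = W' := by
        ext v
        constructor
        · rintro ⟨w, hw, rfl⟩
          refine ⟨w.2, fun x hx => ?_⟩
          exact LinearMap.congr_fun (LinearMap.mem_ker.1 hw) ⟨x, hx⟩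
        · rintro ⟨hv, hv'⟩
          refine ⟨⟨v, hv⟩, LinearMap.mem_ker.2 (LinearMap.ext fun x => hv' x x.2), rfl⟩
      rw [← h6]
      exact (Submodule.equivMapOfInjective Q.subtype Q.injective_subtype _).finrank_eq
    omega
  have hQW : Q = W ⊔ W' := by
    symm
    apply Submodule.eq_of_le_of_finrank_le (sup_le hWQ hW'Q)
    have h3 := Submodule.finrank_sup_add_finrank_inf_eq W W'
    rw [hWW', finrank_bot] at h3
    -- `dim U + dim W ≤ 4`
    have h4 : Module.finrank F U + Module.finrank F W ≤ 4 := by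
      let θ : W →ₗ[F] Module.Dual F U' := (B.compl₁₂ U'.subtype W.subtype).flip
      have h5 : Function.Injective θ := by
        rw [← LinearMap.ker_eq_bot, LinearMap.ker_eq_bot']
        rintro ⟨w, hw⟩ h0
        apply Subtype.ext
        apply eq_zero_of_orth hN hPQ _ (hQ w (hWQ hw))
        intro x hx
        obtain ⟨a, ha, b, hb, rfl⟩ := Submodule.mem_sup.1 (hPU hx)
        rw [map_add, hB.zero (hUW a ha w hw), zero_add]
        exact hB.zero (LinearMap.congr_fun h0 ⟨b, hb⟩)
      have h6 := LinearMap.finrank_le_finrank_of_injective h5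
      rw [Subspace.dual_finrank_eq] at h6
      omega
    omega
  -- the new pair
  set P' : Submodule F V := U' ⊔ W' with hP'
  set Q' : Submodule F V := U ⊔ W with hQ'
  have oP' : Orth B P' P' := isotropic_sup hB (fun x hx y hy => hP x (hU'P hx) y (hU'P hy))
    (fun x hx y hy => hQ x (hW'Q hx) y (hW'Q hy)) hU'W'
  have oQ' : Orth B Q' Q' := isotropic_sup hB (fun x hx y hy => hP x (hUP hx) y (hUP hy))
    (fun x hx y hy => hQ x (hWQ hx) y (hWQ hy)) hUW
  have hPQ' : P' ⊔ Q' = ⊤ := by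
    rw [eq_top_iff, ← hPQ]
    refine sup_le (hPU.trans (sup_le ?_ ?_)) ?_
    · exact le_sup_left.trans le_sup_right
    · exact le_sup_left.trans le_sup_left
    · rw [hQW]
      exact sup_le (le_sup_right.trans le_sup_right) (le_sup_right.trans le_sup_left)
  have hfP' : Module.finrank F P' = 4 := by
    have := finrank_two hB hN oP' oQ' hPQ'
    omega
  have hg' : ∀ v ∈ P', g v - v ∈ Q' := by
    intro v _
    apply mem_of_orth hN oQ' oP' (by rw [sup_comm]; exact hPQ')
    intro w hw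
    rw [map_sub, LinearMap.sub_apply, sub_eq_zero]
    nth_rewrite 1 [← hgfix w hw]
    exact hg v w
  obtain ⟨n', m', hn', hm', e'⟩ := c1_factor hB hN oP' oQ' hPQ' hg hg'
  have hm0 : ∀ q ∈ Q', m' q = 0 := by
    intro q hq
    have h3 := hgfix q hq
    rw [e', LinearEquiv.mul_apply, uni_apply (z := m'), uni_apply, map_add n', hn'.2.1 q hq, zero_add] at h3
    have h4 : m' q + n' (m' q) = 0 := by
      have : q + (m' q + n' (m' q)) = q + 0 := by rw [add_zero]; rw [← add_assoc]; exact h3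
      exact add_left_cancel this
    have hc := isCompl_of hN oP' oQ' hPQ'
    exact Submodule.disjoint_def.1 hc.disjoint _ (hm'.1 q) (by
      rw [eq_neg_of_add_eq_zero_left h4]
      exact Q'.neg_mem (hn'.1 _))
  obtain ⟨p, hp, hp0, hpn⟩ := exists_iso_vec hB hodd hn'.2.2 (T := P') (by omega)
  obtain ⟨q, hq, hpq⟩ : ∃ q ∈ Q', B p q ≠ 0 := by
    by_contra hcon
    push Not at hcon
    exact hp0 (eq_zero_of_orth hN hPQ' (oP' p hp) hcon)
  rw [e']
  refine corner_pq hB hN oP' oQ' hPQ' hfP' hn' hm' hp (Q'.smul_mem (B p q)⁻¹ hq) ?_ hpn ?_ hk hx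
  · rw [map_smul, smul_eq_mul, inv_mul_cancel₀ hpq]
  · rw [hm0 _ (Q'.smul_mem _ hq), map_zero]

end

end Cfsg.Agent.H649.PwSp
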