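import Mathlib
import Cfsg.Agent.H649.PwSp.Four

/-!
# Symplectic groups in characteristic three: `All 6` of `PSp_8(3^k)`
-/

set_option autoImplicit false
open Polynomial

noncomputable section

namespace Cfsg.Agent.H649.PwSp

open Cfsg.Agent.H144 Cfsg.Agent.H934.MF

variable {F V : Type*} [Field F] [Finite F] [CharP F 3] [AddCommGroup V] [Module F V] [FiniteDimensional F V]

omit [Finite F] in
theorem fj_one : Fac (F1.map (ι3 F)) (F2.map (ι3 F)) kk ((jj F).prodMap (std F 1 0)) := by
  let e : ((F × F) × ((Fin 1 → F) × (Fin 0 → F))) ≃ₗ[F] ((F × F) × F) :=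
    { toFun := fun v => (v.1, v.2.1 0)
      map_add' := fun v w => rfl
      map_smul' := fun c v => rfl
      invFun := fun v => (v.1, (fun _ => v.2, 0))
      left_inv := fun v => by
        obtain ⟨v, w, u⟩ := v
        refine Prod.ext rfl (Prod.ext ?_ (Subsingleton.elim _ _))
        ext i
        rw [Subsingleton.elim i 0]
      right_inv := fun v => rfl }
  exact (fj F).conj e (fun v => rfl)

/-- **Dimension six, with the sign `+`** -/
theorem t3_plus {B : LinearMap.BilinForm F V} (hB : Alt B) (hN : Nond B)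
    (hV : Module.finrank F V = 6) {g : V ≃ₗ[F] V} (hg : Iso B g) (hne : ∃ v, g v ≠ -v) : PrB B 6 g := by
  have h3 : (3 : F) = 0 := by exact_mod_cast CharP.cast_eq_zero F 3
  have h2 : (2 : F) ≠ 0 := by
    intro h0
    have : (1 : F) = 0 := by linear_combination h3 - h0
    exact one_ne_zero this
  obtain ⟨R, S, o, iR, iS, nR, nS, htop, cR, cS⟩ :=
    exists_dec2 hB hg (Module.finrank F (⊤ : Submodule F V)) ⊤ (fun v _ => trivial)
      (fun v _ h => hN v (fun w => h w trivial)) rfl
  obtain ⟨a, ha⟩ := rank_of_c1 hB nR iR cR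
  obtain ⟨b, hb⟩ := rank_of_c1 hB nS (inv_ng iS) cS
  have hd : Disjoint R S := by
    rw [Submodule.disjoint_def]
    intro t ht ht'
    exact nR t ht (fun u hu => hB.zero (o u hu t ht'))
  have hab : a + b = 3 := by
    have h1 := Submodule.finrank_sup_add_finrank_inf_eq R S
    rw [htop, hd.eq_bot, finrank_top, finrank_bot, hV, ha, hb] at h1
    omega
  have iS' := inv_ng iS
  have dS : DatOn B g S 0 b := by
    have := (dat_c1 hB nS iS' hb cS).neg
    rwa [ng_ng] at this
  have dR : DatOn B g R a 0 := dat_c1 hB nR iR ha cR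
  have fin12 : DatOn B g ⊤ 1 2 → PrB B 6 g := fun h => prB_dat hB hN hg h (cop_map F) kk_cop (fd_D12 F)
  have fin30 : DatOn B g ⊤ 3 0 → PrB B 6 g := fun h => prB_dat hB hN hg h (cop_map F) kk_cop (fd_D30 F)
  rcases (show (a = 3 ∧ b = 0) ∨ (a = 2 ∧ b = 1) ∨ (a = 1 ∧ b = 2) ∨ (a = 0 ∧ b = 3) by omega)
    with ⟨rfl, rfl⟩ | ⟨rfl, rfl⟩ | ⟨rfl, rfl⟩ | ⟨rfl, rfl⟩
  · apply fin30
    have h1 := DatOn.sup hB o hd dR dS
    rwa [htop] at h1
  · by_cases hcR : ∃ v ∈ R, g v ≠ v
    · apply fin12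
      have h1 := DatOn.sup hB o hd (dat_refl hB h2 hg nR iR ha cR hcR) dS
      rwa [htop] at h1
    by_cases hcS : ∃ v ∈ S, ng g v ≠ v
    · apply fin30
      have h0 := (dat_refl hB h2 (ng_iso hg) nS iS' hb cS hcS).neg
      rw [ng_ng] at h0
      have h1 := DatOn.sup hB o hd dR h0
      rwa [htop] at h1
    push Not at hcR hcS
    have gS : ∀ v ∈ S, g v = -v := by
      intro v hv
      have := hcS v hv
      rw [ng_apply] at this
      rw [← this, neg_neg, this]
    exact prB_mixed hB hN h3 hg o nR nS iR iS' htop hcR gS cR cS (a := 1) (b := 0) ha hb (cop_map F) kk_cop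
      fj_one
  · apply fin12
    have h1 := DatOn.sup hB o hd dR dS
    rwa [htop] at h1
  · have hR0 : R = ⊥ := Submodule.finrank_eq_zero.1 ha
    have hS1 : S = ⊤ := by rw [hR0, bot_sup_eq] at htop; exact htop
    have hcS : ∃ v ∈ S, ng g v ≠ v := by
      obtain ⟨v, hv⟩ := hne
      refine ⟨v, by rw [hS1]; trivial, fun h0 => hv ?_⟩
      rw [ng_apply] at h0
      rw [← h0, neg_neg, h0]
    apply fin12
    have h0 := (dat_refl hB h2 (ng_iso hg) nS iS' hb cS hcS).neg
    rw [ng_ng] at h0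
    rwa [hS1] at h0

/-- glue with the identity of a plane -/
theorem prB_id_plane {B : LinearMap.BilinForm F V} (hB : Alt B) (hN : Nond B)
    (hV : Module.finrank F V = 8) {g : V ≃ₗ[F] V} (hg : Iso B g) {H : Submodule F V} (nH : Nd B H) (iH : Inv g H)
    (hf : Module.finrank F H = 2) (hgH : ∀ v ∈ H, g v = v) (hne : ∃ v ∈ perp B H, g v ≠ -v) : PrB B 6 g := by
  refine PrB.glue hB hN nH iH (inv_perp hg iH) ?_ ?_
  · refine ⟨1, 1, 1, Iso.one _, Iso.one _, ?_, by norm_num, one_pow _, one_pow _⟩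
    apply LinearEquiv.ext
    intro v
    exact Subtype.ext (hgH v v.2)
  · refine t3_plus (restrict_alt hB _) (restrict_nond (nd_perp hB hN nH)) ?_ (gr_iso hg _ _) ?_
    · have := Submodule.finrank_add_eq_of_isCompl (isCompl_perp hB nH)
      omega
    · obtain ⟨v, hv, hv0⟩ := hne
      exact ⟨⟨v, hv⟩, fun h0 => hv0 (congrArg Subtype.val h0)⟩

theorem prB_id_plane' {B : LinearMap.BilinForm F V} (hB : Alt B) (hN : Nond B)
    (hV : Module.finrank F V = 8) {g : V ≃ₗ[F] V} (hg : Iso B g) {H : Submodule F V} (nH : Nd B H) (iH : Inv g H)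
    (hf : Module.finrank F H = 2) (hgH : ∀ v ∈ H, g v = v) : PrB B 6 g ∨ PrB B 6 (ng g) := by
  by_cases hne : ∃ v ∈ perp B H, g v ≠ -v
  · exact Or.inl (prB_id_plane hB hN hV hg nH iH hf hgH hne)
  push Not at hne
  right
  have h3 : (3 : F) = 0 := by exact_mod_cast CharP.cast_eq_zero F 3
  have h2 : (2 : F) ≠ 0 := by
    intro h0
    have : (1 : F) = 0 := by linear_combination h3 - h0
    exact one_ne_zero this
  have hfp : Module.finrank F (perp B H) = 6 := by
    have := Submodule.finrank_add_eq_of_isCompl (isCompl_perp hB nH)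
    omega
  have nP := nd_perp hB hN nH
  -- a hyperbolic plane of `perp H`
  obtain ⟨v, hv, hv0⟩ := Submodule.exists_mem_ne_zero_of_ne_bot (p := perp B H) (by
    intro h0; rw [h0, finrank_bot] at hfp; omega)
  obtain ⟨w, hw, hvw⟩ : ∃ w ∈ perp B H, B v w ≠ 0 := by
    by_contra hcon
    push Not at hcon
    exact hv0 (nP v hv hcon)
  set H' : Submodule F V := Submodule.span F {v, w} with hH'
  have hmem : ∀ x, x ∈ H' ↔ ∃ c d : F, c • v + d • w = x := fun x => Submodule.mem_span_pair
  have hH'P : H' ≤ perp B H := by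
    rw [hH', Submodule.span_le]
    rintro x (rfl | rfl)
    · exact hv
    · exact hw
  have hwv : B w v = - B v w := hB.neg _ _
  have nH' : Nd B H' := by
    intro x hx h0
    obtain ⟨c, d, rfl⟩ := (hmem x).1 hx
    have h4 := h0 v (Submodule.subset_span (by simp))
    have h5 := h0 w (Submodule.subset_span (by simp))
    simp only [map_add, map_smul, LinearMap.add_apply, LinearMap.smul_apply, smul_eq_mul, hB v, hB w, hwv,
      mul_zero, zero_add, add_zero, mul_neg, neg_eq_zero] at h4 h5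
    rw [(mul_eq_zero.1 h4).resolve_right hvw, (mul_eq_zero.1 h5).resolve_right hvw, zero_smul, zero_smul, add_zero]
  have hf' : Module.finrank F H' = 2 := by
    have hli : LinearIndependent F ![v, w] := by
      rw [LinearIndependent.pair_iff]
      intro c d hcd
      have h4 := congrArg (fun t => B t w) hcd
      have h5 := congrArg (fun t => B t v) hcd
      simp only [map_add, map_smul, LinearMap.add_apply, LinearMap.smul_apply, smul_eq_mul, hB v, hB w, hwv,
        mul_zero, zero_add, add_zero, mul_neg, neg_eq_zero, map_zero, LinearMap.zero_apply] at h4 h5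
      exact ⟨(mul_eq_zero.1 h4).resolve_right hvw, (mul_eq_zero.1 h5).resolve_right hvw⟩
    have := finrank_span_eq_card hli
    rw [Matrix.range_cons, Matrix.range_cons, Matrix.range_empty, Set.union_empty] at this
    rw [hH', Set.insert_eq]
    simpa using this
  have hgH' : ∀ x ∈ H', ng g x = x := by
    intro x hx
    rw [ng_apply, hne x (hH'P hx), neg_neg]
  have iH' : Inv (ng g) H' := fun x hx => by rw [hgH' x hx]; exact hx
  refine prB_id_plane hB hN hV (ng_iso hg) nH' iH' hf' hgH' ?_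
  obtain ⟨u, hu, hu0⟩ : ∃ u ∈ perp B H ⊓ perp B H', u ≠ 0 := by
    apply Submodule.exists_mem_ne_zero_of_ne_bot
    intro h0
    have e1 := Submodule.finrank_sup_add_finrank_inf_eq (perp B H) (perp B H')
    have e2 := Submodule.finrank_add_eq_of_isCompl (isCompl_perp hB nH')
    have e3 := Submodule.finrank_le (perp B H ⊔ perp B H')
    rw [h0, finrank_bot] at e1
    omega
  refine ⟨u, hu.2, ?_⟩
  rw [ng_apply, hne u hu.1, neg_neg]
  intro h0
  apply hu0
  have h4 : (2 : F) • u = 0 := by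
    rw [two_smul]
    nth_rewrite 1 [h0]
    exact neg_add_cancel u
  exact (smul_eq_zero.1 h4).resolve_left h2

/-- a plane: `g = 1` or `-g` is `C1` -/
theorem plane_cases {B : LinearMap.BilinForm F V} (hB : Alt B) {g : V ≃ₗ[F] V} (hg : Iso B g)
    {H : Submodule F V} (nH : Nd B H) (iH : Inv g H) (hf : Module.finrank F H = 2) :
    (∀ v ∈ H, g v = v) ∨ C1On B (ng g) H := by
  obtain ⟨R, S, o, iR, iS, nR, nS, htop, cR, cS⟩ := exists_dec2 hB hg (Module.finrank F H) H iH nH rfl
  obtain ⟨a, ha⟩ := rank_of_c1 hB nR iR cR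
  obtain ⟨b, hb⟩ := rank_of_c1 hB nS (inv_ng iS) cS
  have hd : Disjoint R S := by
    rw [Submodule.disjoint_def]
    intro t ht ht'
    exact nR t ht (fun u hu => hB.zero (o u hu t ht'))
  have hab : a + b = 1 := by
    have h1 := Submodule.finrank_sup_add_finrank_inf_eq R S
    rw [htop, hd.eq_bot, finrank_bot, hf, ha, hb] at h1
    omega
  rcases (show (a = 1 ∧ b = 0) ∨ (a = 0 ∧ b = 1) by omega) with ⟨rfl, rfl⟩ | ⟨rfl, rfl⟩
  · have hS0 : S = ⊥ := Submodule.finrank_eq_zero.1 hb
    rw [hS0, sup_bot_eq] at htop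
    subst htop
    by_cases h1 : ∀ v ∈ R, g v = v
    · exact Or.inl h1
    · right
      obtain ⟨v, hv, hgv⟩ := exists_nonscalar nH iH hf cR h1
      exact c1On_neg hB iH hf hv hgv
  · have hR0 : R = ⊥ := Submodule.finrank_eq_zero.1 ha
    rw [hR0, bot_sup_eq] at htop
    subst htop
    exact Or.inr cS

omit [Finite F] in
theorem exists_x3 {P₁ : Type*} [AddCommGroup P₁] [Module F P₁] [FiniteDimensional F P₁]
    (h : Module.finrank F P₁ = 3) : ∃ (x : P₁ ≃ₗ[F] P₁) (f : F[X]),
      (∀ v, aeval (x : Module.End F P₁) f v = 0) ∧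
      (∀ v, aeval ((x⁻¹ : P₁ ≃ₗ[F] P₁) : Module.End F P₁) f v = 0 → v = 0) ∧ (∀ v, x v = v → v = 0) ∧
      x ^ kk = 1 := by
  have hf : Fac (F1.map (ι3 F)) (F2.map (ι3 F)) kk (LinearMap.id : P₁ →ₗ[F] P₁) := by
    let e : P₁ ≃ₗ[F] ((Fin 3 → F) × (Fin 0 → F)) := LinearEquiv.ofFinrankEq _ _ (by simp [h])
    refine (fd_D30 F).conj e (fun v => ?_)
    change e v = ((e v).1, -(e v).2)
    refine Prod.ext rfl (Subsingleton.elim _ _)
  obtain ⟨x, y, _, h1, h2, _, _, h5, _⟩ := hf
  refine ⟨x, F1.map (ι3 F), h1, fun v hv => inj_of_cop (cop_map F) h2 v hv, fun v hv => ?_, h5⟩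
  have h6 := h1 v
  rw [aeval_fix hv] at h6
  refine (smul_eq_zero.1 h6).resolve_left ?_
  rw [eval_map, eval₂_at_one, ← map_zero (ι3 F)]
  intro h7
  have h8 := (ι3 F).injective h7
  have h9 : eval 1 F1 = 2 := by
    rw [F1_eq]
    simp only [eval_mul, toP, l3, l5, l7]
    simp
    decide
  rw [h9] at h8
  exact absurd h8 (by decide)

theorem prB_c1_eight {B : LinearMap.BilinForm F V} (hB : Alt B) (hN : Nond B)
    (hV : Module.finrank F V = 8) {g : V ≃ₗ[F] V} (hg : Iso B g) (h : C1 B g) : PrB B 6 g := by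
  have h3 : (3 : F) = 0 := by exact_mod_cast CharP.cast_eq_zero F 3
  have h2 : (2 : F) ≠ 0 := by
    intro h0
    have : (1 : F) = 0 := by linear_combination h3 - h0
    exact one_ne_zero this
  have hodd : Nat.card F % 2 = 1 := by
    have : Fintype F := Fintype.ofFinite F
    rw [Nat.card_eq_fintype_card]
    apply FiniteField.odd_card_of_char_ne_two
    intro h0
    apply h2
    have := ringChar.Nat.cast_ringChar (R := F)
    rw [h0] at this
    exact_mod_cast this
  exact c1_four hB hN hodd h2 hV hg h kk_cop (fun P₁ hP₁ => exists_x3 hP₁)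

/-- **Dimension eight.** -/
theorem prB_eight {B : LinearMap.BilinForm F V} (hB : Alt B) (hN : Nond B)
    (hV : Module.finrank F V = 8) {g : V ≃ₗ[F] V} (hg : Iso B g) : PrB B 6 g ∨ PrB B 6 (ng g) := by
  obtain ⟨P, Q, R, o1, o2, o3, i1, i2, i3, n1, n2, n3, hsup, hC, hex, hR⟩ :=
    exists_dec hB hg (Module.finrank F (⊤ : Submodule F V)) ⊤ (fun v _ => trivial)
      (fun v _ h => hN v (fun w => h w trivial)) rfl
  have c1top : ∀ {h : V ≃ₗ[F] V} {T : Submodule F V}, T = ⊤ → C1On B h T → C1 B h := by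
    rintro h T rfl ⟨W, W', h1, h2, h3, h4⟩
    exact ⟨W, W', h1, h2, h3, h4⟩
  rcases hex with ⟨h3, h4⟩ | ⟨h3, hQI, hE1, a, ha, ha0, _⟩
  · rw [h3, h4, sup_bot_eq, sup_bot_eq] at hsup
    exact Or.inl (prB_c1_eight hB hN hV hg (c1top hsup hC))
  have hle := Submodule.finrank_le Q
  have hf2 := Submodule.finrank_add_eq_of_isCompl (isCompl_perp hB n2)
  rcases (show a = 0 ∨ a = 1 by omega) with rfl | rfl
  · have hgQ : ∀ v ∈ Q, ng g v = v := fun v hv => congrArg Subtype.val (ha0 rfl ⟨v, hv⟩)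
    have := prB_id_plane' hB hN hV (ng_iso hg) n2 (inv_ng hQI) ha hgQ
    rw [ng_ng] at this
    exact this.symm
  · have iH := inv_perp hg hQI
    have nH := nd_perp hB hN n2
    rcases plane_cases hB hg nH iH (by omega) with h5 | h5
    · exact prB_id_plane' hB hN hV hg nH iH (by omega) h5
    · right
      have hCQ : C1On B (ng g) Q := by
        apply c1On_of_c1 (inv_ng hQI)
        have : gr (ng g) Q (inv_ng hQI) = ng (gr g Q hQI) := by
          ext w
          rfl
        rw [this]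
        exact hE1
      have h6 := C1On.sup hB (orth_perp Q) hCQ h5
      exact prB_c1_eight hB hN hV (ng_iso hg) (c1top (sup_perp hB n2) h6)

/-- **`PSp_8(3^k)`** -/
theorem six_psp_eight {F : Type*} [Field F] [Fintype F] [CharP F 3] : H78.Pw.All 6 (PSp 4 F) := by
  intro x
  obtain ⟨g, rfl⟩ := QuotientGroup.mk'_surjective _ x
  have hV : Module.finrank F (Fin 4 ⊕ Fin 4 → F) = 8 := by
    rw [Module.finrank_fintype_fun_eq_card, Fintype.card_sum, Fintype.card_fin]
  rcases prB_eight Cfsg.Agent.S2445.form_alt Cfsg.Agent.S2445.form_nond hV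
    (Cfsg.Agent.S2445.act_iso g) with h | h
  · exact (pr_of_prB h).map _
  · have := (pr_mk h).map (QuotientGroup.mk' (Subgroup.center (Matrix.symplecticGroup (Fin 4) F)))
    rwa [neg_mk] at this

/-- **`PSp_2m(3^k)`, `m ≥ 3`** -/
theorem six_psp_three' {F : Type*} [Field F] [Fintype F] [CharP F 3] (m : ℕ) (h3 : 3 ≤ m) :
    H78.Pw.All 6 (PSp m F) := by
  by_cases h4 : m = 4
  · subst h4
    exact six_psp_eight
  · exact six_psp_three m h3 h4

end Cfsg.Agent.H649.PwSp
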