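import Mathlib
import Cfsg.Agent.H649.PwSp.Three

/-!
# `All 6` of `PSp_4(3^k)`, `k ≥ 3`
-/

set_option autoImplicit false
open Polynomial

noncomputable section

namespace Cfsg.Agent.H649.PwSp

open Cfsg.Agent.H144

/-- `3 ^ e - 1` is not a power of two for `e ≥ 3` -/
theorem exists_factor3 {e : ℕ} (he : 3 ≤ e) : ∃ j k : ℕ, 3 ^ e - 1 = 2 ^ j * k ∧ k.Coprime 6 ∧ 3 ≤ k := by
  have hpos : 27 ≤ 3 ^ e := by
    calc 27 = 3 ^ 3 := by norm_num
      _ ≤ 3 ^ e := Nat.pow_le_pow_right (by norm_num) he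
  obtain ⟨j, k, hk, hjk⟩ := Nat.exists_eq_pow_mul_and_not_dvd (n := 3 ^ e - 1) (by omega) 2 (by norm_num)
  have h3 : 3 ∣ 3 ^ e := dvd_pow_self 3 (by omega)
  have hk3 : ¬ 3 ∣ k := by
    rintro ⟨c, rfl⟩
    rw [show 2 ^ j * (3 * c) = 3 * (2 ^ j * c) by ring] at hjk
    omega
  refine ⟨j, k, hjk, ?_, ?_⟩
  · rw [show (6 : ℕ) = 2 * 3 by rfl]
    apply Nat.Coprime.mul_right
    · rw [Nat.coprime_comm, Nat.Prime.coprime_iff_not_dvd Nat.prime_two]
      exact hk
    · rw [Nat.coprime_comm, Nat.Prime.coprime_iff_not_dvd Nat.prime_three]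
      exact hk3
  · by_contra hlt
    have h4 : k = 0 ∨ k = 1 ∨ k = 2 := by omega
    rcases h4 with rfl | rfl | rfl
    · simp at hk
    · rw [mul_one] at hjk
      have hj : 4 ≤ j := by
        by_contra hj
        have : 2 ^ j ≤ 2 ^ 3 := Nat.pow_le_pow_right (by norm_num) (by omega)
        omega
      have h16 : 16 ∣ 2 ^ j := by
        rw [show (16 : ℕ) = 2 ^ 4 by norm_num]
        exact pow_dvd_pow 2 hj
      have h81 : ∀ t : ℕ, 81 ^ t % 80 = 1 := by
        intro t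
        induction t with
        | zero => norm_num
        | succ t ih => rw [pow_succ, Nat.mul_mod, ih]
      have hmod : 3 ^ e % 80 = 3 ^ (e % 4) % 80 := by
        conv_lhs => rw [← Nat.div_add_mod e 4, pow_add, pow_mul]
        rw [Nat.mul_mod, show (3 : ℕ) ^ 4 = 81 by norm_num, h81, one_mul, Nat.mod_mod]
      have hr : e % 4 = 0 ∨ e % 4 = 1 ∨ e % 4 = 2 ∨ e % 4 = 3 := by omega
      rcases hr with h | h | h | h <;> rw [h] at hmod <;> norm_num at hmod
      · have h5 : 5 ∣ 2 ^ j := by omega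
        have := (Nat.Prime.dvd_of_dvd_pow (by norm_num) h5)
        omega
      · omega
      · omega
      · omega
    · omega

theorem exists_nu {F : Type*} [Field F] [Fintype F] [CharP F 3] (h27 : 27 ≤ Fintype.card F) :
    ∃ (a : F) (k : ℕ), a ≠ 0 ∧ a ≠ 1 ∧ a ^ k = 1 ∧ k.Coprime 6 := by
  have : Fact (Nat.Prime 3) := ⟨Nat.prime_three⟩
  obtain ⟨e, he, hcard⟩ := FiniteField.card F 3
  have he3 : 3 ≤ (e : ℕ) := by
    by_contra hlt
    have h1 : (3 : ℕ) ^ (e : ℕ) ≤ 3 ^ 2 := Nat.pow_le_pow_right (by norm_num) (by omega)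
    omega
  obtain ⟨j, k, hjk, hk6, hk3⟩ := exists_factor3 he3
  classical
  obtain ⟨u, hu⟩ := IsCyclic.exists_generator (α := Fˣ)
  have hord : orderOf u = 2 ^ j * k := by
    rw [orderOf_eq_card_of_forall_mem_zpowers hu, Nat.card_eq_fintype_card, Fintype.card_units, hcard, hjk]
  have hk0 : 0 < 2 ^ j := by positivity
  have hord' : orderOf (u ^ 2 ^ j) = k := by
    rw [orderOf_pow' u hk0.ne', hord, Nat.gcd_eq_right (Dvd.intro _ rfl), Nat.mul_div_cancel_left _ hk0]
  refine ⟨((u ^ 2 ^ j : Fˣ) : F), k, Units.ne_zero _, fun h0 => ?_, ?_, hk6⟩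
  · have h1 : (u ^ 2 ^ j) = 1 := Units.ext h0
    rw [h1, orderOf_one] at hord'
    omega
  · rw [← Units.val_pow_eq_pow_val, ← hord', pow_orderOf_eq_one, Units.val_one]

section

variable {F : Type*} [Field F]

theorem aeval_quad {P : Type*} [AddCommGroup P] [Module F P] (x : P ≃ₗ[F] P) (a b : F) (v : P) :
    aeval (x : Module.End F P) ((X - C a) * (X - C b) : F[X]) v = x (x v - b • v) - a • (x v - b • v) := by
  rw [map_mul, map_sub, map_sub, aeval_X, aeval_C, aeval_C]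
  rfl

theorem pow_of_quad {P : Type*} [AddCommGroup P] [Module F P] (x : P ≃ₗ[F] P) {a b : F} (hab : a ≠ b) {k : ℕ}
    (ha : a ^ k = 1) (hb : b ^ k = 1)
    (h : ∀ v, aeval (x : Module.End F P) ((X - C a) * (X - C b) : F[X]) v = 0) : x ^ k = 1 := by
  have h1 : (X - C a) * (X - C b) ∣ (X ^ k - 1 : F[X]) := by
    apply IsCoprime.mul_dvd (Polynomial.pairwise_coprime_X_sub_C Function.injective_id hab)
    · exact dvd_iff_isRoot.2 (by simp [ha])
    · exact dvd_iff_isRoot.2 (by simp [hb])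
  obtain ⟨q, hq⟩ := h1
  apply LinearEquiv.ext
  intro v
  have h2 : aeval (x : Module.End F P) (X ^ k - 1 : F[X]) v = 0 := by
    rw [hq, mul_comm, map_mul, Module.End.mul_apply, h, map_zero]
  rw [map_sub, map_pow, aeval_X, map_one, LinearMap.sub_apply, Module.End.one_apply, sub_eq_zero] at h2
  have h3 : ∀ j : ℕ, ((x : Module.End F P) ^ j) v = (x ^ j) v := by
    intro j
    induction j with
    | zero => rfl
    | succ j ih => rw [pow_succ', pow_succ', Module.End.mul_apply, ih, LinearEquiv.mul_apply]; rfl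
  rw [← h3, h2]
  rfl

theorem cop_quad {a b c d : F} (h1 : a ≠ c) (h2 : a ≠ d) (h3 : b ≠ c) (h4 : b ≠ d) :
    IsCoprime ((X - C a) * (X - C b) : F[X]) ((X - C c) * (X - C d)) := by
  have h : ∀ {a b : F}, a ≠ b → IsCoprime (X - C a : F[X]) (X - C b) := fun hab =>
    Polynomial.pairwise_coprime_X_sub_C Function.injective_id hab
  exact IsCoprime.mul_left (IsCoprime.mul_right (h h1) (h h2)) (IsCoprime.mul_right (h h3) (h h4))

/-- `x = [[α, 0], [α, β]]` -/
def xq (α β : F) (hα : α ≠ 0) (hβ : β ≠ 0) : (F × F) ≃ₗ[F] (F × F) where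
  toFun w := (α * w.1, α * w.1 + β * w.2)
  map_add' v w := by
    simp only [Prod.fst_add, Prod.snd_add, Prod.mk_add_mk, mul_add, Prod.mk.injEq, true_and]
    ring
  map_smul' c v := by
    simp only [Prod.smul_fst, Prod.smul_snd, smul_eq_mul, RingHom.id_apply, Prod.smul_mk, Prod.mk.injEq]
    constructor <;> ring
  invFun w := (α⁻¹ * w.1, β⁻¹ * (w.2 - w.1))
  left_inv w := by
    ext
    · simp [hα]
    · simp [hβ]
  right_inv w := by
    ext
    · simp [hα]
    · simp only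
      rw [mul_inv_cancel_left₀ hα, mul_inv_cancel_left₀ hβ]
      ring

/-- `y = [[α⁻¹, α⁻¹], [0, β⁻¹]]` -/
def yq (α β : F) (hα : α ≠ 0) (hβ : β ≠ 0) : (F × F) ≃ₗ[F] (F × F) where
  toFun w := (α⁻¹ * w.1 + α⁻¹ * w.2, β⁻¹ * w.2)
  map_add' v w := by
    simp only [Prod.fst_add, Prod.snd_add, Prod.mk_add_mk, mul_add, Prod.mk.injEq, and_true]
    ring
  map_smul' c v := by
    simp only [Prod.smul_fst, Prod.smul_snd, smul_eq_mul, RingHom.id_apply, Prod.smul_mk, Prod.mk.injEq]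
    constructor <;> ring
  invFun w := (α * w.1 - β * w.2, β * w.2)
  left_inv w := by
    ext
    · simp only
      rw [mul_inv_cancel_left₀ hβ]
      field_simp
      ring
    · simp [hβ]
  right_inv w := by
    ext
    · simp only
      field_simp
      ring
    · simp [hβ]

theorem fac_j (h3 : (3 : F) = 0) {α β : F} (hα : α ≠ 0) (hβ : β ≠ 0) (hne : α ≠ β) {k : ℕ} (ha : α ^ k = 1)
    (hb : β ^ k = 1) : Fac ((X - C α) * (X - C β) : F[X]) ((X - C α⁻¹) * (X - C β⁻¹)) k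
      ((jj F).prodMap (std F 0 0)) := by
  have q1 : ∀ v, aeval ((xq α β hα hβ : (F × F) ≃ₗ[F] (F × F)) : Module.End F (F × F))
      ((X - C α) * (X - C β) : F[X]) v = 0 := by
    intro v
    rw [aeval_quad]
    ext
    · change α * (α * v.1 - β * v.1) - α * (α * v.1 - β * v.1) = 0
      ring
    · change (α * (α * v.1 - β * v.1) + β * ((α * v.1 + β * v.2) - β * v.2)) - α * ((α * v.1 + β * v.2) - β * v.2) = 0
      ring
  have q2 : ∀ v, aeval (((xq α β hα hβ)⁻¹ : (F × F) ≃ₗ[F] (F × F)) : Module.End F (F × F))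
      ((X - C α⁻¹) * (X - C β⁻¹) : F[X]) v = 0 := by
    intro v
    rw [aeval_quad]
    ext
    · change α⁻¹ * (α⁻¹ * v.1 - β⁻¹ * v.1) - α⁻¹ * (α⁻¹ * v.1 - β⁻¹ * v.1) = 0
      ring
    · change (β⁻¹ * ((β⁻¹ * (v.2 - v.1) - β⁻¹ * v.2) - (α⁻¹ * v.1 - β⁻¹ * v.1))) -
        α⁻¹ * (β⁻¹ * (v.2 - v.1) - β⁻¹ * v.2) = 0
      ring
  have q3 : ∀ v, aeval ((yq α β hα hβ : (F × F) ≃ₗ[F] (F × F)) : Module.End F (F × F))
      ((X - C α⁻¹) * (X - C β⁻¹) : F[X]) v = 0 := by
    intro v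
    rw [aeval_quad]
    ext
    · change (α⁻¹ * ((α⁻¹ * v.1 + α⁻¹ * v.2) - β⁻¹ * v.1) + α⁻¹ * (β⁻¹ * v.2 - β⁻¹ * v.2)) -
        α⁻¹ * ((α⁻¹ * v.1 + α⁻¹ * v.2) - β⁻¹ * v.1) = 0
      ring
    · change β⁻¹ * (β⁻¹ * v.2 - β⁻¹ * v.2) - α⁻¹ * (β⁻¹ * v.2 - β⁻¹ * v.2) = 0
      ring
  have q4 : ∀ v, aeval (((yq α β hα hβ)⁻¹ : (F × F) ≃ₗ[F] (F × F)) : Module.End F (F × F))
      ((X - C α) * (X - C β) : F[X]) v = 0 := by
    intro v
    rw [aeval_quad]
    ext
    · change (α * ((α * v.1 - β * v.2) - β * v.1) - β * (β * v.2 - β * v.2)) -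
        α * ((α * v.1 - β * v.2) - β * v.1) = 0
      ring
    · change β * (β * v.2 - β * v.2) - α * (β * v.2 - β * v.2) = 0
      ring
  have hM : Fac ((X - C α) * (X - C β) : F[X]) ((X - C α⁻¹) * (X - C β⁻¹)) k
      ({ toFun := fun w => (w.1 + w.2, w.1 + 2 * w.2)
         map_add' := fun v w => by
           simp only [Prod.fst_add, Prod.snd_add, Prod.mk_add_mk, Prod.mk.injEq]
           constructor <;> ring
         map_smul' := fun c v => by
           simp only [Prod.smul_fst, Prod.smul_snd, smul_eq_mul, RingHom.id_apply, Prod.smul_mk, Prod.mk.injEq]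
           constructor <;> ring } : (F × F) →ₗ[F] (F × F)) := by
    refine ⟨xq α β hα hβ, yq α β hα hβ, fun v => ?_, q1, q2, q3, q4, pow_of_quad _ hne ha hb q1,
      pow_of_quad _ (fun h => hne (inv_injective h)) (by rw [inv_pow, ha, inv_one]) (by rw [inv_pow, hb, inv_one]) q3⟩
    ext
    · change α * (α⁻¹ * v.1 + α⁻¹ * v.2) = v.1 + v.2
      field_simp
    · change α * (α⁻¹ * v.1 + α⁻¹ * v.2) + β * (β⁻¹ * v.2) = v.1 + 2 * v.2
      field_simp
      ring
  let e : ((F × F) × ((Fin 0 → F) × (Fin 0 → F))) ≃ₗ[F] (F × F) :=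
    { toFun := fun w => (w.1.1 - w.1.2, -w.1.2)
      map_add' := fun v w => by
        simp only [Prod.fst_add, Prod.snd_add, Prod.mk_add_mk, Prod.mk.injEq]
        constructor <;> ring
      map_smul' := fun c v => by
        simp only [Prod.smul_fst, Prod.smul_snd, smul_eq_mul, RingHom.id_apply, Prod.smul_mk, Prod.mk.injEq]
        constructor <;> ring
      invFun := fun w => ((w.1 - w.2, -w.2), (0, 0))
      left_inv := fun w => by
        refine Prod.ext (Prod.ext ?_ ?_) (Prod.ext (Subsingleton.elim _ _) (Subsingleton.elim _ _))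
        · simp
        · simp
      right_inv := fun w => by
        refine Prod.ext ?_ ?_
        · simp
        · simp }
  refine hM.conj e ?_
  rintro ⟨⟨x, y⟩, w⟩
  change (y - -x, - -x) = ((x - y) + -y, (x - y) + 2 * -y)
  refine Prod.ext ?_ ?_
  · change y - -x = (x - y) + -y
    linear_combination y * h3
  · change - -x = (x - y) + 2 * -y
    linear_combination y * h3

end

variable {F V : Type*} [Field F] [Finite F] [AddCommGroup V] [Module F V] [FiniteDimensional F V]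

omit [Finite F] in
theorem c1_of_dat {B : LinearMap.BilinForm F V} {g : V ≃ₗ[F] V} {a : ℕ} (h : DatOn B g ⊤ a 0) : C1 B g := by
  obtain ⟨A, C, Q, h1, h2, h3, h4, h5, h6, h7, h8⟩ := h
  have hC : C = ⊥ := Submodule.finrank_eq_zero.1 h8
  rw [hC, sup_bot_eq] at h1 h3
  exact ⟨A, Q, h1, h2, h3, h5⟩

/-- **Dimension four** -/
theorem prB_four [CharP F 3] {B : LinearMap.BilinForm F V} (hB : Alt B) (hN : Nond B) (h3 : (3 : F) = 0)
    (hV : Module.finrank F V = 4) {g : V ≃ₗ[F] V} (hg : Iso B g) {ν : F} (hν : ν ≠ 0) (hν1 : ν ≠ 1) {k : ℕ}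
    (hk : ν ^ k = 1) (hk6 : k.Coprime 6) : PrB B 6 g ∨ PrB B 6 (ng g) := by
  have h2 : (2 : F) ≠ 0 := by
    intro h0
    have : (1 : F) = 0 := by linear_combination h3 - h0
    exact one_ne_zero this
  have hpow : ∀ j : ℕ, j.Coprime k → ν ^ j ≠ 1 := by
    intro j hj h0
    apply hν1
    have h4 : orderOf ν ∣ Nat.gcd j k := Nat.dvd_gcd (orderOf_dvd_of_pow_eq_one h0) (orderOf_dvd_of_pow_eq_one hk)
    rw [hj] at h4
    exact orderOf_eq_one_iff.1 (Nat.dvd_one.1 h4)
  have k2 : Nat.Coprime 2 k := (Nat.Coprime.coprime_dvd_right (by norm_num) hk6).symm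
  have k3 : Nat.Coprime 3 k := (Nat.Coprime.coprime_dvd_right (by norm_num) hk6).symm
  have e2 := hpow 2 k2
  have e3 := hpow 3 k3
  have e4 := hpow 4 (by rw [show (4 : ℕ) = 2 * 2 by rfl]; exact Nat.Coprime.mul_left k2 k2)
  have hsq : ν * ν ≠ 1 := by rw [← pow_two]; exact e2
  obtain ⟨R, S, o, iR, iS, nR, nS, htop, cR, cS⟩ :=
    exists_dec2 hB hg (Module.finrank F (⊤ : Submodule F V)) ⊤ (fun v _ => trivial)
      (fun v _ h => hN v (fun w => h w trivial)) rfl
  obtain ⟨a, ha⟩ := rank_of_c1 hB nR iR cR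
  obtain ⟨b, hb⟩ := rank_of_c1 hB nS (inv_ng iS) cS
  have hd : Disjoint R S := by
    rw [Submodule.disjoint_def]
    intro t ht ht'
    exact nR t ht (fun u hu => hB.zero (o u hu t ht'))
  have hab : a + b = 2 := by
    have h1 := Submodule.finrank_sup_add_finrank_inf_eq R S
    rw [htop, hd.eq_bot, finrank_top, finrank_bot, hV, ha, hb] at h1
    omega
  have iS' := inv_ng iS
  have dS : DatOn B g S 0 b := by
    have := (dat_c1 hB nS iS' hb cS).neg
    rwa [ng_ng] at this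
  have dR : DatOn B g R a 0 := dat_c1 hB nR iR ha cR
  have fin20 : DatOn B g ⊤ 2 0 → PrB B 6 g := fun h => prB_c1_sc hB hN hg (c1_of_dat h) hν hsq hk hk6
  have fin02 : DatOn B g ⊤ 0 2 → PrB B 6 (ng g) := fun h =>
    prB_c1_sc hB hN (ng_iso hg) (c1_of_dat h.neg) hν hsq hk hk6
  rcases (show (a = 2 ∧ b = 0) ∨ (a = 1 ∧ b = 1) ∨ (a = 0 ∧ b = 2) by omega)
    with ⟨rfl, rfl⟩ | ⟨rfl, rfl⟩ | ⟨rfl, rfl⟩
  · left
    apply fin20
    have h1 := DatOn.sup hB o hd dR dS
    rwa [htop] at h1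
  · by_cases hcR : ∃ v ∈ R, g v ≠ v
    · right
      apply fin02
      have h1 := DatOn.sup hB o hd (dat_refl hB h2 hg nR iR ha cR hcR) dS
      rwa [htop] at h1
    left
    by_cases hcS : ∃ v ∈ S, ng g v ≠ v
    · apply fin20
      have h0 := (dat_refl hB h2 (ng_iso hg) nS iS' hb cS hcS).neg
      rw [ng_ng] at h0
      have h1 := DatOn.sup hB o hd dR h0
      rwa [htop] at h1
    push Not at hcR hcS
    have gS : ∀ v ∈ S, g v = -v := by
      intro v hv
      have := hcS v hv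
      rw [ng_apply] at this
      rw [← this, neg_neg, this]
    have hν2 : ν ^ 2 ≠ 0 := pow_ne_zero 2 hν
    refine prB_mixed hB hN h3 hg o nR nS iR iS' htop hcR gS cR cS (a := 0) (b := 0) ha hb
      (f₁ := (X - C ν) * (X - C (ν ^ 2))) (f₂ := (X - C ν⁻¹) * (X - C (ν ^ 2)⁻¹)) (k := k)
      (cop_quad ?_ ?_ ?_ ?_) hk6 (fac_j h3 hν hν2 ?_ hk (by rw [← pow_mul, mul_comm, pow_mul, hk, one_pow]))
    · intro h0
      apply e2
      rw [pow_two]
      nth_rewrite 1 [h0]
      exact inv_mul_cancel₀ hν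
    · intro h0
      apply e3
      rw [pow_succ']
      nth_rewrite 1 [h0]
      exact inv_mul_cancel₀ hν2
    · intro h0
      apply e3
      rw [pow_succ]
      rw [h0]
      exact inv_mul_cancel₀ hν
    · intro h0
      apply e4
      rw [show (4 : ℕ) = 2 + 2 by rfl, pow_add]
      nth_rewrite 1 [h0]
      exact inv_mul_cancel₀ hν2
    · intro h0
      apply hν1
      have h5 : ν * 1 = ν * ν := by rw [mul_one, ← pow_two]; exact h0
      exact (mul_left_cancel₀ hν h5).symm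
  · right
    apply fin02
    have h1 := DatOn.sup hB o hd dR dS
    rwa [htop] at h1

/-- **`PSp_4(3^k)`, `k ≥ 3`** -/
theorem six_psp_four {F : Type*} [Field F] [Fintype F] [CharP F 3] (h27 : 27 ≤ Fintype.card F) :
    H78.Pw.All 6 (PSp 2 F) := by
  intro x
  obtain ⟨g, rfl⟩ := QuotientGroup.mk'_surjective _ x
  have h3 : (3 : F) = 0 := by exact_mod_cast CharP.cast_eq_zero F 3
  obtain ⟨ν, k, hν, hν1, hk, hk6⟩ := exists_nu h27
  have hV : Module.finrank F (Fin 2 ⊕ Fin 2 → F) = 4 := by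
    rw [Module.finrank_fintype_fun_eq_card, Fintype.card_sum, Fintype.card_fin]
  rcases prB_four Cfsg.Agent.S2445.form_alt Cfsg.Agent.S2445.form_nond h3 hV
    (Cfsg.Agent.S2445.act_iso g) hν hν1 hk hk6 with h | h
  · exact (pr_of_prB h).map _
  · have := (pr_mk h).map (QuotientGroup.mk' (Subgroup.center (Matrix.symplecticGroup (Fin 2) F)))
    rwa [neg_mk] at this

end Cfsg.Agent.H649.PwSp
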