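import Mathlib
import Cfsg.Agent.H700.PwU.Row
import Cfsg.Agent.S0822
import Cfsg.Agent.Lib.FieldFour

/-!
# `All 6` of `PSp_4(3)`, from `PSU_4(2)`
-/

set_option autoImplicit false

noncomputable section

namespace Cfsg.Agent.H649.PwSp

theorem six_psp_four_three {F : Type*} [Field F] [Fintype F] (hF : Fintype.card F = 3) : H78.Pw.All 6 (PSp 2 F) := by
  obtain ⟨e⟩ := S0822.result (F := Cfsg.Agent.Lib.FieldFour.F4) (K := F) Cfsg.Agent.Lib.FieldFour.F4.card hF
  exact (H700.PwU.six_psu (F := Cfsg.Agent.Lib.FieldFour.F4) 4 2 le_rfl Cfsg.Agent.Lib.FieldFour.F4.card).congr e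

end Cfsg.Agent.H649.PwSp
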