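import Mathlib
import Cfsg.Agent.H649.PwSp.Eight
import Cfsg.Agent.H649.PwSp.RankTwo
import Cfsg.Agent.H649.PwSp.SmallThree

/-!
# `All 6` of the groups `PSp_2m(3^k)`: summary
-/

set_option autoImplicit false

noncomputable section

namespace Cfsg.Agent.H649.PwSp

/-- **`PSp_2m(3^k)`, all `m ≥ 2`**, from `PSp_4(9)` -/
theorem six_psp_char_three (h9 : ∀ (F : Type) [Field F] [Fintype F], Fintype.card F = 9 → H78.Pw.All 6 (PSp 2 F))
    (F : Type) [Field F] [Fintype F] [CharP F 3] (m : ℕ) (hm : 2 ≤ m) : H78.Pw.All 6 (PSp m F) := by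
  rcases Nat.lt_or_ge m 3 with h | h
  swap
  · exact six_psp_three' m h
  have hm2 : m = 2 := by omega
  subst hm2
  have : Fact (Nat.Prime 3) := ⟨Nat.prime_three⟩
  obtain ⟨e, he, hcard⟩ := FiniteField.card F 3
  obtain ⟨k, hk⟩ : ∃ k : ℕ, k = (e : ℕ) := ⟨_, rfl⟩
  rw [← hk] at hcard
  have hk0 : k ≠ 0 := by rw [hk]; exact e.ne_zero
  rcases (show k = 1 ∨ k = 2 ∨ 3 ≤ k by omega) with rfl | rfl | h3
  · exact six_psp_four_three (by rw [hcard]; norm_num)
  · exact h9 F (by rw [hcard]; norm_num)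
  · apply six_psp_four
    rw [hcard]
    calc 27 = 3 ^ 3 := by norm_num
      _ ≤ 3 ^ k := Nat.pow_le_pow_right (by norm_num) h3

end Cfsg.Agent.H649.PwSp
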