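import Mathlib
import Cfsg.Agent.H649.PwSp.Row
import Cfsg.Agent.H538.Pw.SpNine
import Cfsg.Agent.H240.Sp44.Main

/-!
# `All 6` of `PSp_2m(2^k)`, `PSp_2m(3^k)`: complete
-/

set_option autoImplicit false

noncomputable section

namespace Cfsg.Agent.H649.PwSp

/-- **`PSp_2m(3^k)`, all `m ≥ 2`** (hypothesis `h3` of `H346.PwRows.row_psp`) -/
theorem six_psp_all_three (F : Type) [Field F] [Fintype F] [CharP F 3] (m : ℕ) (hm : 2 ≤ m) :
    H78.Pw.All 6 (PSp m F) :=
  six_psp_char_three (fun _ _ _ h => Cfsg.Agent.H538.Pw.SpNine.six_psp_nine h) F m hm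

/-- **`PSp_4(4)`** (hypothesis `h4` of `H346.PwRows.row_psp`) -/
theorem six_psp_four_four (F : Type) [Field F] [Fintype F] (hF : Fintype.card F = 4) :
    H78.Pw.All 6 (PSp 2 F) := Cfsg.Agent.H240.Sp44.six_psp_two_four hF

end Cfsg.Agent.H649.PwSp
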